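import Groth.Agent.S5178
import Groth.Agent.RelDim.CMFibre
import Groth.Agent.Hensel.Completion
import Mathlib.RingTheory.AdicCompletion.LocalRing
import Mathlib.RingTheory.Regular.Flat

/-!
# Complete intersection quotients of regular local rings
-/

set_option autoImplicit false

universe u

open IsLocalRing RingTheory.Sequence

namespace Groth.Agent.Synt44

/-- The minimal number of generators of an ideal does not change under completion. -/
theorem spanFinrank_map_completion {R : Type u} [CommRing R] [IsLocalRing R] [IsNoetherianRing R] (I : Ideal R) :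
    (I.map (algebraMap R (AdicCompletion (maximalIdeal R) R))).spanFinrank = I.spanFinrank := by
  classical
  let T := AdicCompletion (maximalIdeal R) R
  haveI : IsNoetherianRing T :=
    RegLoc.AdicNoeth.isNoetherianRing_adicCompletion _ (IsNoetherian.noetherian (maximalIdeal R))
  haveI : Module.FaithfullyFlat R T := Module.FaithfullyFlat.of_flat_of_isLocalHom
  refine le_antisymm (Ideal.spanFinrank_map_le_of_fg _ (IsNoetherian.noetherian I)) ?_
  obtain ⟨s, hs, hsI⟩ := Submodule.FG.exists_span_finset_card_eq_spanFinrank (IsNoetherian.noetherian (I.map (algebraMap R T)))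
  have hres : ∀ t : T, ∃ a : R, t - algebraMap R T a ∈ maximalIdeal T := fun t => by
    obtain ⟨b, hb⟩ := (AdicCompletion.residueField_map_bijective R).2 (residue T t)
    obtain ⟨a, rfl⟩ := residue_surjective b
    rw [IsLocalRing.ResidueField.map_residue] at hb
    exact ⟨a, (Ideal.Quotient.eq).1 hb.symm⟩
  have hred : ∀ y ∈ s, ∃ x ∈ I, y - algebraMap R T x ∈ maximalIdeal T * I.map (algebraMap R T) := by
    intro y hy
    have hy' : y ∈ I.map (algebraMap R T) := hsI ▸ Submodule.subset_span hy
    rw [Ideal.map, Submodule.mem_span_set'] at hy'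
    obtain ⟨l, m, g, rfl⟩ := hy'
    choose x hx hxg using fun i => (g i).2
    choose a ha using fun i => hres (m i)
    refine ⟨∑ i, a i * x i, Ideal.sum_mem _ fun i _ => I.mul_mem_left _ (hx i), ?_⟩
    rw [map_sum, ← Finset.sum_sub_distrib]
    refine Ideal.sum_mem _ fun i _ => ?_
    rw [← hxg i, map_mul, smul_eq_mul, ← sub_mul]
    exact Ideal.mul_mem_mul (ha i) (Ideal.mem_map_of_mem _ (hx i))
  choose! x hxI hxm using hred
  let J : Ideal R := Ideal.span (s.image x : Set R)
  have hJI : J ≤ I := Ideal.span_le.2 fun z hz => by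
    obtain ⟨y, hy, rfl⟩ := Finset.mem_image.1 (Finset.mem_coe.1 hz)
    exact hxI y hy
  have hnak : I.map (algebraMap R T) ≤ J.map (algebraMap R T) := by
    refine Submodule.le_of_le_smul_of_le_jacobson_bot (I := maximalIdeal T)
      (IsNoetherian.noetherian _) (le_of_eq (IsLocalRing.jacobson_eq_maximalIdeal ⊥ bot_ne_top).symm) ?_
    refine hsI.symm.le.trans (Submodule.span_le.2 fun y hy => ?_)
    rw [show y = algebraMap R T (x y) + (y - algebraMap R T (x y)) by ring]
    exact Submodule.add_mem_sup
      (Ideal.mem_map_of_mem _ (Ideal.subset_span (Finset.mem_coe.2 (Finset.mem_image_of_mem x (Finset.mem_coe.1 hy)))))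
      (hxm y hy)
  have hIJ : I = J := by
    refine le_antisymm ?_ hJI
    rw [← Ideal.comap_map_eq_self_of_faithfullyFlat (B := T) I, ← Ideal.comap_map_eq_self_of_faithfullyFlat (B := T) J]
    exact Ideal.comap_mono hnak
  rw [← hs, hIJ]
  exact (Submodule.spanFinrank_span_le_ncard_of_finite (Finset.finite_toSet _)).trans
    ((Set.ncard_coe_finset _).le.trans Finset.card_image_le)

/-- A quotient of a regular local ring is a complete intersection iff the ideal is generated by
the expected number of elements. -/
theorem isCompleteIntersection_iff {R : Type u} [CommRing R] [IsRegularLocalRing R] (I : Ideal R)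
    [IsLocalRing (R ⧸ I)] :
    Pi1.IsCompleteIntersection (R ⧸ I) ↔
      ((I.spanFinrank : WithBot ℕ∞) + ringKrullDim (R ⧸ I) ≤ ringKrullDim R) := by
  let T := AdicCompletion (maximalIdeal R) R
  haveI : IsNoetherianRing T :=
    RegLoc.AdicNoeth.isNoetherianRing_adicCompletion _ (IsNoetherian.noetherian (maximalIdeal R))
  haveI : IsRegularLocalRing T := (RegLoc.Completion.isRegularLocalRing_completion_iff R).1 inferInstance
  obtain ⟨d, hd, -⟩ : ∃ d : ℕ, ringKrullDim (R ⧸ I) = (d : WithBot ℕ∞) ∧ True := by
    obtain ⟨n, hn⟩ := exists_natCast_eq_dim (R ⧸ I)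
    exact ⟨n, hn, trivial⟩
  obtain ⟨e, he, -⟩ := RegLoc.exists_natCast_eq_ringKrullDim R
  have heT : ringKrullDim T = (e : WithBot ℕ∞) := by
    rw [RegLoc.Completion.ringKrullDim_completion, he]
  obtain ⟨eqv⟩ := Hensel.nonempty_quotient_completion_equiv R I
  obtain ⟨hle, hiff⟩ := S5178.result (R ⧸ I) T _ ⟨eqv⟩ d e hd heT
  rw [← hiff, spanFinrank_map_completion, hd, he]
  rw [spanFinrank_map_completion] at hle
  constructor
  · intro h
    exact_mod_cast (by omega : I.spanFinrank + d ≤ e)
  · intro h
    have : I.spanFinrank + d ≤ e := by exact_mod_cast h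
    omega
where
  exists_natCast_eq_dim (A : Type u) [CommRing A] [IsLocalRing A] [IsNoetherianRing A] :
      ∃ n : ℕ, ringKrullDim A = (n : WithBot ℕ∞) := by
    obtain ⟨n, hn⟩ := ENat.ne_top_iff_exists.1 (Ideal.height_ne_top (maximalIdeal.isMaximal A).ne_top)
    exact ⟨n, by rw [← IsLocalRing.maximalIdeal_height_eq_ringKrullDim, ← hn]; rfl⟩

/-- In a regular local ring an ideal has the expected number of generators iff it is generated by
a regular sequence. -/
theorem exists_regular_iff_spanFinrank {R : Type u} [CommRing R] [IsRegularLocalRing R] (I : Ideal R)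
    (hI : I ≠ ⊤) :
    (∃ rs : List R, Ideal.ofList rs = I ∧ IsRegular R rs) ↔
      ((I.spanFinrank : WithBot ℕ∞) + ringKrullDim (R ⧸ I) ≤ ringKrullDim R) := by
  classical
  haveI := Depth.isCohenMacaulayLocalRing_of_isRegularLocalRing (R := R)
  constructor
  · rintro ⟨rs, rfl, hrs⟩
    have hsp : (Ideal.ofList rs).spanFinrank ≤ rs.length := by
      rw [show Ideal.ofList rs = Ideal.span ((rs.toFinset : Finset R) : Set R) by simp [Ideal.ofList]]
      exact (Submodule.spanFinrank_span_le_ncard_of_finite (Finset.finite_toSet _)).trans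
        ((Set.ncard_coe_finset _).le.trans rs.toFinset_card_le)
    rw [add_comm]
    refine le_trans ?_ (ringKrullDim_add_length_eq_ringKrullDim_of_isRegular rs hrs).le
    exact add_le_add le_rfl (by exact_mod_cast hsp)
  · intro h
    obtain ⟨s, hs, hsI⟩ := Submodule.FG.exists_span_finset_card_eq_spanFinrank (IsNoetherian.noetherian I)
    have hl : Ideal.ofList s.toList = I := by rw [← hsI, Ideal.ofList]; congr 1; ext x; simp
    refine ⟨s.toList, hl, (RelDim.isRegular_iff_ringKrullDim_le s.toList (hl.le.trans (le_maximalIdeal hI))).2 ?_⟩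
    rw [hl, Finset.length_toList, hs, add_comm]
    exact h

end Groth.Agent.Synt44
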