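import Groth.Agent.Synt44.CM
import Mathlib.RingTheory.Localization.LocalizationLocalization

/-!
# Characterisations of complete intersection local rings
-/

set_option autoImplicit false

universe u

open IsLocalRing MvPolynomial

namespace Groth.Agent.Synt44

variable {k : Type u} [Field k]

section

variable {A : Type u} [CommRing A] [Algebra k A]

theorem isLCIOver_of_isGlobalCI (h : Synt.IsGlobalCI k A) : Synt.IsLCIOver k A :=
  isLCIOver_of_isLCI (isLCI_of_isGlobalCI h)

/-- The prime of a localisation above `q`, with the same local ring. -/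
theorem exists_prime_away (q : Ideal A) [q.IsPrime] (g : A) (hg : g ∉ q) :
    ∃ (Q : Ideal (Localization.Away g)) (_ : Q.IsPrime), Q.comap (algebraMap A _) = q ∧
      Nonempty (Localization.AtPrime Q ≃ₐ[k] Localization.AtPrime q) := by
  let Ag := Localization.Away g
  have hd : Disjoint (Submonoid.powers g : Set A) q := (Ideal.disjoint_powers_iff_notMem_of_isPrime g).2 hg
  let Q := q.map (algebraMap A Ag)
  haveI hQ : Q.IsPrime := IsLocalization.isPrime_of_isPrime_disjoint _ Ag _ ‹_› hd
  have hQq : Q.comap (algebraMap A Ag) = q := IsLocalization.under_map_of_isPrime_disjoint _ Ag ‹_› hd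
  haveI : IsLocalization.AtPrime (Localization.AtPrime Q) q := by
    have h1 := IsLocalization.isLocalization_isLocalization_atPrime_isLocalization (R := A) (S := Ag)
      (Submonoid.powers g) (Localization.AtPrime Q) Q
    have h2 : (Q.comap (algebraMap A Ag)).primeCompl = q.primeCompl := by
      ext x; change x ∉ Q.comap _ ↔ x ∉ q; rw [hQq]
    change IsLocalization q.primeCompl _
    rw [← h2]; exact h1
  exact ⟨Q, hQ, hQq,
    ⟨(IsLocalization.algEquiv q.primeCompl (Localization.AtPrime Q) (Localization.AtPrime q)).restrictScalars k⟩⟩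

theorem isCIOver_of_isLCIOver_away (q : Ideal A) [q.IsPrime] (g : A) (hg : g ∉ q)
    (h : Synt.IsLCIOver k (Localization.Away g)) : Synt.IsCIOver k (Localization.AtPrime q) := by
  obtain ⟨Q, hQ, -, ⟨e⟩⟩ := exists_prime_away (k := k) q g hg
  exact isCIOver_of_equiv e (isCIOver_atPrime h Q)

theorem exists_isGlobalCI_away (q : Ideal A) [q.IsPrime] (g : A) (hg : g ∉ q)
    (h : Synt.IsLCIOver k (Localization.Away g)) : ∃ g' ∉ q, Synt.IsGlobalCI k (Localization.Away g') := by
  obtain ⟨Q, hQ, hQq, -⟩ := exists_prime_away (k := k) q g hg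
  obtain ⟨g', hg', hci⟩ := h.2 ⟨Q, hQ⟩
  obtain ⟨⟨a, s⟩, ha⟩ := IsLocalization.surj (Submonoid.powers g) g'
  have hau : Associated g' (algebraMap A (Localization.Away g) a) :=
    ⟨(IsLocalization.map_units _ s).unit, ha⟩
  have hap : a ∉ q := fun h1 => hg' (by
    change g' ∈ Q
    rw [← Ideal.mul_unit_mem_iff_mem _ (IsLocalization.map_units (Localization.Away g) s), ha]
    rw [← hQq] at h1
    exact h1)
  let T := Localization.Away g'
  haveI : IsLocalization.Away (algebraMap A (Localization.Away g) a) T := IsLocalization.Away.of_associated hau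
  haveI : IsLocalization.Away (g * a) T := IsLocalization.Away.mul' (Localization.Away g) T g a
  exact ⟨g * a, Ideal.IsPrime.mul_notMem ‹_› hg hap, isGlobalCI_of_equiv
    ((IsLocalization.algEquiv (Submonoid.powers (g * a)) T (Localization.Away (g * a))).restrictScalars k) hci⟩

end

variable {S : Type u} [CommRing S] [IsLocalRing S] [Algebra k S] [Algebra.EssFiniteType k S]

/-- A local algebra essentially of finite type is the localisation of a finitely generated subalgebra. -/
theorem exists_finiteType_atPrime (k : Type u) [Field k] (S : Type u) [CommRing S] [IsLocalRing S] [Algebra k S]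
    [Algebra.EssFiniteType k S] :
    ∃ (A : Type u) (_ : CommRing A) (_ : Algebra k A) (a : Ideal A) (_ : a.IsPrime),
      Algebra.FiniteType k A ∧ Nonempty (S ≃ₐ[k] Localization.AtPrime a) := by
  obtain ⟨s, hs⟩ := (inferInstance : Algebra.EssFiniteType k S).cond
  let A := Algebra.adjoin k (s : Set S)
  let a : Ideal A := (maximalIdeal S).comap (algebraMap A S)
  haveI : a.IsPrime := inferInstanceAs ((maximalIdeal S).comap (algebraMap A S)).IsPrime
  haveI : IsLocalization.AtPrime S a := by
    have h2 : a.primeCompl = (IsUnit.submonoid S).comap (algebraMap A S) := by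
      ext x
      change x ∉ a ↔ IsUnit (algebraMap A S x)
      simp [a]
    change IsLocalization a.primeCompl S
    rw [h2]; exact hs
  exact ⟨A, inferInstance, inferInstance, a, inferInstance,
    Subalgebra.fg_iff_finiteType _ |>.1 (Subalgebra.fg_adjoin_finset s),
    ⟨(IsLocalization.algEquiv a.primeCompl S (Localization.AtPrime a)).restrictScalars k⟩⟩

theorem exists_regular_cover (k : Type u) [Field k] (S : Type u) [CommRing S] [IsLocalRing S] [Algebra k S]
    [Algebra.EssFiniteType k S] :
    ∃ (R : Type u) (_ : CommRing R) (_ : IsRegularLocalRing R) (_ : Algebra k R) (π : R →ₐ[k] S),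
      Algebra.EssFiniteType k R ∧ Function.Surjective π := by
  obtain ⟨s, hs⟩ := (inferInstance : Algebra.EssFiniteType k S).cond
  let f : MvPolynomial (Fin s.card) k →ₐ[k] S := aeval fun i => (s.equivFin.symm i : S)
  let P : Ideal (MvPolynomial (Fin s.card) k) := (maximalIdeal S).comap ((AlgHom.id k S).comp f).toRingHom
  haveI : P.IsPrime := inferInstanceAs ((maximalIdeal S).comap ((AlgHom.id k S).comp f).toRingHom).IsPrime
  haveI := isRegularLocalRing_atPrime P
  obtain ⟨F, hF, -⟩ := exists_surjective_atPrime (R := S) (S := S) s f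
    (fun x hx => ⟨X (s.equivFin ⟨x, hx⟩), by simp [f]⟩) (AlgHom.id k S) Function.surjective_id P rfl
  exact ⟨Localization.AtPrime P, inferInstance, inferInstance, inferInstance, F, inferInstance, hF⟩

end Groth.Agent.Synt44
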