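import Groth.Agent.Synt44.GlobalCI

/-!
# Localisations of complete intersections over a field
-/

set_option autoImplicit false

universe u

open MvPolynomial

namespace Groth.Agent.Synt44

variable {k : Type u} [Field k] {S : Type u} [CommRing S] [Algebra k S]

theorem isGlobalCI_away (g : S) (h : Synt.IsGlobalCI k S) : Synt.IsGlobalCI k (Localization.Away g) := by
  classical
  rcases subsingleton_or_nontrivial (Localization.Away g) with hT | hT
  · exact Or.inl hT
  rcases h with h | ⟨n, c, hc, φ, r, hφ, hker, hdim⟩
  · exact absurd hT (not_nontrivial_iff_subsingleton.2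
      (IsLocalization.subsingleton (S := Localization.Away g) (M := Submonoid.powers g) ⟨0, by
        simp only [pow_zero]; exact Subsingleton.elim _ _⟩))
  let R := MvPolynomial (Fin n) k
  obtain ⟨G, hG⟩ := hφ g
  obtain ⟨ψ, h₁, hψ, hkψ⟩ := GrpScheme.Syntomic.Algebra.exists_psi k n G
  let χ₀ : Localization.Away G →+* Localization.Away (φ G) := Localization.awayMap φ.toRingHom G
  haveI : IsLocalization ((Submonoid.powers G).map φ.toRingHom) (Localization.Away (φ G)) := by
    rw [Submonoid.map_powers]; exact inferInstanceAs (IsLocalization (Submonoid.powers (φ G)) _)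
  let χ : Localization.Away G →ₐ[k] Localization.Away (φ G) :=
    { χ₀ with
      commutes' := fun x => by
        change χ₀ (algebraMap k (Localization.Away G) x) = _
        rw [IsScalarTower.algebraMap_apply k R (Localization.Away G)]
        refine Eq.trans (b := algebraMap S (Localization.Away (φ G)) (φ (algebraMap k R x))) ?_ ?_
        · simp [χ₀, R, Localization.awayMap, IsLocalization.Away.map, IsLocalization.map_eq]
        rw [φ.commutes, ← IsScalarTower.algebraMap_apply] }
  have hkχ : RingHom.ker χ.toRingHom = (Ideal.span (Set.range r)).map (algebraMap R (Localization.Away G)) := by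
    rw [← hker]
    exact IsLocalization.ker_map (Q := Localization.Away (φ G)) (S := Localization.Away G) (g := φ.toRingHom) rfl
  have hχ : Function.Surjective χ := IsLocalization.map_surjective_of_surjective (M := Submonoid.powers G)
    (S := Localization.Away G) (Q := Localization.Away (φ G)) (g := φ.toRingHom) hφ
  choose F hF using fun i : Fin c => hψ (algebraMap R (Localization.Away G) (r i))
  rw [← hG]
  refine Or.inr ⟨n + 1, c + 1, by omega, χ.comp ψ, Fin.cons h₁ F, hχ.comp hψ, ?_, ?_⟩
  · rw [Fin.range_cons, Ideal.span_insert, sup_comm, ← hkψ]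
    change RingHom.ker (χ.toRingHom.comp ψ.toRingHom) = _
    rw [← RingHom.comap_ker, hkχ, Ideal.map_span, ← Set.range_comp,
      show (algebraMap R (Localization.Away G)) ∘ r = ψ.toRingHom ∘ F from funext fun i => (hF i).symm,
      Set.range_comp, ← Ideal.map_span]
    exact Ideal.comap_map_of_surjective' _ hψ _
  · rw [Nat.add_sub_add_right]
    refine le_antisymm ((ringKrullDim_le_iff_isMaximal_height_le _).2 fun P hP => ?_) ?_
    · haveI := hP.isPrime
      rw [← IsLocalization.height_under (Submonoid.powers (φ G))]
      have h0 := Ideal.height_le_ringKrullDim_of_ne_top (I := P.under S) (Ideal.IsPrime.ne_top (hP.isPrime.under S))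
      exact h0.trans hdim.le
    haveI : Algebra.FiniteType k S := Algebra.FiniteType.of_surjective φ hφ
    haveI : IsJacobsonRing S := isJacobsonRing_of_finiteType (A := k)
    haveI : Nontrivial (Localization.Away (φ G)) := by rw [hG]; exact hT
    obtain ⟨M, hM⟩ := Ideal.exists_maximal (Localization.Away (φ G))
    have hM0 : (M.under S).IsMaximal :=
      ((IsLocalization.isMaximal_iff_isMaximal_disjoint (Localization.Away (φ G)) (φ G) M).1 hM).1
    refine le_trans ?_ (Ideal.height_le_ringKrullDim_of_ne_top hM.ne_top)
    haveI := hM.isPrime
    rw [← IsLocalization.height_under (Submonoid.powers (φ G))]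
    let N : Ideal R := (M.under S).comap φ.toRingHom
    haveI hN : N.IsMaximal := Ideal.comap_isMaximal_of_surjective φ.toRingHom hφ
    have hle : Ideal.span (Set.range r) ≤ N := hker ▸ fun x hx => by
      rw [Ideal.mem_comap, show φ.toRingHom x = 0 from hx]; exact zero_mem _
    have h2 := Ideal.height_le_height_add_spanFinrank_of_le (I := Ideal.span (Set.range r)) (p := N) hle
    rw [VarDim.height_eq_of_isMaximal_mvPolynomial k n N hN] at h2
    have h3 : (N.map (Ideal.Quotient.mk (Ideal.span (Set.range r)))).height = (M.under S).height := by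
      let e : (R ⧸ Ideal.span (Set.range r)) ≃+* S :=
        (Ideal.quotEquivOfEq hker.symm).trans (RingHom.quotientKerEquivOfSurjective (f := φ.toRingHom) hφ)
      rw [← RingEquiv.height_map e]
      congr 1
      change Ideal.map e.toRingHom _ = _
      rw [Ideal.map_map, show e.toRingHom.comp (Ideal.Quotient.mk _) = φ.toRingHom from RingHom.ext fun x => rfl]
      exact Ideal.map_comap_of_surjective φ.toRingHom hφ _
    rw [h3] at h2
    have h4 : (Ideal.span (Set.range r)).spanFinrank ≤ c :=
      (Submodule.spanFinrank_span_le_ncard_of_finite (Set.finite_range r)).trans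
        ((Nat.card_coe_set_eq (Set.range r)).symm.le.trans ((Finite.card_range_le r).trans (Nat.card_fin c).le))
    have h5 : (n : ℕ∞) ≤ (M.under S).height + c := h2.trans (add_le_add le_rfl (Nat.cast_le.2 h4))
    have h6 : ((n - c : ℕ) : ℕ∞) ≤ (M.under S).height := by
      generalize (M.under S).height = a at h5 ⊢
      induction a with
      | top => exact le_top
      | coe a =>
        rw [← Nat.cast_add, Nat.cast_le] at h5
        exact Nat.cast_le.2 (by omega)
    exact WithBot.coe_le_coe.2 h6

theorem isLCIOver_away (g : S) (h : Synt.IsLCIOver k S) : Synt.IsLCIOver k (Localization.Away g) := by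
  obtain ⟨hft, h⟩ := h
  refine ⟨Algebra.FiniteType.trans hft inferInstance, fun p => ?_⟩
  obtain ⟨g', hg', hci⟩ := h ⟨p.asIdeal.comap (algebraMap S _), inferInstance⟩
  refine ⟨algebraMap S _ g', hg', ?_⟩
  let T := Localization.Away (algebraMap S (Localization.Away g) g')
  let T' := Localization.Away (algebraMap S (Localization.Away g') g)
  haveI : IsLocalization.Away (g * g') T := IsLocalization.Away.mul' (Localization.Away g) T g g'
  haveI : IsLocalization.Away (g * g') T' := by
    rw [mul_comm]
    exact IsLocalization.Away.mul' (Localization.Away g') T' g' g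
  exact isGlobalCI_of_equiv
    ((IsLocalization.algEquiv (Submonoid.powers (g * g')) T' T).restrictScalars k)
    (isGlobalCI_away _ hci)

end Groth.Agent.Synt44
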