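import Groth.Agent.Synt44.CISpread
import Groth.Agent.Synt44.Localization
import Groth.Agent.CIntReg.Main
import Groth.Agent.KReg44.Append
import Groth.Agent.KReg44.Vars
import Mathlib.RingTheory.RegularLocalRing.Polynomial
import Mathlib.RingTheory.EssentialFiniteness

/-!
# Complete intersection local rings essentially of finite type over a field
-/

set_option autoImplicit false

universe u

open RingTheory.Sequence IsLocalRing MvPolynomial

namespace Groth.Agent.Synt44

theorem isWeaklyRegular_map_ringEquiv {A B : Type u} [CommRing A] [CommRing B] (e : A ≃+* B) {rs : List A}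
    (h : IsWeaklyRegular A rs) : IsWeaklyRegular B (rs.map e) := by
  letI := e.toRingHom.toAlgebra
  let el : A ≃ₗ[A] B := { e.toAddEquiv with map_smul' := fun a x => e.map_mul a x }
  exact (isWeaklyRegular_map_algebraMap_iff B B rs).2 ((el.isWeaklyRegular_congr rs).1 h)

theorem isRegularIdeal_map_ringEquiv {A B : Type u} [CommRing A] [CommRing B] [IsLocalRing A] [IsLocalRing B]
    (e : A ≃+* B) {I : Ideal A} (h : CInt.IsRegularIdeal I) : CInt.IsRegularIdeal (I.map e.toRingHom) := by
  obtain ⟨rs, hrs, rfl⟩ := h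
  refine ⟨rs.map e, .of_isWeaklyRegular_of_mem_maximalIdeal _ ?_ (isWeaklyRegular_map_ringEquiv e hrs.toIsWeaklyRegular),
    (Ideal.map_ofList e.toRingHom rs).symm⟩
  intro x hx
  obtain ⟨r, hr, rfl⟩ := List.mem_map.1 hx
  intro hu
  exact CIntReg.mem_maximalIdeal_of_mem hrs hr (by simpa using hu.map e.symm)

theorem isRegularLocalRing_atPrime {k : Type u} [Field k] {σ : Type} [Finite σ]
    (P : Ideal (MvPolynomial σ k)) [P.IsPrime] : IsRegularLocalRing (Localization.AtPrime P) :=
  inferInstance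

variable {k : Type u} [Field k] {S : Type u} [CommRing S] [IsLocalRing S] [Algebra k S]

theorem isUnit_of_apply {R : Type u} [CommRing R] [IsLocalRing R] (π : R →+* S) (hπ : Function.Surjective π)
    {x : R} (h : IsUnit (π x)) : IsUnit x := by
  haveI : IsLocalHom π := IsLocalHom.of_surjective π hπ
  exact IsLocalHom.map_nonunit x h

theorem ker_le_maximalIdeal {R : Type u} [CommRing R] [IsLocalRing R] (π : R →+* S) :
    RingHom.ker π ≤ maximalIdeal R :=
  IsLocalRing.le_maximalIdeal (RingHom.ker_ne_top π)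

/-- A map from polynomials whose image contains generators covers the ring after localisation. -/
theorem exists_surjective_atPrime {R : Type u} [CommRing R] [IsLocalRing R] [Algebra k R]
    (s : Finset R) [hs : IsLocalization ((IsUnit.submonoid R).comap (algebraMap (Algebra.adjoin k (s : Set R)) R)) R]
    {σ : Type} (f : MvPolynomial σ k →ₐ[k] R) (hf : ∀ x ∈ s, x ∈ f.range) (π : R →ₐ[k] S)
    (hπ : Function.Surjective π) (P : Ideal (MvPolynomial σ k)) [P.IsPrime]
    (hP : P = (maximalIdeal S).comap (π.comp f).toRingHom) :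
    ∃ F : Localization.AtPrime P →ₐ[k] R, Function.Surjective F ∧
      F.toRingHom.comp (algebraMap (MvPolynomial σ k) (Localization.AtPrime P)) = f.toRingHom := by
  have hu : ∀ y : P.primeCompl, IsUnit (f y) := fun y => by
    refine isUnit_of_apply π.toRingHom hπ ?_
    by_contra hn
    exact y.2 (hP ▸ hn)
  let F : Localization.AtPrime P →ₐ[k] R := IsLocalization.liftAlgHom (f := f) hu
  have hcomp : F.toRingHom.comp (algebraMap (MvPolynomial σ k) (Localization.AtPrime P)) = f.toRingHom :=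
    IsLocalization.lift_comp hu
  refine ⟨F, fun x => ?_, hcomp⟩
  have hle : Algebra.adjoin k (s : Set R) ≤ f.range := Algebra.adjoin_le hf
  obtain ⟨⟨a, t⟩, hat⟩ := IsLocalization.surj ((IsUnit.submonoid R).comap (algebraMap (Algebra.adjoin k (s : Set R)) R)) x
  obtain ⟨A, hA⟩ := hle a.2
  obtain ⟨T, hT⟩ := hle t.1.2
  have hTu : IsUnit (f T) := by
    have := t.2
    change IsUnit ((t.1 : R)) at this
    rwa [show f T = (t.1 : R) from hT]
  have hTP : T ∉ P := fun h => by
    rw [hP] at h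
    exact h (hTu.map π)
  refine ⟨IsLocalization.mk' _ A (⟨T, hTP⟩ : P.primeCompl), ?_⟩
  change IsLocalization.lift hu _ = x
  rw [IsLocalization.lift_mk'_spec]
  change f A = f T * x
  rw [show f T = (t.1 : R) from hT, mul_comm]
  exact hA.trans hat.symm

theorem isRegularIdeal_ker_transport {W R₁ R₂ T : Type u} [CommRing W] [IsRegularLocalRing W]
    [CommRing R₁] [CommRing R₂] [IsRegularLocalRing R₁] [IsRegularLocalRing R₂] [CommRing T] [IsLocalRing T]
    (F₁ : W →+* R₁) (hF₁ : Function.Surjective F₁) (F₂ : W →+* R₂) (hF₂ : Function.Surjective F₂)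
    (π₁ : R₁ →+* T) (π₂ : R₂ →+* T) (hFcomp : π₁.comp F₁ = π₂.comp F₂)
    (h : CInt.IsRegularIdeal (RingHom.ker π₁)) : CInt.IsRegularIdeal (RingHom.ker π₂) := by
  let K : Ideal W := RingHom.ker (π₁.comp F₁)
  have hKm : K ≤ maximalIdeal W := ker_le_maximalIdeal _
  let J₁ := RingHom.ker F₁
  let J₂ := RingHom.ker F₂
  have hK₁ : J₁ ≤ K := fun x hx => show π₁ (F₁ x) = 0 by rw [show F₁ x = 0 from hx, map_zero]
  have hK₂ : J₂ ≤ K := fun x hx => show π₁.comp F₁ x = 0 by
    rw [hFcomp, RingHom.comp_apply, show F₂ x = 0 from hx, map_zero]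
  haveI : IsLocalRing (W ⧸ J₁) := RegLoc.isLocalRing_quotient (hK₁.trans hKm)
  haveI : IsLocalRing (W ⧸ J₂) := RegLoc.isLocalRing_quotient (hK₂.trans hKm)
  let e₁ : W ⧸ J₁ ≃+* R₁ := RingHom.quotientKerEquivOfSurjective (f := F₁) hF₁
  let e₂ : W ⧸ J₂ ≃+* R₂ := RingHom.quotientKerEquivOfSurjective (f := F₂) hF₂
  have hW₁ : IsRegularLocalRing (W ⧸ J₁) := IsRegularLocalRing.of_ringEquiv e₁.symm
  have hW₂ : IsRegularLocalRing (W ⧸ J₂) := IsRegularLocalRing.of_ringEquiv e₂.symm
  have hm₁ : K.map (Ideal.Quotient.mk J₁) = (RingHom.ker π₁).map e₁.symm.toRingHom := by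
    have h1 : Ideal.Quotient.mk J₁ = e₁.symm.toRingHom.comp F₁ :=
      RingHom.ext fun x => (e₁.symm_apply_apply _).symm
    rw [h1, ← Ideal.map_map, show K = (RingHom.ker π₁).comap F₁ from (RingHom.comap_ker _ _).symm,
      Ideal.map_comap_of_surjective _ hF₁]
  obtain ⟨ts, -, hts, hsup⟩ := CIntReg.exists_lift hK₁ hKm (hm₁ ▸ isRegularIdeal_map_ringEquiv e₁.symm h)
  have hK : CInt.IsRegularIdeal K :=
    CIntReg.isRegularIdeal_of_lift hKm (CIntReg.isRegularIdeal_of_quotient_regular hW₁) hts hsup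
  obtain ⟨n, hn, -⟩ := RegLoc.exists_natCast_eq_ringKrullDim W
  obtain ⟨us, hus, hsup₂⟩ := CIntReg.map_isRegularIdeal n hn hK₂ hKm hW₂ hK
  have h1 : IsWeaklyRegular (W ⧸ J₂) (us.map (Ideal.Quotient.mk J₂)) :=
    (isWeaklyRegular_map_algebraMap_iff (W ⧸ J₂) (W ⧸ J₂) us).2 hus
  have h2 := isWeaklyRegular_map_ringEquiv e₂ h1
  rw [List.map_map, show (e₂ : _ → _) ∘ Ideal.Quotient.mk J₂ = F₂ from rfl] at h2
  have h3 : Ideal.ofList (us.map F₂) = RingHom.ker π₂ := by
    rw [← Ideal.map_ofList, show Ideal.map F₂ (Ideal.ofList us) = Ideal.map F₂ (Ideal.ofList us ⊔ J₂) by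
      rw [Ideal.map_sup, (Ideal.map_eq_bot_iff_le_ker _).2 le_rfl, sup_bot_eq], hsup₂,
      show K = (RingHom.ker π₂).comap F₂ by rw [RingHom.comap_ker, ← hFcomp],
      Ideal.map_comap_of_surjective _ hF₂]
  exact ⟨us.map F₂, .of_isWeaklyRegular_of_mem_maximalIdeal _
    (fun x hx => ker_le_maximalIdeal π₂ (h3 ▸ Ideal.subset_span hx)) h2, h3⟩

/-- Regularity of the kernel does not depend on the presentation by a regular local ring. -/
theorem isRegularIdeal_ker_of_ker {R₁ R₂ : Type u} [CommRing R₁] [CommRing R₂] [IsRegularLocalRing R₁]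
    [IsRegularLocalRing R₂] [Algebra k R₁] [Algebra k R₂] [Algebra.EssFiniteType k R₁] [Algebra.EssFiniteType k R₂]
    (π₁ : R₁ →ₐ[k] S) (hπ₁ : Function.Surjective π₁) (π₂ : R₂ →ₐ[k] S) (hπ₂ : Function.Surjective π₂)
    (h : CInt.IsRegularIdeal (RingHom.ker π₁.toRingHom)) : CInt.IsRegularIdeal (RingHom.ker π₂.toRingHom) := by
  classical
  obtain ⟨s₁, hs₁⟩ := (inferInstance : Algebra.EssFiniteType k R₁).cond
  obtain ⟨s₂, hs₂⟩ := (inferInstance : Algebra.EssFiniteType k R₂).cond
  choose l₁ hl₁ using fun x : R₂ => hπ₁ (π₂ x)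
  choose l₂ hl₂ using fun x : R₁ => hπ₂ (π₁ x)
  let σ := Fin s₁.card ⊕ Fin s₂.card
  let v₁ : σ → R₁ := Sum.elim (fun i => (s₁.equivFin.symm i : R₁)) (fun i => l₁ (s₂.equivFin.symm i : R₂))
  let v₂ : σ → R₂ := Sum.elim (fun i => l₂ (s₁.equivFin.symm i : R₁)) (fun i => (s₂.equivFin.symm i : R₂))
  let f₁ : MvPolynomial σ k →ₐ[k] R₁ := aeval v₁
  let f₂ : MvPolynomial σ k →ₐ[k] R₂ := aeval v₂
  have hcomp : π₁.comp f₁ = π₂.comp f₂ := MvPolynomial.algHom_ext fun i => by
    cases i <;> simp [f₁, f₂, v₁, v₂, hl₁, hl₂]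
  let P : Ideal (MvPolynomial σ k) := (maximalIdeal S).comap (π₁.comp f₁).toRingHom
  haveI : P.IsPrime := inferInstanceAs ((maximalIdeal S).comap (π₁.comp f₁).toRingHom).IsPrime
  haveI := isRegularLocalRing_atPrime P
  obtain ⟨F₁, hF₁, hc₁⟩ := exists_surjective_atPrime s₁ f₁
    (fun x hx => ⟨X (Sum.inl (s₁.equivFin ⟨x, hx⟩)), by simp [f₁, v₁]⟩) π₁ hπ₁ P rfl
  obtain ⟨F₂, hF₂, hc₂⟩ := exists_surjective_atPrime s₂ f₂
    (fun x hx => ⟨X (Sum.inr (s₂.equivFin ⟨x, hx⟩)), by simp [f₂, v₂]⟩) π₂ hπ₂ P (by rw [← hcomp])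
  let W := Localization.AtPrime P
  have hFcomp : π₁.toRingHom.comp F₁.toRingHom = π₂.toRingHom.comp F₂.toRingHom := by
    refine IsLocalization.ringHom_ext P.primeCompl ?_
    rw [RingHom.comp_assoc, hc₁, RingHom.comp_assoc, hc₂]
    exact congrArg AlgHom.toRingHom hcomp
  have key := isRegularIdeal_ker_transport F₁.toRingHom hF₁ F₂.toRingHom hF₂ π₁.toRingHom π₂.toRingHom hFcomp h
  exact key

theorem isCIOver_of_isRegularIdeal_ker {R : Type u} [CommRing R] [IsRegularLocalRing R] [Algebra k R]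
    [Algebra.EssFiniteType k R] (π : R →ₐ[k] S) (hπ : Function.Surjective π)
    (h : CInt.IsRegularIdeal (RingHom.ker π.toRingHom)) : Synt.IsCIOver k S := by
  obtain ⟨rs, hrs, he⟩ := h
  exact ⟨R, inferInstance, inferInstance, inferInstance, inferInstance, rs,
    fun r hr => CIntReg.mem_maximalIdeal_of_mem hrs hr, hrs,
    ⟨((Ideal.quotientEquivAlgOfEq k he).trans (Ideal.quotientKerAlgEquivOfSurjective hπ)).symm⟩⟩

theorem exists_surjective_of_isCIOver (h : Synt.IsCIOver k S) :
    ∃ (R : Type u) (_ : CommRing R) (_ : IsRegularLocalRing R) (_ : Algebra k R) (π : R →ₐ[k] S),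
      Algebra.EssFiniteType k R ∧ Function.Surjective π ∧ CInt.IsRegularIdeal (RingHom.ker π.toRingHom) := by
  obtain ⟨R, i1, i2, i3, hess, rs, -, hrs, ⟨e⟩⟩ := h
  refine ⟨R, i1, i2, i3, e.symm.toAlgHom.comp (Ideal.Quotient.mkₐ k _), hess,
    e.symm.surjective.comp Ideal.Quotient.mk_surjective, rs, hrs, ?_⟩
  change _ = RingHom.ker (e.symm.toRingEquiv.toRingHom.comp (Ideal.Quotient.mk _))
  rw [RingHom.ker_comp_of_injective _ e.symm.injective, Ideal.mk_ker]

theorem isRegularIdeal_ker_of_isCIOver (h : Synt.IsCIOver k S) {R : Type u} [CommRing R] [IsRegularLocalRing R]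
    [Algebra k R] [Algebra.EssFiniteType k R] (π : R →ₐ[k] S) (hπ : Function.Surjective π) :
    CInt.IsRegularIdeal (RingHom.ker π.toRingHom) := by
  obtain ⟨R₁, i1, i2, i3, π₁, hess, hπ₁, hker⟩ := exists_surjective_of_isCIOver h
  exact isRegularIdeal_ker_of_ker π₁ hπ₁ π hπ hker

theorem isCIOver_of_equiv {T : Type u} [CommRing T] [IsLocalRing T] [Algebra k T] (e : S ≃ₐ[k] T)
    (h : Synt.IsCIOver k S) : Synt.IsCIOver k T := by
  obtain ⟨R, i1, i2, i3, hess, rs, hm, hrs, ⟨e'⟩⟩ := h
  exact ⟨R, i1, i2, i3, hess, rs, hm, hrs, ⟨e.symm.trans e'⟩⟩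

section LCI

variable {A : Type u} [CommRing A] [Algebra k A]

/-- The map of local rings induced by a polynomial presentation. -/
theorem exists_presentation_atPrime {n : ℕ} (f : MvPolynomial (Fin n) k →ₐ[k] A) (hf : Function.Surjective f)
    (q : Ideal A) [q.IsPrime] :
    ∃ π : Localization.AtPrime (q.comap f.toRingHom) →ₐ[k] Localization.AtPrime q, Function.Surjective π ∧
      RingHom.ker π.toRingHom = (RingHom.ker f.toRingHom).map (algebraMap _ _) := by
  let P := q.comap f.toRingHom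
  have hmap : P.primeCompl.map f.toRingHom = q.primeCompl := by
    ext x
    refine ⟨?_, fun hx => ?_⟩
    · rintro ⟨y, hy, rfl⟩; exact hy
    · obtain ⟨y, rfl⟩ := hf x; exact ⟨y, hx, rfl⟩
  haveI : IsLocalization (P.primeCompl.map f.toRingHom) (Localization.AtPrime q) := by
    rw [hmap]; exact inferInstanceAs (IsLocalization q.primeCompl (Localization.AtPrime q))
  have hu : ∀ y : P.primeCompl, IsUnit (((IsScalarTower.toAlgHom k A (Localization.AtPrime q)).comp f) y) :=
    fun y => IsLocalization.map_units (Localization.AtPrime q) (⟨f y, y.2⟩ : q.primeCompl)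
  let π : Localization.AtPrime P →ₐ[k] Localization.AtPrime q := IsLocalization.liftAlgHom hu
  have hπ : π.toRingHom = IsLocalization.map (S := Localization.AtPrime P) (T := P.primeCompl.map f.toRingHom)
      (Localization.AtPrime q) f.toRingHom P.primeCompl.le_comap_map := by
    refine IsLocalization.ringHom_ext P.primeCompl ?_
    rw [IsLocalization.map_comp]
    exact IsLocalization.lift_comp hu
  refine ⟨π, ?_, ?_⟩
  · change Function.Surjective π.toRingHom
    rw [hπ]
    exact IsLocalization.map_surjective_of_surjective (M := P.primeCompl) (S := Localization.AtPrime P) (Q := Localization.AtPrime q) (g := f.toRingHom) (h := hf)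
  · rw [hπ]
    exact IsLocalization.ker_map (Q := Localization.AtPrime q) (S := Localization.AtPrime P) (g := f.toRingHom) rfl

theorem isCIOver_atPrime (h : Synt.IsLCIOver k A) (q : Ideal A) [q.IsPrime] :
    Synt.IsCIOver k (Localization.AtPrime q) := by
  obtain ⟨-, n, f, hf, hker⟩ := isLCI_of_isLCIOver h
  obtain ⟨π, hπ, hkπ⟩ := exists_presentation_atPrime f hf q
  haveI := isRegularLocalRing_atPrime (q.comap f.toRingHom)
  refine isCIOver_of_isRegularIdeal_ker π hπ (hkπ ▸ isRegularIdeal_map_atPrime hker _ fun x hx => ?_)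
  rw [Ideal.mem_comap, show f.toRingHom x = 0 from hx]
  exact zero_mem _

/-- A localisation cut out by a Koszul regular sequence is a local complete intersection. -/
theorem isLCI_away_of_seq {n : ℕ} (f : MvPolynomial (Fin n) k →ₐ[k] A) (hf : Function.Surjective f)
    (G : MvPolynomial (Fin n) k) {l : List (Localization.Away G)}
    (hl : LCI.IsKoszulRegularSeq (Localization.Away G) l)
    (hspan : (RingHom.ker f.toRingHom).map (algebraMap _ (Localization.Away G)) = Ideal.ofList l) :
    LCI.IsLCI k (Localization.Away (f G)) := by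
  let R := MvPolynomial (Fin n) k
  obtain ⟨ψ, h₁, hψ, hkψ⟩ := GrpScheme.Syntomic.Algebra.exists_psi k n G
  haveI : IsLocalization ((Submonoid.powers G).map f.toRingHom) (Localization.Away (f G)) := by
    rw [Submonoid.map_powers]; exact inferInstanceAs (IsLocalization (Submonoid.powers (f G)) _)
  have hu : ∀ y : Submonoid.powers G,
      IsUnit (((IsScalarTower.toAlgHom k A (Localization.Away (f G))).comp f) y) := by
    rintro ⟨_, m, rfl⟩
    simpa using (IsLocalization.Away.algebraMap_isUnit (S := Localization.Away (f G)) (f G)).pow m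
  let χ : Localization.Away G →ₐ[k] Localization.Away (f G) := IsLocalization.liftAlgHom hu
  have hχe : χ.toRingHom = IsLocalization.map (S := Localization.Away G) (T := (Submonoid.powers G).map f.toRingHom)
      (Localization.Away (f G)) f.toRingHom (Submonoid.powers G).le_comap_map := by
    refine IsLocalization.ringHom_ext (Submonoid.powers G) ?_
    rw [IsLocalization.map_comp]
    exact IsLocalization.lift_comp hu
  have hχ : Function.Surjective χ := by
    change Function.Surjective χ.toRingHom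
    rw [hχe]
    exact IsLocalization.map_surjective_of_surjective (M := Submonoid.powers G) (S := Localization.Away G)
      (Q := Localization.Away (f G)) (g := f.toRingHom) (h := hf)
  have hkχ : RingHom.ker χ.toRingHom = Ideal.ofList l := by
    rw [hχe, ← hspan]
    exact IsLocalization.ker_map (Q := Localization.Away (f G)) (S := Localization.Away G) (g := f.toRingHom) rfl
  obtain ⟨L, rfl⟩ : ∃ L : List (MvPolynomial (Fin (n + 1)) k), L.map ψ.toRingHom = l :=
    List.map_surjective_iff.mpr hψ l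
  obtain ⟨f₀, hf₀, hkf₀⟩ : ∃ f₀ : List (MvPolynomial (Fin (n + 1)) k),
      LCI.IsKoszulRegularSeq _ f₀ ∧ RingHom.ker ψ.toRingHom = Ideal.ofList f₀ := by
    by_cases h0 : h₁ = 0
    · exact ⟨[], KReg44.isKoszulRegularSeq_nil, by rw [hkψ, h0, Ideal.ofList_nil]; simp⟩
    · exact ⟨[h₁], KReg44.isKoszulRegularSeq_singleton fun x hx => (mul_eq_zero.1 hx).resolve_left h0,
        by rw [hkψ, Ideal.ofList_singleton]⟩
  refine ⟨Algebra.FiniteType.of_surjective (χ.comp ψ) (hχ.comp hψ), n + 1, χ.comp ψ, hχ.comp hψ, ?_⟩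
  rw [show RingHom.ker (χ.comp ψ).toRingHom = Ideal.ofList (L ++ f₀) by
    change RingHom.ker (χ.toRingHom.comp ψ.toRingHom) = _
    rw [← RingHom.comap_ker, hkχ, ← Ideal.map_ofList, Ideal.ofList_append, ← hkf₀]
    exact Ideal.comap_map_of_surjective' _ hψ _]
  exact KReg44.isKoszulRegularIdeal_of_seq (KReg44.isKoszulRegularSeq_append ψ.toRingHom hf₀ hψ hkf₀ hl)

theorem exists_isLCIOver_away [Algebra.FiniteType k A] (q : Ideal A) [q.IsPrime]
    (h : Synt.IsCIOver k (Localization.AtPrime q)) : ∃ g ∉ q, Synt.IsLCIOver k (Localization.Away g) := by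
  obtain ⟨n, f, hf⟩ := Algebra.FiniteType.iff_quotient_mvPolynomial''.1 (inferInstance : Algebra.FiniteType k A)
  obtain ⟨π, hπ, hkπ⟩ := exists_presentation_atPrime f hf q
  haveI := isRegularLocalRing_atPrime (q.comap f.toRingHom)
  obtain ⟨rs, hrs, hspan⟩ := isRegularIdeal_ker_of_isCIOver h π hπ
  obtain ⟨G, hG, l, hl, hlspan⟩ :=
    exists_away_of_regular_atPrime (RingHom.ker f.toRingHom) _ rs hrs.toIsWeaklyRegular (hspan.trans hkπ)
  exact ⟨f G, hG, isLCIOver_of_isLCI (isLCI_away_of_seq f hf G hl hlspan)⟩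

end LCI

end Groth.Agent.Synt44
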