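import Groth.Prelude.Def_RegImm
import Mathlib.RingTheory.Localization.Away.Basic
import Mathlib.RingTheory.Localization.BaseChange
import Mathlib.RingTheory.Finiteness.FinitePresentationLocal
import Mathlib.RingTheory.RingHom.Flat
import Mathlib.RingTheory.RingHom.FiniteType
import Mathlib.RingTheory.KrullDimension.Basic

/-!
# Local complete intersections over a field: invariance and locality
-/

set_option autoImplicit false

universe u

open TensorProduct

namespace Groth.Agent.Synt44

variable {k : Type u} [Field k] {S T : Type u} [CommRing S] [CommRing T] [Algebra k S] [Algebra k T]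

theorem isGlobalCI_of_equiv (e : S ≃ₐ[k] T) (h : Synt.IsGlobalCI k S) : Synt.IsGlobalCI k T := by
  rcases h with h | ⟨n, c, hc, φ, r, hφ, hker, hdim⟩
  · exact Or.inl e.symm.toEquiv.subsingleton
  · refine Or.inr ⟨n, c, hc, e.toAlgHom.comp φ, r, e.surjective.comp hφ, ?_, ?_⟩
    · change RingHom.ker (e.toRingEquiv.toRingHom.comp φ.toRingHom) = _
      rw [RingHom.ker_comp_of_injective _ e.injective, hker]
    · rw [← ringKrullDim_eq_of_ringEquiv e.toRingEquiv, hdim]

theorem isLCIOver_of_equiv (e : S ≃ₐ[k] T) (h : Synt.IsLCIOver k S) : Synt.IsLCIOver k T := by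
  obtain ⟨hft, h⟩ := h
  refine ⟨Algebra.FiniteType.equiv hft e, fun p => ?_⟩
  obtain ⟨g, hg, hci⟩ := h ⟨p.asIdeal.comap e.toRingEquiv.toRingHom, inferInstance⟩
  refine ⟨e g, hg, ?_⟩
  letI : Algebra S (Localization.Away (e g)) :=
    ((algebraMap T (Localization.Away (e g))).comp e.toRingEquiv.toRingHom).toAlgebra
  haveI : IsScalarTower k S (Localization.Away (e g)) := IsScalarTower.of_algebraMap_eq fun x => by
    change _ = algebraMap T _ (e (algebraMap k S x))
    rw [e.commutes, ← IsScalarTower.algebraMap_apply]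
  haveI : IsLocalization.Away g (Localization.Away (e g)) := by
    have h1 := IsLocalization.isLocalization_of_base_ringEquiv (Submonoid.powers (e g))
      (Localization.Away (e g)) e.symm.toRingEquiv
    rw [Submonoid.map_powers, show e.symm.toRingEquiv (e g) = g from e.symm_apply_apply g] at h1
    exact h1
  exact isGlobalCI_of_equiv
    ((IsLocalization.algEquiv (Submonoid.powers g) (Localization.Away g) (Localization.Away (e g))).restrictScalars k) hci

theorem isLCIOver_of_span {ι : Type*} (g : ι → S) (hg : Ideal.span (Set.range g) = ⊤)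
    (h : ∀ i, Synt.IsLCIOver k (Localization.Away (g i))) : Synt.IsLCIOver k S := by
  have hft : Algebra.FiniteType k S := by
    rw [← RingHom.finiteType_algebraMap]
    refine RingHom.finiteType_ofLocalizationSpanTarget (algebraMap k S) (Set.range g) hg ?_
    rintro ⟨_, i, rfl⟩
    rw [← IsScalarTower.algebraMap_eq]
    exact RingHom.finiteType_algebraMap.2 (h i).1
  refine ⟨hft, fun p => ?_⟩
  obtain ⟨i, hi⟩ : ∃ i, g i ∉ p.asIdeal := by
    by_contra hc
    push Not at hc
    exact p.isPrime.ne_top (eq_top_iff.2 (hg ▸ Ideal.span_le.2 (by rintro _ ⟨i, rfl⟩; exact hc i)))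
  let A := Localization.Away (g i)
  have hdisj : Disjoint (Submonoid.powers (g i) : Set S) p.asIdeal :=
    (Ideal.disjoint_powers_iff_notMem_of_isPrime (g i)).2 hi
  haveI hq : (p.asIdeal.map (algebraMap S A)).IsPrime :=
    IsLocalization.isPrime_of_isPrime_disjoint _ A _ p.isPrime hdisj
  obtain ⟨g', hg', hci⟩ := (h i).2 ⟨_, hq⟩
  obtain ⟨⟨a, s⟩, ha⟩ := IsLocalization.surj (Submonoid.powers (g i)) g'
  have hau : Associated g' (algebraMap S A a) := ⟨(IsLocalization.map_units A s).unit, ha⟩
  have hap : a ∉ p.asIdeal := fun h1 => hg' (by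
    change g' ∈ p.asIdeal.map (algebraMap S A)
    rw [← Ideal.mul_unit_mem_iff_mem _ (IsLocalization.map_units A s), ha]
    exact Ideal.mem_map_of_mem _ h1)
  let T := Localization.Away g'
  haveI : IsLocalization.Away (algebraMap S A a) T := IsLocalization.Away.of_associated hau
  haveI : IsLocalization.Away (g i * a) T := IsLocalization.Away.mul' A T (g i) a
  exact ⟨g i * a, p.isPrime.mul_notMem hi hap, isGlobalCI_of_equiv
    ((IsLocalization.algEquiv (Submonoid.powers (g i * a)) T (Localization.Away (g i * a))).restrictScalars k) hci⟩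

/-- Syntomic is local on the target algebra. -/
theorem isSyntomic_of_span {R S : Type u} [CommRing R] [CommRing S] [Algebra R S] (s : Set S)
    (hs : Ideal.span s = ⊤) (h : ∀ g ∈ s, Synt.IsSyntomic R (Localization.Away g)) : Synt.IsSyntomic R S := by
  refine ⟨?_, ?_, fun p => ?_⟩
  · rw [← RingHom.flat_algebraMap_iff]
    refine RingHom.Flat.ofLocalizationSpanTarget (algebraMap R S) s hs fun r => ?_
    rw [← IsScalarTower.algebraMap_eq]
    exact RingHom.flat_algebraMap_iff.2 (h r r.2).1
  · exact Algebra.FinitePresentation.of_span_eq_top_target s hs fun g hg => (h g hg).2.1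
  · let K := p.asIdeal.ResidueField
    refine isLCIOver_of_span (fun g : s => ((1 : K) ⊗ₜ[R] (g : S) : p.asIdeal.Fiber S)) ?_ fun g => ?_
    · have h1 := congrArg (Ideal.map (Algebra.TensorProduct.includeRight : S →ₐ[R] K ⊗[R] S).toRingHom) hs
      rw [Ideal.map_span, Ideal.map_top] at h1
      rw [← h1]
      congr 1
      ext z
      simp
    · exact isLCIOver_of_equiv (IsLocalization.Away.tensorProductEquivTMulRight R K (g : S) (Localization.Away (g : S)))
        ((h g g.2).2.2 p)

end Groth.Agent.Synt44
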