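import Groth.Agent.KReg44.Weakly
import Groth.Agent.KReg44.Etale
import Groth.Agent.KReg44.LCILocal
import Groth.Agent.CMSeq.Basic
import Groth.Agent.VarDim.Algebra
import Groth.Agent.Synt44.LCIOver
import Groth.Agent.GrpScheme.Syntomic.Algebra
import Mathlib.RingTheory.RegularLocalRing.Polynomial

/-!
# Complete intersections over a field are Koszul-regular
-/

set_option autoImplicit false

universe u

open RingTheory.Sequence MvPolynomial

namespace Groth.Agent.Synt44

variable {k : Type u} [Field k]

/-- `c` polynomials cutting out dimension `n - c` form a Koszul-regular sequence. -/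
theorem isKoszulRegularSeq_of_dim {n c : ℕ} (hc : c ≤ n) (f : Fin c → MvPolynomial (Fin n) k)
    (hdim : ringKrullDim (MvPolynomial (Fin n) k ⧸ Ideal.span (Set.range f)) ≤ ((n - c : ℕ) : WithBot ℕ∞)) :
    LCI.IsKoszulRegularSeq (MvPolynomial (Fin n) k) (List.ofFn f) := by
  classical
  refine KReg44.isKoszulRegularSeq_of_forall_prime fun Q hQ => ?_
  let R := MvPolynomial (Fin n) k
  let I := Ideal.span (Set.range f)
  have hI : I = Ideal.ofList (List.ofFn f) := KReg44.span_range_eq_ofList f
  let φ := algebraMap R (Localization.AtPrime Q)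
  by_cases hIQ : I ≤ Q
  swap
  · refine KReg44.isKoszulRegularSeq_of_eq_top ?_
    obtain ⟨x, hx, hxQ⟩ := SetLike.not_le_iff_exists.1 hIQ
    rw [← Ideal.map_ofList, ← hI]
    exact Ideal.eq_top_of_isUnit_mem _ (Ideal.mem_map_of_mem _ hx)
      (IsLocalization.map_units (Localization.AtPrime Q) (⟨x, hxQ⟩ : Q.primeCompl))
  obtain ⟨M, hM, hQM⟩ := Ideal.exists_le_maximal Q hQ.ne_top
  let S := Localization.AtPrime M
  have key : LCI.IsKoszulRegularSeq S ((List.ofFn f).map (algebraMap R S)) := by
    let q := Ideal.Quotient.mk I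
    haveI hMq : (M.map q).IsPrime :=
      Ideal.map_isPrime_of_surjective Ideal.Quotient.mk_surjective (by rw [Ideal.mk_ker]; exact hIQ.trans hQM)
    obtain ⟨s, hsmin, hscard⟩ := (M.map q).exists_finset_card_eq_height_of_isNoetherianRing
    have hsle : s.card + c ≤ n := by
      have h1 : ((M.map q).height : WithBot ℕ∞) ≤ ((n - c : ℕ) : WithBot ℕ∞) :=
        (Ideal.height_le_ringKrullDim_of_ne_top hMq.ne_top).trans hdim
      rw [← hscard] at h1
      have h2 : s.card ≤ n - c := Nat.cast_le.1 (WithBot.coe_le_coe.1 h1)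
      omega
    let ys : List R := s.toList.map (Function.surjInv Ideal.Quotient.mk_surjective)
    let xs : List S := (List.ofFn f ++ ys).map (algebraMap R S)
    have hysM : ∀ y ∈ ys, y ∈ M := by
      intro y hy
      obtain ⟨z, hz, rfl⟩ := List.mem_map.1 hy
      have h1 : q (Function.surjInv Ideal.Quotient.mk_surjective z) ∈ M.map q := by
        rw [show q (Function.surjInv Ideal.Quotient.mk_surjective z) = z from Function.surjInv_eq _ z]
        exact hsmin.1.2 (Ideal.subset_span (Finset.mem_toList.1 hz))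
      obtain ⟨m, hm, hmz⟩ := (Ideal.mem_map_iff_of_surjective q Ideal.Quotient.mk_surjective).1 h1
      have := sub_mem hm (hQM (hIQ (Ideal.Quotient.eq.1 hmz)))
      rwa [sub_sub_cancel] at this
    have hxsM : Ideal.ofList xs ≤ IsLocalRing.maximalIdeal S := by
      rw [← Ideal.map_ofList, ← Localization.AtPrime.map_eq_maximalIdeal]
      refine Ideal.map_mono ?_
      rw [Ideal.ofList_append, ← hI]
      exact sup_le (hIQ.trans hQM) (Ideal.span_le.2 hysM)
    have hrad : IsLocalRing.maximalIdeal S ≤ (Ideal.ofList xs).radical := by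
      rw [Ideal.radical_eq_sInf]
      refine le_sInf fun P ⟨hxP, hP⟩ => ?_
      haveI := hP
      have hPle : P.comap (algebraMap R S) ≤ M := by
        have := (IsLocalization.orderIsoOfPrime M.primeCompl S ⟨P, hP⟩).2.2
        intro x hx
        by_contra hxM
        exact this.le_bot ⟨hxM, hx⟩
      have hIP : I ≤ P.comap (algebraMap R S) := by
        rw [← Ideal.map_le_iff_le_comap]
        refine le_trans ?_ hxP
        rw [← Ideal.map_ofList, hI]
        exact Ideal.map_mono (by rw [Ideal.ofList_append]; exact le_sup_left)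
      haveI hPq : ((P.comap (algebraMap R S)).map q).IsPrime :=
        Ideal.map_isPrime_of_surjective Ideal.Quotient.mk_surjective (by rw [Ideal.mk_ker]; exact hIP)
      have hsP : Ideal.span (s : Set (R ⧸ I)) ≤ (P.comap (algebraMap R S)).map q := by
        refine Ideal.span_le.2 fun z hz => ?_
        rw [← show q (Function.surjInv Ideal.Quotient.mk_surjective z) = z from Function.surjInv_eq _ z]
        refine Ideal.mem_map_of_mem q (hxP (Ideal.subset_span ?_))
        exact List.mem_map_of_mem (List.mem_append_right _ (List.mem_map_of_mem (Finset.mem_toList.2 hz)))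
      have h2 : M.map q ≤ (P.comap (algebraMap R S)).map q :=
        hsmin.2 ⟨hPq, hsP⟩ (Ideal.map_mono hPle)
      rw [← Localization.AtPrime.map_eq_maximalIdeal]
      refine Ideal.map_le_iff_le_comap.2 fun x hx => ?_
      obtain ⟨y, hy, hyx⟩ := (Ideal.mem_map_iff_of_surjective q Ideal.Quotient.mk_surjective).1
        (h2 (Ideal.mem_map_of_mem q hx))
      have := sub_mem hy (hIP (Ideal.Quotient.eq.1 hyx))
      rwa [sub_sub_cancel] at this
    haveI : IsRegularLocalRing S := IsRegularRing.isRegularLocalRing_localization M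
    haveI := Depth.isCohenMacaulayLocalRing_of_isRegularLocalRing (R := S)
    have hreg : IsWeaklyRegular S xs := by
      refine CMSeq.isWeaklyRegular_of_radical xs S (Depth.isCohenMacaulayModule_self S) hxsM
        (hrad.trans (Ideal.radical_mono le_sup_right)) ?_
      rw [Module.supportDim_self_eq_ringKrullDim, IsLocalization.AtPrime.ringKrullDim_eq_height M S,
        VarDim.height_eq_of_isMaximal_mvPolynomial k n M hM]
      have : xs.length ≤ n := by simp [xs, ys]; omega
      exact_mod_cast this
    rw [show xs = (List.ofFn f).map (algebraMap R S) ++ ys.map (algebraMap R S) from List.map_append] at hreg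
    exact KReg44.isKoszulRegularSeq_of_isWeaklyRegular _ _ rfl ((isWeaklyRegular_append_iff S _ _).1 hreg).1
  haveI hf : Module.Flat R (Localization.AtPrime Q) := IsLocalization.flat _ Q.primeCompl
  let ψ : S →+* Localization.AtPrime Q := IsLocalization.lift (M := M.primeCompl) (g := φ) fun y =>
    IsLocalization.map_units _ (⟨y, fun hy => y.2 (hQM hy)⟩ : Q.primeCompl)
  have hψ : ψ.comp (algebraMap R S) = φ := IsLocalization.lift_comp _
  have hψflat : ψ.Flat := by
    letI := ψ.toAlgebra
    haveI : IsScalarTower R S (Localization.AtPrime Q) := IsScalarTower.of_algebraMap_eq' hψ.symm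
    exact (Module.flat_iff_of_isLocalization S M.primeCompl (Localization.AtPrime Q)).2 inferInstance
  have := KReg44.isKoszulRegularSeq_map ψ hψflat key
  rw [List.map_map, show (ψ : _ → _) ∘ algebraMap R S = φ from funext (RingHom.congr_fun hψ)] at this
  exact this

variable {S : Type u} [CommRing S] [Algebra k S]

theorem isLCI_of_isGlobalCI (h : Synt.IsGlobalCI k S) : LCI.IsLCI k S := by
  rcases h with h | ⟨n, c, hc, φ, r, hφ, hker, hdim⟩
  · let φ : MvPolynomial (Fin 0) k →ₐ[k] S := Algebra.ofId k S |>.comp (MvPolynomial.aeval fun i => i.elim0)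
    have hφ : Function.Surjective φ := fun s => ⟨0, Subsingleton.elim _ _⟩
    refine ⟨Algebra.FiniteType.of_surjective φ hφ, 0, φ, hφ, fun p hp => absurd ?_ p.isPrime.ne_top⟩
    rw [eq_top_iff]
    intro x _
    exact hp (by rw [RingHom.mem_ker]; exact Subsingleton.elim _ _)
  · refine ⟨Algebra.FiniteType.of_surjective φ hφ, n, φ, hφ, ?_⟩
    rw [hker, KReg44.span_range_eq_ofList]
    refine KReg44.isKoszulRegularIdeal_of_seq (isKoszulRegularSeq_of_dim hc r ?_)
    rw [← hdim, ← hker]
    exact (ringKrullDim_eq_of_ringEquiv (RingHom.quotientKerEquivOfSurjective (f := φ.toRingHom) hφ)).le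

theorem isLCI_of_isLCIOver (h : Synt.IsLCIOver k S) : LCI.IsLCI k S := by
  obtain ⟨-, h⟩ := h
  choose g hg hci using h
  have htop : Ideal.span (Set.range g) = ⊤ := by
    by_contra hne
    obtain ⟨M, hM, hle⟩ := Ideal.exists_le_maximal _ hne
    exact hg ⟨M, hM.isPrime⟩ (hle (Ideal.subset_span ⟨_, rfl⟩))
  obtain ⟨T, hT, hTspan⟩ : ∃ T : Finset S, (T : Set S) ⊆ Set.range g ∧ (1 : S) ∈ Ideal.span (T : Set S) :=
    Submodule.mem_span_finite_of_mem_span (htop.symm ▸ Submodule.mem_top : (1 : S) ∈ Ideal.span (Set.range g))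
  let e := T.equivFin
  refine KReg44.isLCI_of_span_eq_top (fun j => ((e.symm j : T) : S)) ?_ fun j => ?_
  · rw [Ideal.eq_top_iff_one]
    refine Ideal.span_mono (fun x hx => ?_) hTspan
    exact ⟨e ⟨x, hx⟩, by simp⟩
  · obtain ⟨p, hp⟩ := hT (e.symm j).2
    exact hp ▸ isLCI_of_isGlobalCI (hci p)

theorem isLCIOver_of_isLCI (h : LCI.IsLCI k S) : Synt.IsLCIOver k S := by
  obtain ⟨-, n, φ, hφ, hker⟩ := h
  haveI := QReg.projective_of_isLocallyQuasiRegular (KReg44.isLocallyQuasiRegular_of_isKoszulRegularIdeal hker)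
  exact GrpScheme.Syntomic.Algebra.isLCIOver_of_projective k n φ hφ

theorem isLCIOver_iff_isLCI : Synt.IsLCIOver k S ↔ LCI.IsLCI k S :=
  ⟨isLCI_of_isLCIOver, isLCIOver_of_isLCI⟩

end Groth.Agent.Synt44
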