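import Groth.Agent.Synt44.LocallyStandard
import Groth.Agent.CAlg48.QRBase
import Groth.Agent.Synt44.GlobalCI

/-!
# Syntomic is flat plus local complete intersection
-/

set_option autoImplicit false

universe u

open MvPolynomial TensorProduct

namespace Groth.Agent.Synt44

variable {R S : Type u} [CommRing R] [CommRing S] [Algebra R S]

theorem isLCI_of_equiv {T : Type u} [CommRing T] [Algebra R T] (e : S ≃ₐ[R] T) (h : LCI.IsLCI R S) :
    LCI.IsLCI R T := by
  obtain ⟨hft, n, f, hf, hker⟩ := h
  refine ⟨Algebra.FiniteType.equiv hft e, n, e.toAlgHom.comp f, e.surjective.comp hf, ?_⟩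
  change LCI.IsKoszulRegularIdeal (RingHom.ker (e.toRingEquiv.toRingHom.comp f.toRingHom))
  rwa [RingHom.ker_comp_of_injective _ e.injective]

theorem isLCI_relGCIRing {n c : ℕ} {F : Fin c → MvPolynomial (Fin n) R} (h : Synt.IsRelGCI R n c F) :
    LCI.IsLCI R (Synt.RelGCIRing R n c F) := by
  refine ⟨inferInstance, n, Ideal.Quotient.mkₐ R _, Ideal.Quotient.mk_surjective, ?_⟩
  have hk : RingHom.ker (Ideal.Quotient.mkₐ R (Ideal.span (Set.range F))).toRingHom = Ideal.ofList (List.ofFn F) :=
    (Ideal.mk_ker).trans (KReg44.span_range_eq_ofList F)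
  rw [hk]
  exact KReg44.isKoszulRegularIdeal_of_seq (RelGCI.isKoszulRegularSeq h)

theorem isLCI_of_isSyntomic (h : Synt.IsSyntomic R S) : LCI.IsLCI R S := by
  classical
  choose g hg n c F hF e using fun q : PrimeSpectrum S => exists_relGCI h q.asIdeal
  have htop : Ideal.span (Set.range g) = ⊤ := by
    by_contra hne
    obtain ⟨M, hM, hle⟩ := Ideal.exists_le_maximal _ hne
    exact hg ⟨M, hM.isPrime⟩ (hle (Ideal.subset_span ⟨_, rfl⟩))
  obtain ⟨T, hT, hTspan⟩ : ∃ T : Finset S, (T : Set S) ⊆ Set.range g ∧ (1 : S) ∈ Ideal.span (T : Set S) :=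
    Submodule.mem_span_finite_of_mem_span (htop.symm ▸ Submodule.mem_top : (1 : S) ∈ Ideal.span (Set.range g))
  let eT := T.equivFin
  refine KReg44.isLCI_of_span_eq_top (fun j => ((eT.symm j : T) : S)) ?_ fun j => ?_
  · rw [Ideal.eq_top_iff_one]
    refine Ideal.span_mono (fun x hx => ?_) hTspan
    exact ⟨eT ⟨x, hx⟩, by simp⟩
  · obtain ⟨q, hq⟩ := hT (eT.symm j).2
    obtain ⟨e'⟩ := e q
    exact hq ▸ isLCI_of_equiv e' (isLCI_relGCIRing (hF q))

/-- The presentation of a basic open. -/
theorem exists_away_presentation {n : ℕ} (f : MvPolynomial (Fin n) R →ₐ[R] S) (hf : Function.Surjective f)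
    (G : MvPolynomial (Fin n) R) :
    ∃ χ : Localization.Away G →ₐ[R] Localization.Away (f G), Function.Surjective χ ∧
      RingHom.ker χ.toRingHom = (RingHom.ker f.toRingHom).map (algebraMap _ _) := by
  haveI : IsLocalization ((Submonoid.powers G).map f.toRingHom) (Localization.Away (f G)) := by
    rw [Submonoid.map_powers]; exact inferInstanceAs (IsLocalization (Submonoid.powers (f G)) _)
  have hu' : ∀ y : Submonoid.powers G,
      IsUnit (((IsScalarTower.toAlgHom R S (Localization.Away (f G))).comp f) y) := by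
    rintro ⟨_, k, rfl⟩
    simpa using (IsLocalization.Away.algebraMap_isUnit (S := Localization.Away (f G)) (f G)).pow k
  let χ : Localization.Away G →ₐ[R] Localization.Away (f G) := IsLocalization.liftAlgHom hu'
  have hχe : χ.toRingHom = IsLocalization.map (S := Localization.Away G) (T := (Submonoid.powers G).map f.toRingHom)
      (Localization.Away (f G)) f.toRingHom (Submonoid.powers G).le_comap_map := by
    refine IsLocalization.ringHom_ext (Submonoid.powers G) ?_
    rw [IsLocalization.map_comp]
    exact IsLocalization.lift_comp hu'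
  refine ⟨χ, ?_, ?_⟩
  · change Function.Surjective χ.toRingHom
    rw [hχe]
    exact IsLocalization.map_surjective_of_surjective (M := Submonoid.powers G) (S := Localization.Away G)
      (Q := Localization.Away (f G)) (g := f.toRingHom) (h := hf)
  · rw [hχe]
    exact IsLocalization.ker_map (Q := Localization.Away (f G)) (S := Localization.Away G) (g := f.toRingHom) rfl

theorem finitePresentation_of_isLCI (h : LCI.IsLCI R S) : Algebra.FinitePresentation R S := by
  classical
  obtain ⟨-, n, f, hf, hker⟩ := h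
  have key : ∀ q : PrimeSpectrum S, ∃ g ∉ q.asIdeal, Algebra.FinitePresentation R (Localization.Away g) := fun q => by
    obtain ⟨G, hG, l, -, hspan⟩ := hker ⟨q.asIdeal.comap f.toRingHom, inferInstance⟩ fun x hx => by
      change f.toRingHom x ∈ q.asIdeal
      rw [show f.toRingHom x = 0 from hx]; exact zero_mem _
    obtain ⟨χ, hχ, hkχ⟩ := exists_away_presentation f hf G
    haveI : Algebra.FinitePresentation R (Localization.Away G) :=
      haveI := IsLocalization.Away.finitePresentation (R := MvPolynomial (Fin n) R) (S := Localization.Away G) G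
      Algebra.FinitePresentation.trans R (MvPolynomial (Fin n) R) _
    refine ⟨f G, hG, Algebra.FinitePresentation.of_surjective hχ ?_⟩
    rw [hkχ, hspan]
    exact ⟨l.toFinset, by congr 1; ext x; simp⟩
  choose g hg hfp using key
  refine Algebra.FinitePresentation.of_span_eq_top_target (Set.range g) ?_ (by rintro _ ⟨q, rfl⟩; exact hfp q)
  by_contra hne
  obtain ⟨M, hM, hle⟩ := Ideal.exists_le_maximal _ hne
  exact hg ⟨M, hM.isPrime⟩ (hle (Ideal.subset_span ⟨_, rfl⟩))

set_option maxHeartbeats 800000 in
theorem isSyntomic_of_isLCI [Module.Flat R S] (h : LCI.IsLCI R S) : Synt.IsSyntomic R S := by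
  refine ⟨inferInstance, finitePresentation_of_isLCI h, fun p => ?_⟩
  obtain ⟨-, n, f, hf, hker⟩ := h
  let K := p.asIdeal.ResidueField
  let P := MvPolynomial (Fin n) R
  let I : Ideal P := RingHom.ker f.toRingHom
  obtain ⟨gK, hgK, hkgK, -⟩ := exists_fibre_presentation p.asIdeal f hf
  -- local quasi-regularity in `K ⊗ P`
  let incR : P →+* K ⊗[R] P := (Algebra.TensorProduct.includeRight : P →ₐ[R] K ⊗[R] P).toRingHom
  have h₀ : PP16.IsLocallyQuasiRegular (K ⊗[R] P) (I.map incR) := by
    intro Qb hQb hle
    obtain ⟨G, hG, l, hl, hspan⟩ := hker ⟨Qb.comap incR, inferInstance⟩ (Ideal.map_le_iff_le_comap.1 hle)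
    let PG := Localization.Away G
    obtain ⟨r, fs, rfl⟩ : ∃ (r : ℕ) (fs : Fin r → PG), l = List.ofFn fs := ⟨_, _, (List.ofFn_get l).symm⟩
    replace hspan : I.map (algebraMap P PG) = Ideal.span (Set.range fs) :=
      hspan.trans (KReg44.span_range_eq_ofList fs).symm
    obtain ⟨χ, hχ, hkχ⟩ := exists_away_presentation f hf G
    haveI : Module.Flat R (Localization.Away (f G)) :=
      haveI := IsLocalization.flat (Localization.Away (f G)) (Submonoid.powers (f G))
      Module.Flat.trans R S _
    haveI : Module.Flat R (PG ⧸ Ideal.span (Set.range fs)) :=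
      Module.Flat.of_linearEquiv ((Ideal.quotientEquivAlgOfEq R (hspan.symm.trans hkχ.symm)).trans
        (Ideal.quotientKerAlgEquivOfSurjective (f := χ) hχ)).toLinearEquiv
    have h1 := CAlg48.QRBase.isQuasiRegular_baseChange fs R K (KReg44.isQuasiRegular fs hl)
    let e := IsLocalization.Away.tensorProductEquivTMulRight R K G PG
    have h2 := CAlg48.QRBase.isQuasiRegular_of_ringEquiv (e := e.toRingEquiv) (hq := h1)
    refine ⟨incR G, hG, r, fun i => e ((1 : K) ⊗ₜ[R] fs i), h2, ?_⟩
    let j : PG →+* Localization.Away (incR G) :=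
      e.toRingEquiv.toRingHom.comp (Algebra.TensorProduct.includeRight : PG →ₐ[R] K ⊗[R] PG).toRingHom
    have hj : j.comp (algebraMap P PG) = (algebraMap (K ⊗[R] P) (Localization.Away (incR G))).comp incR :=
      RingHom.ext fun a => IsLocalization.Away.tensorProductEquivTMulRight_tmul (R := R) (S := K) P G PG 1 a
    have hr : Set.range (fun i => e ((1 : K) ⊗ₜ[R] fs i)) = j '' Set.range fs := Set.range_comp j fs
    refine (congrArg Ideal.span hr).trans ?_
    refine (Ideal.map_span j _).symm.trans ?_
    rw [← hspan, Ideal.map_map, hj, ← Ideal.map_map]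
  -- transport to the polynomial ring
  let e := algebraTensorAlgEquiv (σ := Fin n) R K
  letI := e.symm.toRingEquiv.toRingHom.toAlgebra
  haveI : Module.FaithfullyFlat (MvPolynomial (Fin n) K) (K ⊗[R] P) := by
    haveI : Module.Flat (MvPolynomial (Fin n) K) (K ⊗[R] P) := RingHom.Flat.of_bijective e.symm.bijective
    exact Module.FaithfullyFlat.of_comap_surjective (fun p => ⟨PrimeSpectrum.comap e.toRingEquiv.toRingHom p, by
      rw [← PrimeSpectrum.comap_comp_apply]
      change PrimeSpectrum.comap (e.toRingEquiv.toRingHom.comp e.symm.toRingEquiv.toRingHom) p = p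
      rw [show e.toRingEquiv.toRingHom.comp e.symm.toRingEquiv.toRingHom = RingHom.id _ from
        RingHom.ext fun x => e.apply_symm_apply x]
      rfl⟩)
  have h₁ : PP16.IsLocallyQuasiRegular (MvPolynomial (Fin n) K) (RingHom.ker gK.toRingHom) := by
    refine QReg44.isLocallyQuasiRegular_of_map (B := K ⊗[R] P) ?_
    rw [hkgK, Ideal.map_map]
    have h3 : (algebraMap (MvPolynomial (Fin n) K) (K ⊗[R] P)).comp (red p.asIdeal) = incR :=
      RingHom.ext fun x => algebraTensorAlgEquiv_symm_map R K x
    rw [h3]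
    exact h₀
  haveI := QReg.projective_of_isLocallyQuasiRegular h₁
  exact GrpScheme.Syntomic.Algebra.isLCIOver_of_projective K n gK hgK

theorem isSyntomic_iff_flat_and_isLCI : Synt.IsSyntomic R S ↔ Module.Flat R S ∧ LCI.IsLCI R S :=
  ⟨fun h => ⟨h.1, isLCI_of_isSyntomic h⟩, fun ⟨_, h⟩ => isSyntomic_of_isLCI h⟩

end Groth.Agent.Synt44
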