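import Groth.Agent.LCI.RegularIdeal
import Groth.Agent.KReg44.Weakly
import Groth.Agent.SymGr.Regular
import Groth.Agent.KReg44.Ideal
import Groth.Prelude.Def_CInt

/-!
# Regular ideals at a prime: spreading out and localisation
-/

set_option autoImplicit false

universe u

open RingTheory.Sequence IsLocalRing

namespace Groth.Agent.Synt44

variable {R : Type u} [CommRing R] [IsNoetherianRing R]

/-- An ideal regular at a prime is generated by a regular sequence on a neighbourhood. -/
theorem exists_away_weaklyRegular (I : Ideal R) (p : Ideal R) [p.IsPrime] (ys : List (Localization.AtPrime p))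
    (hreg : IsWeaklyRegular (Localization.AtPrime p) ys)
    (hspan0 : Ideal.ofList ys = I.map (algebraMap R (Localization.AtPrime p))) :
    ∃ g ∉ p, ∃ l : List (Localization.Away g), IsWeaklyRegular (Localization.Away g) l ∧
      I.map (algebraMap R (Localization.Away g)) = Ideal.ofList l := by
  classical
  let Rp := Localization.AtPrime p
  set J := I.map (algebraMap R Rp) with hJdef
  obtain ⟨r, y, rfl⟩ : ∃ (r : ℕ) (y : Fin r → Rp), ys = List.ofFn y := ⟨_, _, (List.ofFn_get ys).symm⟩
  have hspan : Ideal.span (Set.range y) = J := by rw [KReg44.span_range_eq_ofList, hspan0]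
  have hy : ∀ j, y j ∈ J := fun j => hspan ▸ Ideal.subset_span ⟨j, rfl⟩
  choose as has using fun j => (IsLocalization.mem_map_algebraMap_iff p.primeCompl Rp).1 (hy j)
  let a : Fin r → R := fun j => ((as j).1 : R)
  have hay : ∀ j, algebraMap R Rp (a j) = algebraMap R Rp ((as j).2 : R) * y j := fun j => by
    rw [mul_comm]; exact (has j).symm
  have hspan' : (Ideal.span (Set.range a)).map (algebraMap R Rp) = J := by
    refine le_antisymm (Ideal.map_mono (Ideal.span_le.2 ?_)) ?_
    · rintro _ ⟨j, rfl⟩; exact (as j).1.2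
    · rw [← hspan, Ideal.span_le]
      rintro _ ⟨j, rfl⟩
      have h1 := Ideal.mem_map_of_mem (algebraMap R Rp)
        (show a j ∈ Ideal.span (Set.range a) from Ideal.subset_span ⟨j, rfl⟩)
      rw [hay] at h1
      exact (Ideal.unit_mul_mem_iff_mem _ (IsLocalization.map_units Rp (as j).2)).1 h1
  have hw : IsWeaklyRegular (LocalizedModule p.primeCompl R)
      ((List.ofFn a).map (algebraMap R Rp)) := by
    refine LCI.Vasconcelos.isWeaklyRegular_of_unit_mul (List.ofFn y) _ (LocalizedModule p.primeCompl R)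
      ?_ hreg
    rw [List.forall₂_iff_get]
    refine ⟨by simp, fun i h1 h2 => ⟨algebraMap R Rp ((as ⟨i, by simpa using h1⟩).2 : R),
      IsLocalization.map_units Rp _, ?_⟩⟩
    simp [hay]
  obtain ⟨f, hfp, hf⟩ := LCI.RegularIdeal.exists_notMem_isWeaklyRegular_of_isUnit p (List.ofFn a) R hw
  obtain ⟨t, ht⟩ := IsNoetherian.noetherian I
  have hm : ∀ i ∈ t, ∃ m ∉ p, m * i ∈ Ideal.span (Set.range a) := by
    intro i hi
    have h1 : algebraMap R Rp i ∈ (Ideal.span (Set.range a)).map (algebraMap R Rp) := by
      rw [hspan']; exact Ideal.mem_map_of_mem _ (ht ▸ Ideal.subset_span hi)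
    obtain ⟨m, hm, hmi⟩ := (IsLocalization.algebraMap_mem_map_algebraMap_iff p.primeCompl Rp _ i).1 h1
    exact ⟨m, hm, hmi⟩
  choose! m hmp hmI using hm
  refine ⟨f * ∏ i ∈ t, m i, fun h => ?_, ?_⟩
  · rcases ‹p.IsPrime›.mem_or_mem h with h | h
    · exact hfp h
    · obtain ⟨i, hi, hip⟩ := (‹p.IsPrime›.prod_mem_iff).1 h
      exact hmp i hi hip
  set g := f * ∏ i ∈ t, m i with hg
  let Rg := Localization.Away g
  have hu : IsUnit (algebraMap R Rg g) := IsLocalization.Away.algebraMap_isUnit g
  have hu2 : IsUnit (algebraMap R Rg f * algebraMap R Rg (∏ i ∈ t, m i)) := by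
    rw [← map_mul]; exact hu
  have hu' : ∀ i ∈ t, IsUnit (algebraMap R Rg (m i)) := fun i hi => by
    obtain ⟨c, hc⟩ := Finset.dvd_prod_of_mem m hi
    have h := isUnit_of_mul_isUnit_right hu2
    rw [hc, map_mul] at h
    exact isUnit_of_mul_isUnit_left h
  have hgen : (Ideal.span (Set.range a)).map (algebraMap R Rg) = I.map (algebraMap R Rg) := by
    refine le_antisymm (Ideal.map_mono (Ideal.span_le.2 ?_)) ?_
    · rintro _ ⟨j, rfl⟩; exact (as j).1.2
    · rw [← ht, Ideal.map_span, Ideal.span_le]
      rintro _ ⟨i, hi, rfl⟩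
      have h1 := Ideal.mem_map_of_mem (algebraMap R Rg) (hmI i hi)
      rw [map_mul] at h1
      exact (Ideal.unit_mul_mem_iff_mem _ (hu' i hi)).1 h1
  refine ⟨(List.ofFn a).map (algebraMap R Rg), ?_, ?_⟩
  · exact hf (Submonoid.powers g) (isUnit_of_mul_isUnit_left hu2)
  · rw [← hgen, KReg44.span_range_eq_ofList, Ideal.map_ofList]

/-- An ideal regular at a prime is generated by a Koszul regular sequence on a neighbourhood. -/
theorem exists_away_of_regular_atPrime (I : Ideal R) (p : Ideal R) [p.IsPrime] (ys : List (Localization.AtPrime p))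
    (hreg : IsWeaklyRegular (Localization.AtPrime p) ys)
    (hspan0 : Ideal.ofList ys = I.map (algebraMap R (Localization.AtPrime p))) :
    ∃ g ∉ p, ∃ l : List (Localization.Away g), LCI.IsKoszulRegularSeq (Localization.Away g) l ∧
      I.map (algebraMap R (Localization.Away g)) = Ideal.ofList l := by
  obtain ⟨g, hg, l, hl, hI⟩ := exists_away_weaklyRegular I p ys hreg hspan0
  exact ⟨g, hg, l, KReg44.isKoszulRegularSeq_of_isWeaklyRegular _ _ rfl hl, hI⟩

/-- Koszul regular sequences in the maximal ideal of a Noetherian local ring are regular. -/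
theorem isRegular_of_isKoszulRegularSeq {A : Type u} [CommRing A] [IsLocalRing A] [IsNoetherianRing A]
    {l : List A} (h : LCI.IsKoszulRegularSeq A l) (hl : ∀ x ∈ l, x ∈ maximalIdeal A) : IsRegular A l := by
  refine .of_isWeaklyRegular_of_mem_maximalIdeal _ hl ?_
  rw [← List.ofFn_get l]
  rw [← List.ofFn_get l] at h
  exact SymGr.Regular.isWeaklyRegular_of_isQuasiRegular _ _
    (fun i => by rw [IsLocalRing.ringJacobson_eq_maximalIdeal]; exact hl _ (List.get_mem l i))
    (KReg44.isQuasiRegular _ h)

/-- A Koszul regular ideal is a regular ideal at each prime containing it. -/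
theorem isRegularIdeal_map_atPrime {I : Ideal R} (h : LCI.IsKoszulRegularIdeal I) (P : Ideal R) [hP : P.IsPrime]
    (hIP : I ≤ P) : CInt.IsRegularIdeal (I.map (algebraMap R (Localization.AtPrime P))) := by
  obtain ⟨l, hl, hspan⟩ := KReg44.exists_local h P hP hIP
  refine ⟨l, isRegular_of_isKoszulRegularSeq hl fun x hx => ?_, hspan⟩
  have h1 : I.map (algebraMap R (Localization.AtPrime P)) ≤ maximalIdeal _ := by
    rw [← Localization.AtPrime.map_eq_maximalIdeal]; exact Ideal.map_mono hIP
  exact h1 (hspan ▸ Ideal.subset_span hx)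

end Groth.Agent.Synt44
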