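import Groth.Agent.Synt44.Localization
import Groth.Agent.KReg44.Smooth
import Mathlib.RingTheory.TensorProduct.MvPolynomial
import Mathlib.RingTheory.LocalRing.ResidueField.Fiber
import Mathlib.RingTheory.LocalProperties.Basic

/-!
# Base change of local complete intersection and syntomic algebras
-/

set_option autoImplicit false

universe u

open TensorProduct MvPolynomial

namespace Groth.Agent.Synt44

/-- Local complete intersection algebras are stable under flat base change. -/
theorem isLCI_baseChange {A : Type u} (A' : Type u) {B : Type u} [CommRing A] [CommRing A'] [CommRing B]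
    [Algebra A A'] [Algebra A B] [Module.Flat A A'] (h : LCI.IsLCI A B) : LCI.IsLCI A' (A' ⊗[A] B) := by
  obtain ⟨hft, n, f, hf, hker⟩ := h
  let e := algebraTensorAlgEquiv (σ := Fin n) A A'
  let g : A' ⊗[A] MvPolynomial (Fin n) A →ₐ[A'] A' ⊗[A] B :=
    Algebra.TensorProduct.map (AlgHom.id A' A') f
  have hg : Function.Surjective g := Algebra.TensorProduct.map_surjective _ _ Function.surjective_id hf
  refine ⟨inferInstance, n, g.comp e.symm.toAlgHom, hg.comp e.symm.surjective, ?_⟩
  refine KReg44.isKoszulRegularIdeal_of_equiv e.symm.toRingEquiv ?_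
  have hk : RingHom.ker g.toRingHom = (RingHom.ker f.toRingHom).map
      (Algebra.TensorProduct.includeRight : MvPolynomial (Fin n) A →ₐ[A] A' ⊗[A] MvPolynomial (Fin n) A).toRingHom :=
    Algebra.TensorProduct.lTensor_ker (A := A') f hf
  have h1 : (RingHom.ker (g.comp e.symm.toAlgHom).toRingHom).map e.symm.toRingEquiv.toRingHom = RingHom.ker g.toRingHom := by
    change (RingHom.ker (g.toRingHom.comp e.symm.toRingEquiv.toRingHom)).map _ = _
    rw [← RingHom.comap_ker]
    exact Ideal.map_comap_of_surjective _ e.symm.surjective _
  rw [h1, hk]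
  refine KReg44.isKoszulRegularIdeal_map _ ?_ hker
  have h2 : (Algebra.TensorProduct.includeRight : MvPolynomial (Fin n) A →ₐ[A] A' ⊗[A] MvPolynomial (Fin n) A).toRingHom
      = (Algebra.TensorProduct.comm A (MvPolynomial (Fin n) A) A').toRingEquiv.toRingHom.comp
        (algebraMap (MvPolynomial (Fin n) A) (MvPolynomial (Fin n) A ⊗[A] A')) :=
    RingHom.ext fun x => (Algebra.TensorProduct.comm_tmul A x (1 : A')).symm
  rw [h2]
  exact RingHom.Flat.comp (RingHom.flat_algebraMap_iff.2 inferInstance)
    (RingHom.Flat.of_bijective (Algebra.TensorProduct.comm A (MvPolynomial (Fin n) A) A').bijective)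

section Field

variable {k : Type u} [Field k] {S : Type u} [CommRing S] [Algebra k S]

/-- Local complete intersections over a field are stable under extension of the field. -/
theorem isLCIOver_baseChange (K : Type u) [Field K] [Algebra k K] (h : Synt.IsLCIOver k S) :
    Synt.IsLCIOver K (K ⊗[k] S) :=
  isLCIOver_of_isLCI (isLCI_baseChange K (isLCI_of_isLCIOver h))

end Field

variable {R S : Type u} [CommRing R] [CommRing S] [Algebra R S]

/-- Every geometric fibre of a syntomic algebra is a local complete intersection. -/
theorem isLCIOver_tensor (K : Type u) [Field K] [Algebra R K] (h : Synt.IsSyntomic R S) :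
    Synt.IsLCIOver K (K ⊗[R] S) := by
  let P : Ideal R := RingHom.ker (algebraMap R K)
  haveI hP : P.IsPrime := RingHom.ker_isPrime _
  let κ := P.ResidueField
  let ι : κ →ₐ[R] K := Ideal.ResidueField.liftₐ P (Algebra.ofId R K) (le_refl _)
    fun x hx => isUnit_iff_ne_zero.2 hx
  letI : Algebra κ K := ι.toRingHom.toAlgebra
  haveI : IsScalarTower R κ K := IsScalarTower.of_algebraMap_eq fun x => (ι.commutes x).symm
  exact isLCIOver_of_equiv (Algebra.TensorProduct.cancelBaseChange R κ K K S)
    (isLCIOver_baseChange K (h.2.2 ⟨P, hP⟩))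

/-- Syntomic algebras are stable under base change. -/
theorem isSyntomic_baseChange (R' : Type u) [CommRing R'] [Algebra R R'] (h : Synt.IsSyntomic R S) :
    Synt.IsSyntomic R' (R' ⊗[R] S) := by
  haveI := h.1
  haveI := h.2.1
  exact ⟨inferInstance, inferInstance, fun p => isLCIOver_of_equiv
    (Algebra.TensorProduct.cancelBaseChange R R' p.asIdeal.ResidueField p.asIdeal.ResidueField S).symm
    (isLCIOver_tensor p.asIdeal.ResidueField h)⟩

theorem isSyntomic_of_equiv {T : Type u} [CommRing T] [Algebra R T] (e : S ≃ₐ[R] T)
    (h : Synt.IsSyntomic R S) : Synt.IsSyntomic R T := by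
  haveI := h.1
  haveI := h.2.1
  exact ⟨Module.Flat.of_linearEquiv e.symm.toLinearEquiv, Algebra.FinitePresentation.equiv e,
    fun p => isLCIOver_of_equiv (Algebra.TensorProduct.congr AlgEquiv.refl e) (h.2.2 p)⟩

/-- Composition with a localisation of the target. -/
theorem isSyntomic_away (T : Type u) [CommRing T] [Algebra R T] [Algebra S T] [IsScalarTower R S T]
    (g : S) [IsLocalization.Away g T] (h : Synt.IsSyntomic R S) : Synt.IsSyntomic R T := by
  haveI := h.1
  haveI := h.2.1
  haveI : Module.Flat S T := IsLocalization.flat T (Submonoid.powers g)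
  haveI : Algebra.FinitePresentation S T := IsLocalization.Away.finitePresentation g
  exact ⟨Module.Flat.trans R S T, Algebra.FinitePresentation.trans R S T,
    fun p => isLCIOver_of_equiv (IsLocalization.Away.tensorProductEquivTMulRight R p.asIdeal.ResidueField g T).symm
      (isLCIOver_away _ (h.2.2 p))⟩

/-- Composition with a localisation of the source. -/
theorem isSyntomic_comp_away (R' : Type u) [CommRing R'] [Algebra R R'] [Algebra R' S] [IsScalarTower R R' S]
    (r : R) [IsLocalization.Away r R'] (h : Synt.IsSyntomic R' S) : Synt.IsSyntomic R S := by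
  haveI := h.1
  haveI := h.2.1
  haveI : Module.Flat R R' := IsLocalization.flat R' (Submonoid.powers r)
  haveI : Algebra.FinitePresentation R R' := IsLocalization.Away.finitePresentation r
  haveI : Algebra.FinitePresentation R S := Algebra.FinitePresentation.trans R R' S
  refine ⟨Module.Flat.trans R R' S, inferInstance, fun p => ?_⟩
  let K := p.asIdeal.ResidueField
  by_cases hr : r ∈ p.asIdeal
  · haveI : Subsingleton (K ⊗[R] S) := by
      refine subsingleton_of_zero_eq_one ?_
      have hu : IsUnit (algebraMap R S r) := by
        rw [IsScalarTower.algebraMap_apply R R' S]; exact (IsLocalization.Away.algebraMap_isUnit r).map _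
      obtain ⟨v, hv⟩ := hu.exists_left_inv
      calc (0 : K ⊗[R] S) = (r • (1 : K)) ⊗ₜ v := by
            rw [Algebra.smul_def, Ideal.algebraMap_residueField_eq_zero.2 hr, zero_mul, zero_tmul]
        _ = 1 ⊗ₜ (r • v) := by rw [smul_tmul]
        _ = 1 := by rw [Algebra.smul_def, mul_comm, hv]; rfl
    refine ⟨inferInstance, fun q => absurd q.isPrime ?_⟩
    exact fun hq => hq.ne_top (Subsingleton.elim _ _)
  · have hu : IsUnit (algebraMap R K r) := isUnit_iff_ne_zero.2
      fun h0 => hr (Ideal.algebraMap_residueField_eq_zero.1 h0)
    letI : Algebra R' K := (IsLocalization.Away.lift (S := R') r hu).toAlgebra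
    haveI : IsScalarTower R R' K := IsScalarTower.of_algebraMap_eq fun x =>
      (IsLocalization.Away.lift_eq r hu x).symm
    exact isLCIOver_of_equiv ((Algebra.TensorProduct.congr AlgEquiv.refl
      (IsLocalization.algebraLid (R := R) (Submonoid.powers r) R' S).symm).trans
        (Algebra.TensorProduct.cancelBaseChange R R' K K S)) (isLCIOver_tensor K h)

/-- Syntomic, as a property of ring homomorphisms. -/
def SyntomicHom {R S : Type u} [CommRing R] [CommRing S] (f : R →+* S) : Prop :=
  letI := f.toAlgebra
  Synt.IsSyntomic R S

theorem syntomicHom_algebraMap {R S : Type u} [CommRing R] [CommRing S] [alg : Algebra R S] :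
    SyntomicHom (algebraMap R S) ↔ Synt.IsSyntomic R S := by
  rw [SyntomicHom, toAlgebra_algebraMap]

theorem syntomicHom_respectsIso : RingHom.RespectsIso @SyntomicHom := by
  refine ⟨?_, ?_⟩
  · intro R S T _ _ _ f e hf
    algebraize [f, e.toRingHom.comp f]
    exact isSyntomic_of_equiv (AlgEquiv.ofRingEquiv (f := e) fun _ => rfl) hf
  · intro R S T _ _ _ f e hf
    algebraize [f, e.toRingHom, f.comp e.toRingHom]
    haveI : IsLocalization.Away (1 : R) S :=
      IsLocalization.away_of_isUnit_of_bijective S isUnit_one e.bijective
    exact isSyntomic_comp_away S (1 : R) hf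

theorem syntomicHom_isStableUnderBaseChange : RingHom.IsStableUnderBaseChange @SyntomicHom := by
  refine RingHom.IsStableUnderBaseChange.mk syntomicHom_respectsIso ?_
  intro R S T _ _ _ _ _ h
  exact syntomicHom_algebraMap.2 (isSyntomic_baseChange S (syntomicHom_algebraMap.1 h))

theorem syntomicHom_ofLocalizationSpanTarget : RingHom.OfLocalizationSpanTarget @SyntomicHom := by
  intro R S _ _ f s hs h
  algebraize [f]
  exact isSyntomic_of_span s hs fun g hg => by
    have := h ⟨g, hg⟩
    rw [show f = algebraMap R S from rfl, ← IsScalarTower.algebraMap_eq] at this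
    exact syntomicHom_algebraMap.1 this

theorem syntomicHom_stableUnderCompositionWithLocalizationAwaySource :
    RingHom.StableUnderCompositionWithLocalizationAwaySource @SyntomicHom := by
  intro R S T _ _ _ _ r _ f hf
  algebraize [f, f.comp (algebraMap R S)]
  exact isSyntomic_comp_away S r hf

theorem syntomicHom_propertyIsLocal : RingHom.PropertyIsLocal @SyntomicHom where
  localizationAwayPreserves := syntomicHom_isStableUnderBaseChange.localizationPreserves.away
  ofLocalizationSpanTarget := syntomicHom_ofLocalizationSpanTarget
  ofLocalizationSpan := syntomicHom_ofLocalizationSpanTarget.ofLocalizationSpan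
    syntomicHom_stableUnderCompositionWithLocalizationAwaySource
  StableUnderCompositionWithLocalizationAwayTarget := by
    intro R S T _ _ _ _ s _ f hf
    algebraize [f, (algebraMap S T).comp f]
    exact isSyntomic_away T s hf

end Groth.Agent.Synt44
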