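import Groth.Agent.Synt44.LocallyStandardLocal
import Groth.Agent.Synt44.CIEquiv
import Groth.Agent.RelGCI.Main

/-!
# Local conditions for syntomic neighbourhoods
-/

set_option autoImplicit false

universe u

open TensorProduct

namespace Groth.Agent.Synt44

variable {R S : Type u} [CommRing R] [CommRing S] [Algebra R S]

/-- The local ring at `q` is the local ring of the basic open at the prime above `q`. -/
theorem exists_prime_away_ring (q : Ideal S) [q.IsPrime] (g : S) (hg : g ∉ q) :
    ∃ (q' : Ideal (Localization.Away g)) (_ : q'.IsPrime), q'.comap (algebraMap S _) = q ∧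
      Nonempty (Localization.AtPrime q' ≃ₐ[R] Localization.AtPrime q) := by
  let Sg := Localization.Away g
  have hd : Disjoint (Submonoid.powers g : Set S) q := (Ideal.disjoint_powers_iff_notMem_of_isPrime g).2 hg
  let q' := q.map (algebraMap S Sg)
  haveI hq' : q'.IsPrime := IsLocalization.isPrime_of_isPrime_disjoint _ Sg _ ‹_› hd
  have hqq : q'.comap (algebraMap S Sg) = q := IsLocalization.under_map_of_isPrime_disjoint _ Sg ‹_› hd
  haveI : IsLocalization.AtPrime (Localization.AtPrime q') q := by
    have h1 := IsLocalization.isLocalization_isLocalization_atPrime_isLocalization (R := S) (S := Sg)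
      (Submonoid.powers g) (Localization.AtPrime q') q'
    have h2 : (q'.comap (algebraMap S Sg)).primeCompl = q.primeCompl := by
      ext x; change x ∉ q'.comap _ ↔ x ∉ q; rw [hqq]
    change IsLocalization q.primeCompl _
    rw [← h2]; exact h1
  exact ⟨q', hq', hqq,
    ⟨(IsLocalization.algEquiv q.primeCompl (Localization.AtPrime q') (Localization.AtPrime q)).restrictScalars R⟩⟩

variable (p : Ideal R) [p.IsPrime] (q : Ideal S) [q.IsPrime]

theorem flat_atPrime_of_syntomic_away (g : S) (hg : g ∉ q) (h : Synt.IsSyntomic R (Localization.Away g)) :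
    Module.Flat R (Localization.AtPrime q) := by
  obtain ⟨q', hq', -, ⟨e⟩⟩ := exists_prime_away_ring (R := R) q g hg
  haveI := h.1
  haveI : Module.Flat R (Localization.AtPrime q') :=
    haveI : Module.Flat (Localization.Away g) (Localization.AtPrime q') :=
      IsLocalization.flat _ q'.primeCompl
    Module.Flat.trans R (Localization.Away g) _
  exact Module.Flat.of_linearEquiv e.symm.toLinearEquiv

variable (Q : Ideal (p.Fiber S)) [Q.IsPrime] (hQ : Q.comap (Algebra.TensorProduct.includeRight.toRingHom) = q)

include hQ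

theorem tmul_notMem (g : S) (hg : g ∉ q) : ((1 : p.ResidueField) ⊗ₜ[R] g : p.Fiber S) ∉ Q :=
  fun h => hg (hQ ▸ h)

theorem isCIOver_of_syntomic_away (g : S) (hg : g ∉ q) (h : Synt.IsSyntomic R (Localization.Away g)) :
    Synt.IsCIOver p.ResidueField (Localization.AtPrime Q) :=
  isCIOver_of_isLCIOver_away Q _ (tmul_notMem p q Q hQ g hg)
    (isLCIOver_of_equiv (IsLocalization.Away.tensorProductEquivTMulRight R p.ResidueField g (Localization.Away g))
      (h.2.2 ⟨p, inferInstance⟩))

theorem exists_relGCI_away [q.LiesOver p] (g : S) (hg : g ∉ q) [Algebra.FinitePresentation R (Localization.Away g)]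
    (hflat : Module.Flat R (Localization.AtPrime q)) (hci : Synt.IsCIOver p.ResidueField (Localization.AtPrime Q)) :
    ∃ g' ∉ q, ∃ (n c : ℕ) (F : Fin c → MvPolynomial (Fin n) R), Synt.IsRelGCI R n c F ∧
      Nonempty (Localization.Away g' ≃ₐ[R] Synt.RelGCIRing R n c F) := by
  obtain ⟨q', hq', hqq, ⟨e⟩⟩ := exists_prime_away_ring (R := R) q g hg
  obtain rfl : p = q'.under R := by
    rw [Ideal.LiesOver.over (P := q) (p := p), ← hqq]
    change (q'.comap (algebraMap S _)).comap (algebraMap R S) = q'.comap (algebraMap R _)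
    rw [Ideal.comap_comap, ← IsScalarTower.algebraMap_eq]
  haveI : Module.Flat R (Localization.AtPrime q') := Module.Flat.of_linearEquiv e.toLinearEquiv
  let K := (q'.under R).ResidueField
  let T := Localization.Away ((1 : K) ⊗ₜ[R] g : (q'.under R).Fiber S)
  let e₀ : (q'.under R).Fiber (Localization.Away g) ≃ₐ[K] T :=
    IsLocalization.Away.tensorProductEquivTMulRight R K g (Localization.Away g)
  obtain ⟨Q'', hQ'', hQQ, ⟨eQ⟩⟩ := exists_prime_away (k := K) Q ((1 : K) ⊗ₜ[R] g) (tmul_notMem _ q Q hQ g hg)
  let Q' : Ideal ((q'.under R).Fiber (Localization.Away g)) := Q''.comap e₀.toRingEquiv.toRingHom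
  haveI : Q'.IsPrime := Ideal.comap_isPrime _ _
  have hQ' : Q'.comap Algebra.TensorProduct.includeRight.toRingHom = q' := by
    refine (IsLocalization.map_under (Submonoid.powers g) _ (Q'.comap Algebra.TensorProduct.includeRight.toRingHom)).symm.trans
      ((congrArg (Ideal.map (algebraMap S (Localization.Away g))) ?_).trans (IsLocalization.map_under (Submonoid.powers g) _ q'))
    ext s
    change e₀ ((1 : K) ⊗ₜ[R] algebraMap S (Localization.Away g) s) ∈ Q'' ↔ algebraMap S (Localization.Away g) s ∈ q'
    rw [IsLocalization.Away.tensorProductEquivTMulRight_tmul, ← Ideal.mem_comap (K := q'), hqq, ← hQ,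
      ← Ideal.mem_comap (K := Q''), hQQ]
    exact Iff.rfl
  let eT : Localization.AtPrime Q' ≃ₐ[K] Localization.AtPrime Q'' :=
    IsLocalization.algEquivOfAlgEquiv _ _ e₀ (M := Q'.primeCompl) (T := Q''.primeCompl) (by
      ext x
      constructor
      · rintro ⟨y, hy, rfl⟩; exact hy
      · intro hx; exact ⟨e₀.symm x, fun h => hx (by
          change e₀ (e₀.symm x) ∈ Q'' at h
          rwa [AlgEquiv.apply_symm_apply] at h), e₀.apply_symm_apply x⟩)
  obtain ⟨g', hg', n, c, F, hF, ⟨eF⟩⟩ := exists_relGCI_of_local q' inferInstance ⟨Q', inferInstance⟩ hQ'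
    (isCIOver_of_equiv (eQ.symm.trans eT.symm) hci)
  obtain ⟨⟨a, s⟩, ha⟩ := IsLocalization.surj (Submonoid.powers g) g'
  have hau : Associated g' (algebraMap S (Localization.Away g) a) := ⟨(IsLocalization.map_units _ s).unit, ha⟩
  have hap : a ∉ q := fun h1 => hg' (by
    rw [← Ideal.mul_unit_mem_iff_mem _ (IsLocalization.map_units (Localization.Away g) s), ha]
    rw [← hqq] at h1
    exact h1)
  let W := Localization.Away g'
  haveI : IsLocalization.Away (algebraMap S (Localization.Away g) a) W := IsLocalization.Away.of_associated hau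
  haveI : IsLocalization.Away (g * a) W := IsLocalization.Away.mul' (Localization.Away g) W g a
  exact ⟨g * a, Ideal.IsPrime.mul_notMem ‹_› hg hap, n, c, F, hF,
    ⟨((IsLocalization.algEquiv (Submonoid.powers (g * a)) (Localization.Away (g * a)) W).restrictScalars R).trans eF.symm⟩⟩

end Groth.Agent.Synt44
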