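import Groth.Agent.Synt44.BaseChange
import Mathlib.AlgebraicGeometry.Morphisms.RingHomProperties

/-!
# Syntomic morphisms form a property with a ring homomorphism counterpart
-/

set_option autoImplicit false

universe u

open AlgebraicGeometry CategoryTheory

namespace Groth.Agent.Synt44

/-- `Synt.IsSyntomicMor` as a morphism property. -/
def syntomicMor : MorphismProperty Scheme.{u} := fun _ _ f => Synt.IsSyntomicMor f

instance : HasRingHomProperty (affineLocally.{u} @SyntomicHom.{u}) @SyntomicHom.{u} :=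
  ⟨syntomicHom_propertyIsLocal, rfl⟩

theorem syntomicMor_eq : syntomicMor.{u} = affineLocally @SyntomicHom := by
  ext X S f
  rw [HasRingHomProperty.iff_exists_appLE (P := affineLocally @SyntomicHom)
    syntomicHom_stableUnderCompositionWithLocalizationAwaySource]
  refine forall_congr' fun x => ⟨?_, ?_⟩
  · rintro ⟨U, V, e, hx, h⟩; exact ⟨V, U, hx, e, h⟩
  · rintro ⟨V, U, hx, e, h⟩; exact ⟨U, V, e, hx, h⟩

instance : HasRingHomProperty syntomicMor.{u} @SyntomicHom.{u} :=
  ⟨syntomicHom_propertyIsLocal, syntomicMor_eq⟩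

instance : syntomicMor.{u}.IsStableUnderBaseChange :=
  HasRingHomProperty.isStableUnderBaseChange syntomicHom_isStableUnderBaseChange

theorem isSyntomicMor_iff_appLE {X S : Scheme.{u}} (f : X ⟶ S) :
    Synt.IsSyntomicMor f ↔ ∀ (U : S.affineOpens) (V : X.affineOpens) (e : V.1 ≤ f ⁻¹ᵁ U.1),
      SyntomicHom (f.appLE U.1 V.1 e).hom :=
  HasRingHomProperty.iff_appLE (P := syntomicMor.{u})

end Groth.Agent.Synt44
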