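import Groth.Agent.Synt44.CILocal
import Groth.Agent.Depth.CM

/-!
# Complete intersections are Cohen–Macaulay
-/

set_option autoImplicit false

universe u

open RingTheory.Sequence IsLocalRing

namespace Groth.Agent.Synt44

variable {R : Type u} [CommRing R] [IsLocalRing R] [IsNoetherianRing R]

theorem isCohenMacaulayModule_quotient_ofList : ∀ (rs : List R) (M : Type u) [AddCommGroup M] [Module R M]
    [Module.Finite R M], LocCoh.IsCohenMacaulayModule R M → (∀ r ∈ rs, r ∈ maximalIdeal R) → IsWeaklyRegular M rs →
      LocCoh.IsCohenMacaulayModule R (M ⧸ (Ideal.ofList rs • ⊤ : Submodule R M)) := by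
  intro rs
  induction rs with
  | nil =>
    intro M _ _ _ hM _ _
    exact (Depth.isCohenMacaulayModule_congr
      (Submodule.quotEquivOfEqBot (Ideal.ofList ([] : List R) • ⊤ : Submodule R M) (by simp)).symm).1 hM
  | cons r rs ih =>
    intro M _ _ _ hM hm hreg
    obtain ⟨h1, h2⟩ := (isWeaklyRegular_cons_iff M r rs).1 hreg
    exact (Depth.isCohenMacaulayModule_congr (Submodule.quotOfListConsSMulTopEquivQuotSMulTopInner M r rs).symm).1
      (ih (QuotSMulTop r M) ((Depth.isCohenMacaulayModule_quotSMulTop_iff (hm r List.mem_cons_self) h1).2 hM)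
        (fun x hx => hm x (List.mem_cons_of_mem _ hx)) h2)

theorem isCohenMacaulayLocalRing_of_isCIOver {k : Type u} [Field k] {S : Type u} [CommRing S] [IsLocalRing S]
    [Algebra k S] (h : Synt.IsCIOver k S) : LocCoh.IsCohenMacaulayLocalRing S := by
  obtain ⟨A, i1, i2, i3, hess, rs, hm, hrs, ⟨e⟩⟩ := h
  have hA := Depth.isCohenMacaulayModule_self A
    (h := Depth.isCohenMacaulayLocalRing_of_isRegularLocalRing)
  letI : Algebra A S := (e.symm.toRingEquiv.toRingHom.comp (Ideal.Quotient.mk _)).toAlgebra
  have hs : Function.Surjective (algebraMap A S) := e.symm.surjective.comp Ideal.Quotient.mk_surjective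
  haveI : IsNoetherianRing S := isNoetherianRing_of_surjective A S _ hs
  haveI : Module.Finite A S := Module.Finite.of_surjective (Algebra.linearMap A S) hs
  have he : (Ideal.ofList rs • ⊤ : Submodule A A) = Ideal.ofList rs := Ideal.mul_top _
  let l : (A ⧸ (Ideal.ofList rs • ⊤ : Submodule A A)) ≃ₗ[A] S :=
    (Submodule.quotEquivOfEq _ _ he).trans
      { e.symm.toRingEquiv.toAddEquiv with
        map_smul' := fun a x => by
          change e.symm (Ideal.Quotient.mk _ a * x) = algebraMap A S a * e.symm x
          rw [map_mul]; rfl }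
  exact Depth.isCohenMacaulayLocalRing_iff.2 ((Depth.isCohenMacaulayModule_iff_of_surjective (R := A) hs).2
    ((Depth.isCohenMacaulayModule_congr l).1
      (isCohenMacaulayModule_quotient_ofList rs A hA hm hrs.toIsWeaklyRegular)))

theorem isCohenMacaulayRing_of_isLCIOver {k : Type u} [Field k] {S : Type u} [CommRing S] [Algebra k S]
    (h : Synt.IsLCIOver k S) : LocCoh.IsCohenMacaulayRing S :=
  haveI := h.1
  haveI := Algebra.FiniteType.isNoetherianRing k S
  { isCohenMacaulayLocalRing_localization := fun p _ => isCohenMacaulayLocalRing_of_isCIOver (isCIOver_atPrime h p) }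

/-- Being a local complete intersection is a condition on the maximal ideals. -/
theorem isLCIOver_of_isCIOver_maximal {k : Type u} [Field k] {S : Type u} [CommRing S] [Algebra k S]
    [Algebra.FiniteType k S] (h : ∀ m : Ideal S, [m.IsMaximal] → Synt.IsCIOver k (Localization.AtPrime m)) :
    Synt.IsLCIOver k S := by
  have h' : ∀ m : MaximalSpectrum S, ∃ g ∉ m.asIdeal, Synt.IsLCIOver k (Localization.Away g) := fun m =>
    haveI := m.isMaximal
    exists_isLCIOver_away m.asIdeal (h m.asIdeal)
  choose g hg hci using h'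
  refine isLCIOver_of_span g ?_ hci
  by_contra hne
  obtain ⟨M, hM, hle⟩ := Ideal.exists_le_maximal _ hne
  exact hg ⟨M, hM⟩ (hle (Ideal.subset_span ⟨_, rfl⟩))

end Groth.Agent.Synt44
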