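import Groth.Agent.Synt44.FlatLift
import Groth.Agent.Synt44.CM
import Groth.Agent.Synt44.LCIOver
import Groth.Agent.RelDim.Open
import Groth.Agent.RelGCI.Main
import Groth.Agent.VarDim.Algebra

/-!
# Syntomic algebras are locally relative global complete intersections
-/

set_option autoImplicit false

universe u

open MvPolynomial TensorProduct IsLocalRing

namespace Groth.Agent.Synt44

/-- Primes of polynomial rings over a field containing a regular sequence locally have small
coheight. -/
theorem le_height_of_regular {A : Type u} [CommRing A] [IsNoetherianRing A] (Q : Ideal A) [Q.IsPrime] (P : Ideal A)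
    [P.IsPrime] (hPQ : P ≤ Q) (I : Ideal A) (hIP : I ≤ P) (ys : List (Localization.AtPrime Q))
    (hys : RingTheory.Sequence.IsRegular (Localization.AtPrime Q) ys)
    (hspan : Ideal.ofList ys = I.map (algebraMap A (Localization.AtPrime Q))) :
    (ys.length : ℕ∞) ≤ P.height := by
  let W := Localization.AtPrime Q
  let V := Localization.AtPrime P
  let ψ : W →+* V := IsLocalization.lift (M := Q.primeCompl) (g := algebraMap A V) fun y =>
    IsLocalization.map_units V (⟨y, fun hy => y.2 (hPQ hy)⟩ : P.primeCompl)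
  have hψ : ψ.comp (algebraMap A W) = algebraMap A V := IsLocalization.lift_comp _
  have hψflat : ψ.Flat := by
    letI := ψ.toAlgebra
    haveI : IsScalarTower A W V := IsScalarTower.of_algebraMap_eq' hψ.symm
    exact (Module.flat_iff_of_isLocalization W Q.primeCompl V).2 (IsLocalization.flat V P.primeCompl)
  have h1 := KReg44.isKoszulRegularSeq_map ψ hψflat (KReg44.isKoszulRegularSeq_of_isWeaklyRegular _ ys rfl hys.toIsWeaklyRegular)
  have hm : ∀ x ∈ ys.map ψ, x ∈ maximalIdeal V := fun x hx => by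
    have h2 : Ideal.ofList (ys.map ψ) ≤ maximalIdeal V := by
      rw [← Ideal.map_ofList, hspan, Ideal.map_map, hψ, ← Localization.AtPrime.map_eq_maximalIdeal]
      exact Ideal.map_mono hIP
    exact h2 (Ideal.subset_span hx)
  have h3 := ringKrullDim_add_length_eq_ringKrullDim_of_isRegular _ (isRegular_of_isKoszulRegularSeq h1 hm)
  haveI : Nontrivial (V ⧸ Ideal.ofList (ys.map ψ)) := Ideal.Quotient.nontrivial_iff.2 fun h =>
    (maximalIdeal.isMaximal V).ne_top (top_le_iff.1 (h ▸ Ideal.span_le.2 hm))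
  rw [IsLocalization.AtPrime.ringKrullDim_eq_height P V, List.length_map] at h3
  have h4 : (0 : WithBot ℕ∞) ≤ ringKrullDim (V ⧸ Ideal.ofList (ys.map ψ)) := ringKrullDim_nonneg_of_nontrivial
  have h5 : ((ys.length : ℕ∞) : WithBot ℕ∞) ≤ (P.height : WithBot ℕ∞) := by
    rw [← h3]
    exact le_add_of_nonneg_left h4
  exact WithBot.coe_le_coe.1 h5

variable {R : Type u} [CommRing R] {S : Type u} [CommRing S] [Algebra R S]

/-- The local dimension of a presented fibre at a complete intersection point. -/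
theorem localDim_le {K : Type u} [Field K] {F : Type u} [CommRing F] [Algebra K F] {n : ℕ}
    (g : MvPolynomial (Fin n) K →ₐ[K] F) (hg : Function.Surjective g) (Qf : PrimeSpectrum F)
    (ys : List (Localization.AtPrime (Qf.asIdeal.comap g.toRingHom)))
    (hys : RingTheory.Sequence.IsRegular (Localization.AtPrime (Qf.asIdeal.comap g.toRingHom)) ys)
    (hspan : Ideal.ofList ys = (RingHom.ker g.toRingHom).map (algebraMap _ _)) :
    ys.length ≤ n ∧ FlatMor.localDim (PrimeSpectrum F) Qf ≤ ((n - ys.length : ℕ) : WithBot ℕ∞) := by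
  let A := MvPolynomial (Fin n) K
  haveI : Algebra.FiniteType K F := Algebra.FiniteType.of_surjective g hg
  haveI : IsNoetherianRing F := Algebra.FiniteType.isNoetherianRing K F
  have hdimA : ringKrullDim A = (n : WithBot ℕ∞) := by
    simp [A]
  have key : ∀ P : Ideal A, P.IsPrime → RingHom.ker g.toRingHom ≤ P → P ≤ Qf.asIdeal.comap g.toRingHom →
      ys.length ≤ n ∧ ringKrullDim (A ⧸ P) ≤ ((n - ys.length : ℕ) : WithBot ℕ∞) := fun P hP hIP hPQ => by
    have h1 := le_height_of_regular _ P hPQ _ hIP ys hys hspan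
    have h2 := VarDim.ringKrullDim_quotient_add_height K A P
    rw [hdimA] at h2
    haveI : Nontrivial (A ⧸ P) := Ideal.Quotient.nontrivial_iff.2 hP.ne_top
    obtain ⟨d, hd, -⟩ := VarDim.exists_ringKrullDim_eq_trdeg K (A ⧸ P)
    rw [hd] at h2
    have h3 : ((d + P.height : ℕ∞) : WithBot ℕ∞) = ((n : ℕ∞) : WithBot ℕ∞) := by push_cast; exact h2
    have h4 : (d : ℕ∞) + ys.length ≤ n := (add_le_add le_rfl h1).trans (WithBot.coe_eq_coe.1 h3).le
    have h5 : d + ys.length ≤ n := by exact_mod_cast h4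
    refine ⟨by omega, ?_⟩
    rw [hd]
    exact_mod_cast (by omega : d ≤ n - ys.length)
  refine ⟨(key _ inferInstance (fun x hx => ?_) le_rfl).1, ?_⟩
  · rw [Ideal.mem_comap, show g.toRingHom x = 0 from hx]; exact zero_mem _
  refine le_trans (CAlgLib.LocalDimSpec.localDim_eq K Qf.asIdeal).le ?_
  refine iSup_le fun q => ?_
  haveI : q.1.IsPrime := q.2.1.1.1
  have hker : RingHom.ker g.toRingHom ≤ q.1.comap g.toRingHom := fun x hx => by
    rw [Ideal.mem_comap, show g.toRingHom x = 0 from hx]; exact zero_mem _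
  have h := (key (q.1.comap g.toRingHom) inferInstance hker (Ideal.comap_mono q.2.2)).2
  rwa [ringKrullDim_eq_of_ringEquiv ((Ideal.quotEquivOfEq (show q.1.comap g.toRingHom =
    RingHom.ker ((Ideal.Quotient.mk q.1).comp g.toRingHom) by rw [← RingHom.comap_ker, Ideal.mk_ker])).trans
      (RingHom.quotientKerEquivOfSurjective (f := (Ideal.Quotient.mk q.1).comp g.toRingHom)
        (Ideal.Quotient.mk_surjective.comp hg)))] at h

/-- A quotient of affine `n`-space over a field by `c ≤ n` equations has dimension at least `n - c`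
unless it is empty. -/
theorem le_ringKrullDim_quotient {K : Type u} [Field K] {n c : ℕ} (F : Fin c → MvPolynomial (Fin n) K)
    (hne : Ideal.span (Set.range F) ≠ ⊤) :
    ((n - c : ℕ) : WithBot ℕ∞) ≤ ringKrullDim (MvPolynomial (Fin n) K ⧸ Ideal.span (Set.range F)) := by
  obtain ⟨M, hM, hle⟩ := Ideal.exists_le_maximal _ hne
  haveI : Nontrivial (MvPolynomial (Fin n) K ⧸ Ideal.span (Set.range F)) := Ideal.Quotient.nontrivial_iff.2 hne
  haveI := Ideal.map_isPrime_of_surjective (f := Ideal.Quotient.mk (Ideal.span (Set.range F)))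
    Ideal.Quotient.mk_surjective (I := M) (by rwa [Ideal.mk_ker])
  have h2 := Ideal.height_le_height_add_spanFinrank_of_le (I := Ideal.span (Set.range F)) (p := M) hle
  rw [VarDim.height_eq_of_isMaximal_mvPolynomial K n M hM] at h2
  refine le_trans ?_ (Ideal.height_le_ringKrullDim_of_ne_top
    (I := M.map (Ideal.Quotient.mk (Ideal.span (Set.range F)))) (Ideal.IsPrime.ne_top ‹_›))
  have h4 : ((Ideal.span (Set.range F)).spanFinrank : ℕ∞) ≤ (c : ℕ∞) := by
    have h5 : (Set.range F).ncard ≤ c := by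
      rw [← Set.image_univ]
      exact (Set.ncard_image_le Set.finite_univ).trans (by simp)
    have := (Submodule.spanFinrank_span_le_ncard_of_finite (R := MvPolynomial (Fin n) K)
      (Set.finite_range F)).trans h5
    exact_mod_cast this
  have h3 : ((n - c : ℕ) : ℕ∞) ≤ (M.map (Ideal.Quotient.mk (Ideal.span (Set.range F)))).height := by
    rw [ENat.natCast_sub, tsub_le_iff_right]
    exact h2.trans (add_le_add le_rfl h4)
  calc ((n - c : ℕ) : WithBot ℕ∞) = (((n - c : ℕ) : ℕ∞) : WithBot ℕ∞) := rfl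
    _ ≤ _ := WithBot.coe_le_coe.2 h3

/-- A map of a list of fractions to numerators from a prescribed ideal. -/
theorem exists_unit_mul_red {n : ℕ} (p : Ideal R) [p.IsPrime] (I : Ideal (MvPolynomial (Fin n) R))
    (Qb : Ideal (MvPolynomial (Fin n) p.ResidueField)) [Qb.IsPrime] (y : Localization.AtPrime Qb)
    (hy : y ∈ (I.map (red p)).map (algebraMap _ (Localization.AtPrime Qb))) :
    ∃ w ∈ I, ∃ v : Localization.AtPrime Qb, IsUnit v ∧ algebraMap _ _ (red p w) = v * y := by
  obtain ⟨⟨⟨z, hz⟩, s⟩, hzs⟩ := (IsLocalization.mem_map_algebraMap_iff Qb.primeCompl _).1 hy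
  obtain ⟨a, ha, w, hw, haw⟩ := exists_C_mul_mem p hz
  have hu : IsUnit (C (algebraMap R p.ResidueField a) : MvPolynomial (Fin n) p.ResidueField) :=
    (isUnit_iff_ne_zero.2 fun h0 => ha (Ideal.algebraMap_residueField_eq_zero.1 h0)).map C
  refine ⟨w, hw, algebraMap _ (Localization.AtPrime Qb) (C (algebraMap R p.ResidueField a)) * algebraMap _ _ (s : MvPolynomial (Fin n) p.ResidueField),
    (hu.map _).mul (IsLocalization.map_units _ s), ?_⟩
  rw [← haw, map_mul, ← hzs]
  ring

set_option maxHeartbeats 1000000 in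
/-- A syntomic algebra is a relative global complete intersection near each prime. -/
theorem exists_relGCI (h : Synt.IsSyntomic R S) (q : Ideal S) [q.IsPrime] :
    ∃ g ∉ q, ∃ (n c : ℕ) (F : Fin c → MvPolynomial (Fin n) R), Synt.IsRelGCI R n c F ∧
      Nonempty (Synt.RelGCIRing R n c F ≃ₐ[R] Localization.Away g) := by
  classical
  obtain ⟨hflat, hfp, hfib⟩ := h
  obtain ⟨n, f, hf, hIfg⟩ := hfp.out
  let P := MvPolynomial (Fin n) R
  let I : Ideal P := RingHom.ker f.toRingHom
  let p : Ideal R := q.under R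
  let K := p.ResidueField
  obtain ⟨Qf, hQf⟩ := RelDim.exists_over R S ⟨q, inferInstance⟩
  obtain ⟨gK, hgK, hkgK, hgK'⟩ := exists_fibre_presentation p f hf
  let Qb : Ideal (MvPolynomial (Fin n) K) := Qf.asIdeal.comap gK.toRingHom
  let W := Localization.AtPrime Qb
  let Q : Ideal P := q.comap f.toRingHom
  have hQ : ∀ x : P, red p x ∈ Qb ↔ x ∈ Q := fun x => by
    change gK (red p x) ∈ Qf.asIdeal ↔ f x ∈ q
    rw [hgK']
    exact SetLike.ext_iff.1 hQf (f x)
  have hIQ : I ≤ Q := fun x hx => by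
    change f x ∈ q
    rw [show f x = 0 from hx]; exact zero_mem _
  -- the regular sequence in the fibre
  haveI : Algebra.FiniteType R S := inferInstance
  have hci := isCIOver_atPrime (hfib ⟨p, inferInstance⟩) Qf.asIdeal
  obtain ⟨π, hπ, hkπ⟩ := exists_presentation_atPrime gK hgK Qf.asIdeal
  haveI := isRegularLocalRing_atPrime Qb
  obtain ⟨ys, hys, hspan⟩ := isRegularIdeal_ker_of_isCIOver hci π hπ
  rw [hkπ] at hspan
  obtain ⟨hcn, hdim⟩ := localDim_le gK hgK Qf ys hys hspan
  set c := ys.length with hc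
  rw [hkgK] at hspan
  choose w hwI v hv hwv using fun j : Fin c => exists_unit_mul_red p I Qb (ys.get j)
    (hspan ▸ Ideal.subset_span (List.get_mem ys j))
  let J : Ideal P := Ideal.span (Set.range w)
  have hJI : J ≤ I := Ideal.span_le.2 (by rintro _ ⟨j, rfl⟩; exact hwI j)
  have hgen : (I.map (red p)).map (algebraMap _ W) ≤ (J.map (red p)).map (algebraMap _ W) := by
    rw [← hspan, Ideal.ofList, Ideal.span_le]
    intro y (hy : y ∈ ys)
    obtain ⟨j, rfl⟩ := List.get_of_mem hy
    have h1 := Ideal.mem_map_of_mem (algebraMap _ W)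
      (Ideal.mem_map_of_mem (red p) (show w j ∈ J from Ideal.subset_span ⟨j, rfl⟩))
    rw [hwv] at h1
    exact (Ideal.unit_mul_mem_iff_mem _ (hv j)).1 h1
  -- Nakayama
  let L := Localization.AtPrime Q
  have hsm : ∀ x ∈ I, ∃ s : P, s ∉ Q ∧ s * x ∈ J ⊔ p.map (algebraMap R P) * I := fun x hx => by
    obtain ⟨t, ht, htx⟩ := (IsLocalization.algebraMap_mem_map_algebraMap_iff Qb.primeCompl W _ _).1
      (hgen (Ideal.mem_map_of_mem _ (Ideal.mem_map_of_mem (red p) hx)))
    obtain ⟨a, ha, s, hs⟩ := exists_C_mul_red p t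
    have h1 : red p (s * x) ∈ J.map (red p) := by
      rw [map_mul, ← hs, mul_assoc]; exact Ideal.mul_mem_left _ _ htx
    obtain ⟨a', ha', j, hj, hj'⟩ := exists_C_mul_mem p h1
    have hsQ : s ∉ Q := fun h2 => by
      have h3 := (hQ s).2 h2
      rw [← hs] at h3
      exact ht ((Ideal.unit_mul_mem_iff_mem _ ((isUnit_iff_ne_zero.2 fun h0 => ha (Ideal.algebraMap_residueField_eq_zero.1 h0)).map C)).1 h3)
    have ha'Q : C a' ∉ Q := fun h2 => ha' (by
      have h3 : f (C a') ∈ q := h2
      rw [← MvPolynomial.algebraMap_eq, AlgHom.commutes] at h3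
      exact h3)
    refine ⟨C a' * s, fun h2 => (Ideal.IsPrime.mem_or_mem inferInstance h2).elim ha'Q hsQ, ?_⟩
    have hk : C a' * (s * x) - j ∈ p.map (algebraMap R P) := by
      rw [MvPolynomial.algebraMap_eq, ← ker_red]
      change red p _ = 0
      rw [map_sub, map_mul, MvPolynomial.map_C, hj', sub_self]
    have hI' : C a' * (s * x) - j ∈ I := sub_mem (I.mul_mem_left _ (I.mul_mem_left _ hx)) (hJI hj)
    rw [mul_assoc, show C a' * (s * x) = j + (C a' * (s * x) - j) by ring]
    exact Submodule.add_mem_sup hj (mem_map_mul_of_flat f hf p hI' hk)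
  have hpQ : (p.map (algebraMap R P)).map (algebraMap P L) ≤ Ring.jacobson L := by
    rw [IsLocalRing.ringJacobson_eq_maximalIdeal, ← Localization.AtPrime.map_eq_maximalIdeal]
    refine Ideal.map_mono (Ideal.map_le_iff_le_comap.2 fun a ha => ?_)
    change f (algebraMap R P a) ∈ q
    rw [AlgHom.commutes]; exact ha
  have hnak : I.map (algebraMap P L) ≤ J.map (algebraMap P L) := by
    refine Submodule.le_of_le_smul_of_le_jacobson_bot (I := (p.map (algebraMap R P)).map (algebraMap P L))
      (Ideal.FG.map hIfg _) (by rwa [← Ideal.jacobson_bot] at hpQ) ?_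
    rw [Ideal.map_le_iff_le_comap]
    intro x hx
    obtain ⟨s, hs, hsx⟩ := hsm x hx
    have h1 := Ideal.mem_map_of_mem (algebraMap P L) hsx
    rw [Ideal.map_sup, Ideal.map_mul, map_mul] at h1
    exact (Ideal.unit_mul_mem_iff_mem _ (IsLocalization.map_units L (⟨s, hs⟩ : Q.primeCompl))).1 h1
  -- spreading out
  obtain ⟨t, ht⟩ := hIfg
  have hm : ∀ i ∈ t, ∃ m ∉ Q, m * i ∈ J := fun i hi => by
    obtain ⟨m, hm, hmi⟩ := (IsLocalization.algebraMap_mem_map_algebraMap_iff Q.primeCompl L _ i).1
      (hnak (Ideal.mem_map_of_mem _ (show i ∈ I from ht.le (Ideal.subset_span hi))))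
    exact ⟨m, hm, hmi⟩
  choose! m hmQ hmJ using hm
  -- the dimension bound
  haveI : q.LiesOver p := ⟨rfl⟩
  obtain ⟨g₀, hg₀, φ, -, hφ⟩ := RelDim.exists_quasiFinite_away R S p q Qf hQf (n - c) hdim
  obtain ⟨G₀, hG₀⟩ := hf g₀
  let G : P := G₀ * ∏ i ∈ t, m i
  have hGQ : G ∉ Q := fun h2 => by
    rcases Ideal.IsPrime.mem_or_mem inferInstance h2 with h2 | h2
    · exact hg₀ (hG₀ ▸ h2)
    · obtain ⟨i, hi, hiQ⟩ := (Ideal.IsPrime.prod_mem_iff).1 h2
      exact hmQ i hi hiQ
  let PG := Localization.Away G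
  have hu : IsUnit (algebraMap P PG (∏ i ∈ t, m i)) := by
    have := IsLocalization.Away.algebraMap_isUnit (S := PG) G
    rw [map_mul] at this
    exact isUnit_of_mul_isUnit_right this
  have hIG : I.map (algebraMap P PG) = J.map (algebraMap P PG) := by
    refine le_antisymm ?_ (Ideal.map_mono hJI)
    rw [show I = Ideal.span (t : Set P) from ht.symm, Ideal.map_span, Ideal.span_le]
    rintro _ ⟨i, hi, rfl⟩
    have h1 := Ideal.mem_map_of_mem (algebraMap P PG) (hmJ i hi)
    rw [map_mul] at h1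
    obtain ⟨e, he⟩ := Finset.dvd_prod_of_mem m hi
    rw [he, map_mul] at hu
    exact (Ideal.unit_mul_mem_iff_mem _ (isUnit_of_mul_isUnit_left hu)).1 h1
  -- the presentation
  obtain ⟨ψ, h₁, hψ, hkψ⟩ := exists_psi_ring G
  haveI : IsLocalization ((Submonoid.powers G).map f.toRingHom) (Localization.Away (f G)) := by
    rw [Submonoid.map_powers]; exact inferInstanceAs (IsLocalization (Submonoid.powers (f G)) _)
  have hu' : ∀ y : Submonoid.powers G,
      IsUnit (((IsScalarTower.toAlgHom R S (Localization.Away (f G))).comp f) y) := by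
    rintro ⟨_, k, rfl⟩
    simpa using (IsLocalization.Away.algebraMap_isUnit (S := Localization.Away (f G)) (f G)).pow k
  let χ : PG →ₐ[R] Localization.Away (f G) := IsLocalization.liftAlgHom hu'
  have hχe : χ.toRingHom = IsLocalization.map (S := PG) (T := (Submonoid.powers G).map f.toRingHom)
      (Localization.Away (f G)) f.toRingHom (Submonoid.powers G).le_comap_map := by
    refine IsLocalization.ringHom_ext (Submonoid.powers G) ?_
    rw [IsLocalization.map_comp]
    exact IsLocalization.lift_comp hu'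
  have hχ : Function.Surjective χ := by
    change Function.Surjective χ.toRingHom
    rw [hχe]
    exact IsLocalization.map_surjective_of_surjective (M := Submonoid.powers G) (S := PG)
      (Q := Localization.Away (f G)) (g := f.toRingHom) (h := hf)
  have hkχ : RingHom.ker χ.toRingHom = I.map (algebraMap P PG) := by
    rw [hχe]
    exact IsLocalization.ker_map (Q := Localization.Away (f G)) (S := PG) (g := f.toRingHom) rfl
  choose F₀ hF₀ using fun j : Fin c => hψ (algebraMap P PG (w j))
  let F : Fin (c + 1) → MvPolynomial (Fin (n + 1)) R := Fin.cons h₁ F₀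
  have hkF : RingHom.ker (χ.comp ψ).toRingHom = Ideal.span (Set.range F) := by
    change RingHom.ker (χ.toRingHom.comp ψ.toRingHom) = _
    rw [← RingHom.comap_ker, hkχ, hIG, Ideal.map_span, ← Set.range_comp,
      show (algebraMap P PG) ∘ w = ψ.toRingHom ∘ F₀ from funext fun j => (hF₀ j).symm,
      Set.range_comp, ← Ideal.map_span, Fin.range_cons, Ideal.span_insert, sup_comm, ← hkψ]
    exact Ideal.comap_map_of_surjective' _ hψ _
  let e : Synt.RelGCIRing R (n + 1) (c + 1) F ≃ₐ[R] Localization.Away (f G) :=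
    (Ideal.quotientEquivAlgOfEq R hkF.symm).trans
      (Ideal.quotientKerAlgEquivOfSurjective (f := χ.comp ψ) (hχ.comp hψ))
  refine ⟨f G, hGQ, n + 1, c + 1, F, fun p' hnt => ⟨by omega, ?_⟩, ⟨e⟩⟩
  rw [Nat.add_sub_add_right]
  refine le_antisymm ?_ ?_
  · let K' := p'.asIdeal.ResidueField
    let e₁ : p'.asIdeal.Fiber (Synt.RelGCIRing R (n + 1) (c + 1) F) ≃ₐ[K']
        Localization.Away ((1 : K') ⊗ₜ[R] f G : p'.asIdeal.Fiber S) :=
      (Algebra.TensorProduct.congr AlgEquiv.refl e).trans
        (IsLocalization.Away.tensorProductEquivTMulRight R K' (f G) (Localization.Away (f G)))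
    rw [ringKrullDim_eq_of_ringEquiv e₁.toRingEquiv]
    have hG : f G = f (∏ i ∈ t, m i) * g₀ := by rw [map_mul, hG₀, mul_comm]
    let T₀ := Localization.Away ((1 : K') ⊗ₜ[R] g₀ : p'.asIdeal.Fiber S)
    refine le_trans ?_ (RelDim.ringKrullDim_fibre_away_le R S (n - c) g₀ φ hφ p'.asIdeal)
    let z : T₀ := algebraMap _ T₀ ((1 : K') ⊗ₜ[R] f (∏ i ∈ t, m i) : p'.asIdeal.Fiber S)
    haveI : IsLocalization.Away ((1 : K') ⊗ₜ[R] f G : p'.asIdeal.Fiber S) (Localization.Away z) := by
      rw [show ((1 : K') ⊗ₜ[R] f G : p'.asIdeal.Fiber S) = ((1 : K') ⊗ₜ[R] g₀) * ((1 : K') ⊗ₜ[R] f (∏ i ∈ t, m i)) by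
        rw [Algebra.TensorProduct.tmul_mul_tmul, mul_one, hG, mul_comm]]
      exact IsLocalization.Away.mul' T₀ (Localization.Away z) _ _
    rw [ringKrullDim_eq_of_ringEquiv (IsLocalization.algEquiv (Submonoid.powers ((1 : K') ⊗ₜ[R] f G : p'.asIdeal.Fiber S))
      (Localization.Away ((1 : K') ⊗ₜ[R] f G : p'.asIdeal.Fiber S)) (Localization.Away z)).toRingEquiv]
    exact Order.krullDim_le_of_strictMono (PrimeSpectrum.comap (algebraMap T₀ (Localization.Away z)))
      (Monotone.strictMono_of_injective (fun a b hab => Ideal.comap_mono hab)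
        (PrimeSpectrum.localization_comap_injective (Localization.Away z) (Submonoid.powers z)))
  · obtain ⟨e₂⟩ := RelGCI.nonempty_fiberEquiv F p'.asIdeal
    rw [ringKrullDim_eq_of_ringEquiv e₂.toRingEquiv]
    have hne : Ideal.span (Set.range fun i => MvPolynomial.map (algebraMap R p'.asIdeal.ResidueField) (F i)) ≠ ⊤ :=
      Ideal.Quotient.nontrivial_iff.1 e₂.toEquiv.symm.nontrivial
    have := le_ringKrullDim_quotient _ hne
    rwa [Nat.add_sub_add_right] at this

end Groth.Agent.Synt44
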