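import Groth.Agent.Synt44.RelGCILift
import Groth.Agent.Synt44.LocallyStandard

/-!
# Syntomic algebras over quotients lift locally to relative global complete intersections
-/

set_option autoImplicit false

universe u

open MvPolynomial

namespace Groth.Agent.Synt44

variable {R : Type u} [CommRing R]

theorem nonempty_quotientAwayEquiv {S : Type u} [CommRing S] [Algebra R S] (J : Ideal S) (g : S) (hg : g - 1 ∈ J) :
    Nonempty ((Localization.Away g ⧸ J.map (algebraMap S (Localization.Away g))) ≃ₐ[R] S ⧸ J) := by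
  have hg1 : Ideal.Quotient.mk J g = 1 := by
    rw [← map_one (Ideal.Quotient.mk J)]; exact Ideal.Quotient.eq.2 hg
  have hu : ∀ y : Submonoid.powers g, IsUnit (Ideal.Quotient.mkₐ R J y) := by
    rintro ⟨_, k, rfl⟩
    rw [map_pow]
    exact (isUnit_one.pow k : IsUnit ((1 : S ⧸ J) ^ k)) |> fun h => by rw [Ideal.Quotient.mkₐ_eq_mk, hg1]; exact h
  let φ : Localization.Away g →ₐ[R] S ⧸ J := IsLocalization.liftAlgHom hu
  have hφ : ∀ y, φ (algebraMap S _ y) = Ideal.Quotient.mk J y := fun y => IsLocalization.lift_eq _ y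
  have hsurj : Function.Surjective φ := fun y => by
    obtain ⟨y, rfl⟩ := Ideal.Quotient.mk_surjective y
    exact ⟨_, hφ y⟩
  have hker : RingHom.ker φ.toRingHom = J.map (algebraMap S (Localization.Away g)) := by
    refine le_antisymm (fun x hx => ?_) (Ideal.map_le_iff_le_comap.2 fun y hy => ?_)
    · obtain ⟨⟨y, m, hm⟩, rfl⟩ := IsLocalization.mk'_surjective (Submonoid.powers g) x
      have h2 : φ (IsLocalization.mk' _ y ⟨m, hm⟩) * φ (algebraMap S _ m) = φ (algebraMap S _ y) := by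
        rw [← map_mul, IsLocalization.mk'_spec]
      rw [show φ (IsLocalization.mk' _ y ⟨m, hm⟩) = 0 from hx, zero_mul, hφ] at h2
      exact (IsLocalization.mk'_mem_map_algebraMap_iff (Submonoid.powers g) _ J y ⟨m, hm⟩).2
        ⟨1, one_mem _, by rw [one_mul]; exact (Ideal.Quotient.eq_zero_iff_mem).1 h2.symm⟩
    · rw [Ideal.mem_comap, RingHom.mem_ker]
      exact (hφ y).trans (Ideal.Quotient.eq_zero_iff_mem.2 hy)
  exact ⟨(Ideal.quotientEquivAlgOfEq R hker.symm).trans (Ideal.quotientKerAlgEquivOfSurjective hsurj)⟩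

theorem nonempty_relGCIRing_quotient {n c : ℕ} (I : Ideal R) (F : Fin c → MvPolynomial (Fin n) R) :
    Nonempty ((Synt.RelGCIRing R n c F ⧸ I.map (algebraMap R (Synt.RelGCIRing R n c F))) ≃ₐ[R]
      Synt.RelGCIRing (R ⧸ I) n c (fun i => MvPolynomial.map (Ideal.Quotient.mk I) (F i))) := by
  let Fb : Fin c → MvPolynomial (Fin n) (R ⧸ I) := fun i => MvPolynomial.map (Ideal.Quotient.mk I) (F i)
  let J := Ideal.span (Set.range F)
  let π : MvPolynomial (Fin n) R →ₐ[R] Synt.RelGCIRing (R ⧸ I) n c Fb :=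
    ((Ideal.Quotient.mkₐ (R ⧸ I) (Ideal.span (Set.range Fb))).restrictScalars R).comp
      (MvPolynomial.mapAlgHom (Ideal.Quotient.mkₐ R I))
  have hπe : π.toRingHom = (Ideal.Quotient.mk (Ideal.span (Set.range Fb))).comp (MvPolynomial.map (Ideal.Quotient.mk I)) :=
    rfl
  have hπ : Function.Surjective π :=
    Ideal.Quotient.mk_surjective.comp (MvPolynomial.map_surjective _ Ideal.Quotient.mk_surjective)
  let ρ : MvPolynomial (Fin n) R →ₐ[R] Synt.RelGCIRing R n c F ⧸ I.map (algebraMap R (Synt.RelGCIRing R n c F)) :=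
    (Ideal.Quotient.mkₐ R _).comp (Ideal.Quotient.mkₐ R J)
  have hρ : Function.Surjective ρ := Ideal.Quotient.mk_surjective.comp Ideal.Quotient.mk_surjective
  have hk : RingHom.ker ρ.toRingHom = RingHom.ker π.toRingHom := by
    rw [hπe, ← RingHom.comap_ker, Ideal.mk_ker, show Ideal.span (Set.range Fb) = J.map (MvPolynomial.map (Ideal.Quotient.mk I)) by
      rw [Ideal.map_span, ← Set.range_comp]; rfl,
      Ideal.comap_map_of_surjective' (MvPolynomial.map (Ideal.Quotient.mk I)) (MvPolynomial.map_surjective _ Ideal.Quotient.mk_surjective),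
      MvPolynomial.ker_map, Ideal.mk_ker]
    change RingHom.ker ((Ideal.Quotient.mk _).comp (Ideal.Quotient.mk J)) = _
    rw [← RingHom.comap_ker, Ideal.mk_ker, show I.map (algebraMap R (Synt.RelGCIRing R n c F)) =
        (I.map (C : R →+* MvPolynomial (Fin n) R)).map (Ideal.Quotient.mk J) by rw [Ideal.map_map]; rfl,
      Ideal.comap_map_of_surjective' (Ideal.Quotient.mk J) Ideal.Quotient.mk_surjective, Ideal.mk_ker, sup_comm]
  exact ⟨((Ideal.quotientKerAlgEquivOfSurjective hρ).symm.trans (Ideal.quotientEquivAlgOfEq R hk)).trans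
    (Ideal.quotientKerAlgEquivOfSurjective hπ)⟩

theorem exists_lift_syntomic (I : Ideal R) (Sb : Type u) [CommRing Sb] [Algebra R Sb] [Algebra (R ⧸ I) Sb]
    [IsScalarTower R (R ⧸ I) Sb] (h : Synt.IsSyntomic (R ⧸ I) Sb) (q : Ideal Sb) [q.IsPrime] :
    ∃ g ∉ q, ∃ (n c : ℕ) (F : Fin c → MvPolynomial (Fin n) R), Synt.IsRelGCI R n c F ∧
      Nonempty (Localization.Away g ≃ₐ[R]
        (Synt.RelGCIRing R n c F ⧸ I.map (algebraMap R (Synt.RelGCIRing R n c F)))) := by
  obtain ⟨g, hg, n, c, Fb, hFb, ⟨e⟩⟩ := exists_relGCI h q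
  choose F hF using fun i => MvPolynomial.map_surjective _ (Ideal.Quotient.mk_surjective (I := I)) (Fb i)
  obtain rfl : (fun i => MvPolynomial.map (Ideal.Quotient.mk I) (F i)) = Fb := funext hF
  obtain ⟨a, ha, hrel, ⟨e₂⟩⟩ := exists_relGCI_of_quotient F I hFb
  refine ⟨g, hg, _, _, _, hrel, ?_⟩
  let F' : Fin (c + 1) → MvPolynomial (Fin (n + 1)) R :=
    Fin.snoc (fun i => rename Fin.castSucc (F i)) (rename Fin.castSucc a * X (Fin.last n) - 1)
  let S := Synt.RelGCIRing R n c F
  obtain ⟨e₃⟩ := nonempty_quotientAwayEquiv (R := R) (I.map (algebraMap R S))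
    (Ideal.Quotient.mk (Ideal.span (Set.range F)) a) (Ideal.Quotient.eq.1 (ha.trans (map_one _).symm))
  obtain ⟨e₄⟩ := nonempty_relGCIRing_quotient I F
  refine ⟨((e.symm.restrictScalars R).trans e₄.symm).trans (e₃.symm.trans (Ideal.quotientEquivAlg _ _ e₂ ?_))⟩
  simp only [Ideal.map_map]
  congr 1
  ext r
  exact (e₂.commutes r).symm

end Groth.Agent.Synt44
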