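import Groth.Agent.Synt44.DiagTor
import Groth.Agent.GeomLoc.Smooth
import Groth.Agent.FlatOpen.SmoothAt
import Mathlib.RingTheory.EssentialFiniteness
import Mathlib.RingTheory.Smooth.Fiber

/-!
# Flat with perfect diagonal implies smooth
-/

set_option autoImplicit false

universe u

open TensorProduct CategoryTheory IsLocalRing

attribute [local instance] HasDerivedCategory.standard

namespace Groth.Agent.Synt44.DiagTor

open Groth.Agent.FlatMor.PC

/-- A rational point with finite tor dimension is regular. -/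
theorem isRegularLocalRing_of_finTorDim {R : Type u} [CommRing R] [IsNoetherianRing R] (Q : Ideal R)
    [Q.IsMaximal] (h : DRing.HasFiniteTorDim R (R ⧸ Q)) :
    IsRegularLocalRing (Localization.AtPrime Q) := by
  obtain ⟨d, hd⟩ := h
  let L := Localization.AtPrime Q
  haveI : IsNoetherianRing L := IsLocalization.isNoetherianRing Q.primeCompl L inferInstance
  haveI : Module.Flat R L := IsLocalization.flat L Q.primeCompl
  let e := (Algebra.TensorProduct.quotIdealMapEquivTensorQuot L Q).symm.toLinearEquiv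
  have h1 : DRing.HasTorDimLE L d (L ⧸ Q.map (algebraMap R L)) :=
    hasTorDimLE_congr e (hasTorDimLE_tensor (A := R) (A' := L) hd)
  have hmap : Q.map (algebraMap R L) = maximalIdeal L := Localization.AtPrime.map_eq_maximalIdeal
  have h2 := NLAmp.pd_le_of_torDim d (L ⧸ Q.map (algebraMap R L)) h1
  exact RegLoc.Homological.isRegularLocalRing_of_pd_residueField d
    (RegLoc.PD.pd_congr (Submodule.quotEquivOfEq _ _ hmap) d h2)

/-- A geometric point of finite tor dimension is smooth in its fibre. -/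
theorem isSmoothAt_fibre_of_finTorDim {A C : Type u} [CommRing A] [CommRing C] [Algebra A C]
    [Algebra.FiniteType A C] (κ : Type u) [Field κ] [Algebra A κ] (K : Type u) [Field K]
    [IsAlgClosed K] [Algebra A K] [Algebra κ K] [IsScalarTower A κ K]
    (ψ : κ ⊗[A] C →ₐ[κ] K) (P : Ideal (κ ⊗[A] C)) [P.IsPrime] (hP : P = RingHom.ker ψ.toRingHom)
    [Algebra (K ⊗[A] C) K] (hπ : ∀ k c, algebraMap (K ⊗[A] C) K (k ⊗ₜ[A] c) = k * ψ (1 ⊗ₜ[A] c))
    (h : DRing.HasFiniteTorDim (K ⊗[A] C) K) : Algebra.IsSmoothAt κ P := by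
  let G := K ⊗[A] C
  haveI : Algebra.FiniteType κ (κ ⊗[A] C) := inferInstance
  haveI : Algebra.FinitePresentation κ (κ ⊗[A] C) := Algebra.FinitePresentation.of_finiteType.mp inferInstance
  haveI : IsNoetherianRing G := Algebra.FiniteType.isNoetherianRing K G
  let π : G →+* K := algebraMap G K
  have hsurj : Function.Surjective π := fun k => ⟨k ⊗ₜ[A] 1, by
    rw [hπ, ← Algebra.TensorProduct.one_def, map_one, mul_one]⟩
  let Q : Ideal G := RingHom.ker π
  haveI : Q.IsMaximal := RingHom.ker_isMaximal_of_surjective π hsurj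
  have hQ : DRing.HasFiniteTorDim G (G ⧸ Q) := by
    obtain ⟨d, hd⟩ := h
    exact ⟨d, hasTorDimLE_congr
      ((LinearMap.quotKerEquivOfSurjective (Algebra.linearMap G K) hsurj).symm.trans
        (Submodule.quotEquivOfEq _ _ (by ext x; simp [Q, π, RingHom.mem_ker]))) hd⟩
  have hreg := isRegularLocalRing_of_finTorDim Q hQ
  let e : (κ ⊗[A] C) ⊗[κ] K ≃+* G :=
    ((Algebra.TensorProduct.comm κ (κ ⊗[A] C) K).toRingEquiv).trans
      (Algebra.TensorProduct.cancelBaseChange A κ K K C).toRingEquiv
  let P' : Ideal ((κ ⊗[A] C) ⊗[κ] K) := Q.comap e.toRingHom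
  haveI : P'.IsPrime := Ideal.IsPrime.comap _
  refine GeomLoc.isSmoothAt_of_regular_over P K P' ?_ ?_
  · subst hP
    ext x
    rw [Ideal.mem_comap, Ideal.mem_comap, RingHom.mem_ker, RingHom.mem_ker]
    suffices π (e.toRingHom (algebraMap (κ ⊗[A] C) ((κ ⊗[A] C) ⊗[κ] K) x)) = ψ x by
      rw [this]; rfl
    induction x using TensorProduct.induction_on with
    | zero => simp
    | tmul r c =>
      have he : e.toRingHom (algebraMap (κ ⊗[A] C) ((κ ⊗[A] C) ⊗[κ] K) (r ⊗ₜ[A] c)) = (r • (1 : K)) ⊗ₜ[A] c := by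
        simp [e]
        exact (Algebra.TensorProduct.cancelBaseChange_tmul (R := A) (S := κ) (T := K) (A := K) (B := C) 1 r c)
      rw [he]
      change algebraMap (K ⊗[A] C) K ((r • (1 : K)) ⊗ₜ[A] c) = ψ (r ⊗ₜ[A] c)
      rw [hπ, smul_one_mul, ← map_smul]
      rw [TensorProduct.smul_tmul', smul_eq_mul, mul_one]
    | add x y hx hy => simp only [map_add, hx, hy]
  · refine GeomLoc.isRegularLocalRing_congr _ _ (IsLocalization.ringEquivOfRingEquiv (M := P'.primeCompl)
      (T := Q.primeCompl) (Localization.AtPrime P') (Localization.AtPrime Q) e ?_).symm hreg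
    ext x
    simp only [Submonoid.mem_map]
    refine ⟨?_, fun hx => ⟨e.symm x, ?_, e.apply_symm_apply x⟩⟩
    · rintro ⟨y, hy, rfl⟩
      exact hy
    · show ¬ e (e.symm x) ∈ Q
      rw [e.apply_symm_apply]
      exact hx

theorem finTorDim_comp_flat {R R' K : Type u} [CommRing R] [CommRing R'] [CommRing K] [Algebra R' K]
    (m : R →+* R') (hflat : m.Flat) (h : DRing.HasFiniteTorDim R' K) :
    letI := ((algebraMap R' K).comp m).toAlgebra
    DRing.HasFiniteTorDim R K := by
  letI := m.toAlgebra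
  letI := ((algebraMap R' K).comp m).toAlgebra
  haveI : IsScalarTower R R' K := IsScalarTower.of_algebraMap_eq fun _ => rfl
  haveI : Module.Flat R R' := hflat
  exact finTorDim_trans finTorDim_of_flat h

theorem flat_map {A C B : Type u} [CommRing A] [CommRing C] [CommRing B] [Algebra A C] [Algebra A B]
    [Algebra C B] [IsScalarTower A C B] [Module.Flat C B] (K : Type u) [CommRing K] [Algebra A K] :
    letI := (Algebra.TensorProduct.map (AlgHom.id A K) (IsScalarTower.toAlgHom A C B)).toRingHom.toAlgebra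
    Module.Flat (K ⊗[A] C) (K ⊗[A] B) := by
  letI := (Algebra.TensorProduct.map (AlgHom.id A K) (IsScalarTower.toAlgHom A C B)).toRingHom.toAlgebra
  letI : Algebra C (K ⊗[A] C) := Algebra.TensorProduct.rightAlgebra
  letI : Algebra C (K ⊗[A] B) := ((algebraMap (K ⊗[A] C) (K ⊗[A] B)).comp (algebraMap C (K ⊗[A] C))).toAlgebra
  haveI : IsScalarTower C (K ⊗[A] C) (K ⊗[A] B) := IsScalarTower.of_algebraMap_eq fun _ => rfl
  letI : Algebra B (K ⊗[A] B) := Algebra.TensorProduct.rightAlgebra
  haveI : IsScalarTower C B (K ⊗[A] B) := IsScalarTower.of_algebraMap_eq fun c => by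
    change Algebra.TensorProduct.map (AlgHom.id A K) (IsScalarTower.toAlgHom A C B) (1 ⊗ₜ[A] c) = 1 ⊗ₜ[A] algebraMap C B c
    simp
  haveI : IsScalarTower K (K ⊗[A] C) (K ⊗[A] B) := IsScalarTower.of_algebraMap_eq fun k => by
    change k ⊗ₜ[A] (1 : B) = Algebra.TensorProduct.map (AlgHom.id A K) (IsScalarTower.toAlgHom A C B) (k ⊗ₜ[A] 1)
    simp
  haveI : Algebra.IsPushout A C K (K ⊗[A] C) := Algebra.IsPushout.symm inferInstance
  haveI : Algebra.IsPushout A B K (K ⊗[A] B) := Algebra.IsPushout.symm inferInstance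
  haveI : Algebra.IsPushout C B (K ⊗[A] C) (K ⊗[A] B) :=
    (Algebra.IsPushout.comp_iff A C K (K ⊗[A] C)).1 inferInstance
  haveI : Algebra.IsPushout C (K ⊗[A] C) B (K ⊗[A] B) := Algebra.IsPushout.symm inferInstance
  exact Module.Flat.of_linearEquiv (Algebra.IsPushout.out (R := C) (S := K ⊗[A] C) (R' := B) (S' := K ⊗[A] B)).equiv.symm

/-- The localised fibre is formally smooth when the point is. -/
theorem formallySmooth_localFibre {A C B : Type u} [CommRing A] [CommRing C] [CommRing B] [Algebra A C] [Algebra A B]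
    [Algebra C B] [IsScalarTower A C B] [IsLocalRing B] (κ : Type u) [Field κ] [Algebra A κ]
    [IsLocalRing (κ ⊗[A] B)] (q : Ideal C) [q.IsPrime] [IsLocalization.AtPrime B q]
    {K : Type u} [Field K] [Algebra κ K] (P : Ideal (κ ⊗[A] C)) [P.IsPrime] [Algebra.IsSmoothAt κ P]
    (ψ : κ ⊗[A] B →ₐ[κ] K) (χ : κ ⊗[A] C →ₐ[κ] κ ⊗[A] B)
    (hχ : χ = Algebra.TensorProduct.map (AlgHom.id κ κ) (IsScalarTower.toAlgHom A C B))
    (hP : P = RingHom.ker (ψ.comp χ).toRingHom) (hmax : ∀ y, ¬ IsUnit y → ψ y = 0) :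
    Algebra.FormallySmooth κ (κ ⊗[A] B) := by
  let F := κ ⊗[A] C
  let D := κ ⊗[A] B
  letI : Algebra F D := χ.toRingHom.toAlgebra
  haveI : IsScalarTower κ F D := IsScalarTower.of_algebraMap_eq fun r => (χ.commutes r).symm
  haveI hD := IsLocalization.tensorProduct_tensorProduct_right A κ q.primeCompl B (A := C) (by
    subst hχ
    ext c
    change Algebra.TensorProduct.map (AlgHom.id κ κ) (IsScalarTower.toAlgHom A C B) (1 ⊗ₜ[A] c) = 1 ⊗ₜ[A] algebraMap C B c
    simp)
  haveI : IsLocalization.AtPrime D P := by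
    refine IsLocalization.of_le (q.primeCompl.map (Algebra.TensorProduct.includeRight (R := A) (A := κ))) _ ?_ ?_
    · intro x hx hxP
      have hu : IsUnit (χ x) := IsLocalization.map_units D (⟨x, hx⟩ : q.primeCompl.map _)
      rw [hP] at hxP
      exact (hu.map ψ).ne_zero hxP
    · intro x hx
      by_contra hu
      apply hx
      simp only [hP, SetLike.mem_coe, RingHom.mem_ker]
      change ψ (χ x) = 0
      exact hmax _ hu
  exact Algebra.FormallySmooth.of_equiv
    ((IsLocalization.algEquiv P.primeCompl (Localization.AtPrime P) D).restrictScalars κ)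

variable {A B : Type u} [CommRing A] [CommRing B] [Algebra A B]

theorem smooth_of_flat_of_diagonal [IsNoetherianRing A] [Algebra.FiniteType A B] [Module.Flat A B]
    [Algebra (B ⊗[A] B) B] (hmul : ∀ x y : B, algebraMap (B ⊗[A] B) B (x ⊗ₜ[A] y) = x * y)
    (h : DRing.HasFiniteTorDim (B ⊗[A] B) B) : Algebra.Smooth A B := by
  haveI : Algebra.FinitePresentation A B := Algebra.FinitePresentation.of_finiteType.mp inferInstance
  refine Algebra.Smooth.of_formallySmooth_fiber fun I _ => ?_
  let κ := I.ResidueField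
  haveI : Algebra.FinitePresentation κ (κ ⊗[A] B) := inferInstance
  refine (Algebra.smoothLocus_eq_univ_iff (R := κ) (A := κ ⊗[A] B)).1 (Set.eq_univ_iff_forall.2 fun P => ?_)
  obtain ⟨K, _, iK, _⟩ : ∃ (K : Type u) (_ : Field K) (_ : Algebra P.asIdeal.ResidueField K), IsAlgClosed K :=
    ⟨AlgebraicClosure P.asIdeal.ResidueField, inferInstance, inferInstance, inferInstance⟩
  let ρ : κ ⊗[A] B →+* K :=
    (algebraMap P.asIdeal.ResidueField K).comp (algebraMap (κ ⊗[A] B) P.asIdeal.ResidueField)
  letI : Algebra κ K := (ρ.comp (algebraMap κ (κ ⊗[A] B))).toAlgebra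
  letI : Algebra A K := ((algebraMap κ K).comp (algebraMap A κ)).toAlgebra
  haveI : IsScalarTower A κ K := IsScalarTower.of_algebraMap_eq fun _ => rfl
  let ψ : κ ⊗[A] B →ₐ[κ] K := { ρ with commutes' := fun _ => rfl }
  let φ : B →ₐ[A] K := (ψ.restrictScalars A).comp Algebra.TensorProduct.includeRight
  let π : K ⊗[A] B →ₐ[A] K := Algebra.TensorProduct.lift (AlgHom.id A K) φ fun _ _ => Commute.all _ _
  letI : Algebra (K ⊗[A] B) K := π.toRingHom.toAlgebra
  have hπ : ∀ k b, algebraMap (K ⊗[A] B) K (k ⊗ₜ[A] b) = k * φ b := fun k b =>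
    Algebra.TensorProduct.lift_tmul _ _ _ _ _
  exact isSmoothAt_fibre_of_finTorDim κ K ψ P.asIdeal
    (by
      change _ = RingHom.ker ((algebraMap P.asIdeal.ResidueField K).comp (algebraMap (κ ⊗[A] B) P.asIdeal.ResidueField))
      rw [RingHom.ker_comp_of_injective _ (algebraMap P.asIdeal.ResidueField K).injective,
        Ideal.ker_algebraMap_residueField])
    hπ (finTorDim_point hmul h K φ hπ)

theorem exists_smooth_isLocalization [IsNoetherianRing A] [IsLocalRing A] [IsLocalRing B]
    [IsLocalHom (algebraMap A B)] [Module.Flat A B] [Algebra.EssFiniteType A B]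
    [Algebra (B ⊗[A] B) B] (hmul : ∀ x y : B, algebraMap (B ⊗[A] B) B (x ⊗ₜ[A] y) = x * y)
    (h : DRing.HasFiniteTorDim (B ⊗[A] B) B) :
    ∃ (C : Type u) (_ : CommRing C) (_ : Algebra A C) (_ : Algebra C B) (_ : IsScalarTower A C B)
      (q : Ideal C) (_ : q.IsPrime), Algebra.Smooth A C ∧ IsLocalization.AtPrime B q := by
  let C := Algebra.EssFiniteType.subalgebra A B
  haveI : Algebra.FinitePresentation A C := Algebra.FinitePresentation.of_finiteType.mp inferInstance
  let q : Ideal C := (maximalIdeal B).comap (algebraMap C B)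
  haveI hq : q.IsPrime := Ideal.IsPrime.comap _
  haveI hBq : IsLocalization.AtPrime B q :=
    IsLocalization.of_le (Algebra.EssFiniteType.submonoid A B) q.primeCompl
      (fun x hx hxq => (IsLocalRing.mem_maximalIdeal _).1 hxq hx)
      (fun x hx => IsLocalRing.notMem_maximalIdeal.1 hx)
  -- the fibre
  let κ := ResidueField A
  obtain ⟨K, _, iK, _⟩ : ∃ (K : Type u) (_ : Field K) (_ : Algebra (ResidueField B) K), IsAlgClosed K :=
    ⟨AlgebraicClosure (ResidueField B), inferInstance, inferInstance, inferInstance⟩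
  letI : Algebra κ K := ((algebraMap (ResidueField B) K).comp (algebraMap κ (ResidueField B))).toAlgebra
  letI : Algebra A K := ((algebraMap κ K).comp (algebraMap A κ)).toAlgebra
  haveI : IsScalarTower A κ K := IsScalarTower.of_algebraMap_eq fun _ => rfl
  haveI : Module.Flat C B := IsLocalization.flat B q.primeCompl
  let φ : B →ₐ[A] K :=
    { (algebraMap (ResidueField B) K).comp (residue B) with commutes' := fun _ => rfl }
  let πB : K ⊗[A] B →ₐ[A] K := Algebra.TensorProduct.lift (AlgHom.id A K) φ fun _ _ => Commute.all _ _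
  letI : Algebra (K ⊗[A] B) K := πB.toRingHom.toAlgebra
  have hπB : ∀ k b, algebraMap (K ⊗[A] B) K (k ⊗ₜ[A] b) = k * φ b := fun k b =>
    Algebra.TensorProduct.lift_tmul _ _ _ _ _
  have hB := finTorDim_point hmul h K φ hπB
  let m : K ⊗[A] C →ₐ[A] K ⊗[A] B :=
    Algebra.TensorProduct.map (AlgHom.id A K) (IsScalarTower.toAlgHom A C B)
  have hflat : m.toRingHom.Flat := flat_map (A := A) (C := C) (B := B) K
  have hC' := finTorDim_comp_flat m.toRingHom hflat hB
  letI : Algebra (K ⊗[A] C) K := (πB.comp m).toRingHom.toAlgebra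
  have hC : DRing.HasFiniteTorDim (K ⊗[A] C) K := hC'
  let χ : κ ⊗[A] C →ₐ[κ] κ ⊗[A] B := Algebra.TensorProduct.map (AlgHom.id κ κ) (IsScalarTower.toAlgHom A C B)
  let ψB : κ ⊗[A] B →ₐ[κ] K :=
    Algebra.TensorProduct.lift (Algebra.ofId κ K) φ fun _ _ => Commute.all _ _
  let P : Ideal (κ ⊗[A] C) := RingHom.ker (ψB.comp χ).toRingHom
  haveI : P.IsPrime := RingHom.ker_isPrime _
  haveI : Algebra.IsSmoothAt κ P := isSmoothAt_fibre_of_finTorDim κ K (ψB.comp χ) P rfl
    (fun k c => by
      change πB (m (k ⊗ₜ[A] c)) = k * ψB (χ (1 ⊗ₜ[A] c))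
      simp [m, χ, ψB, πB]) hC
  haveI hloc : IsLocalRing (κ ⊗[A] B) := by
    haveI : Nontrivial (κ ⊗[A] B) := ψB.toRingHom.domain_nontrivial
    exact IsLocalRing.of_surjective' (Algebra.TensorProduct.includeRight (R := A) (A := κ) (B := B)).toRingHom
      (Algebra.TensorProduct.includeRight_surjective B (R := A) (S := κ) Ideal.Quotient.mk_surjective)
  haveI : Algebra.FormallySmooth κ (κ ⊗[A] B) := formallySmooth_localFibre κ q P ψB χ rfl rfl fun y hy => by
    obtain ⟨b, rfl⟩ := Algebra.TensorProduct.includeRight_surjective B (R := A) (S := κ)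
      Ideal.Quotient.mk_surjective y
    have hb : ¬ IsUnit b := fun hu => hy (hu.map _)
    change ψB (1 ⊗ₜ[A] b) = 0
    simp only [ψB, Algebra.TensorProduct.lift_tmul, map_one, one_mul]
    change algebraMap (ResidueField B) K (residue B b) = 0
    rw [residue_eq_zero_iff _ |>.2 ((IsLocalRing.mem_maximalIdeal _).2 hb), map_zero]
  haveI : IsLocalization.AtPrime A (maximalIdeal A) :=
    haveI : IsLocalization (⊥ : Submonoid A) A :=
      IsLocalization.self (by rintro x (rfl : x = 1); exact isUnit_one)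
    IsLocalization.of_le (⊥ : Submonoid A) _ bot_le fun x hx => IsLocalRing.notMem_maximalIdeal.1 hx
  have hfs : Algebra.FormallySmooth A B :=
    FlatOpen.SmoothAt.formallySmooth_of_closedFibre (R := A) (C := C) (maximalIdeal A) q
      (FlatOpen.SmoothAt.closedMap_formallySmooth_iff.2 ‹_›)
  haveI : Algebra.IsSmoothAt A q :=
    Algebra.FormallySmooth.of_equiv ((IsLocalization.algEquiv q.primeCompl B (Localization.AtPrime q)).restrictScalars A)
  obtain ⟨g, hg, hgs⟩ := Algebra.IsSmoothAt.exists_notMem_smooth A q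
  let ι : Localization.Away g →+* B := IsLocalization.Away.lift g
    (g := algebraMap C B) (IsLocalization.map_units B (⟨g, hg⟩ : q.primeCompl))
  letI : Algebra (Localization.Away g) B := ι.toAlgebra
  haveI : IsScalarTower C (Localization.Away g) B :=
    IsScalarTower.of_algebraMap_eq fun c => (IsLocalization.Away.lift_eq g _ c).symm
  haveI : IsScalarTower A (Localization.Away g) B := IsScalarTower.to₁₃₄ A C _ _
  let q' : Ideal (Localization.Away g) := (maximalIdeal B).comap (algebraMap (Localization.Away g) B)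
  haveI : q'.IsPrime := Ideal.IsPrime.comap _
  refine ⟨Localization.Away g, inferInstance, inferInstance, inferInstance, inferInstance, q', inferInstance, hgs, ?_⟩
  haveI : IsLocalization (Algebra.algebraMapSubmonoid (Localization.Away g) q.primeCompl) B :=
    .isLocalization_of_submonoid_le _ _ (Submonoid.powers g) _ (Submonoid.powers_le.2 hg)
  refine IsLocalization.of_le (Algebra.algebraMapSubmonoid (Localization.Away g) q.primeCompl) _ ?_
    fun x hx => IsLocalRing.notMem_maximalIdeal.1 hx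
  rintro _ ⟨c, hc, rfl⟩ hmem
  apply hc
  change algebraMap (Localization.Away g) B (algebraMap C (Localization.Away g) c) ∈ maximalIdeal B at hmem
  rwa [← IsScalarTower.algebraMap_apply] at hmem

end Groth.Agent.Synt44.DiagTor
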