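import Groth.Agent.KReg44.Smooth
import Groth.Agent.Synt44.FlatLCI
import Groth.Agent.QReg.Local
import Mathlib.RingTheory.Extension.Cotangent.LocalizationAway
import Mathlib.RingTheory.Localization.BaseChange

/-!
# Conormal modules of presentations of syntomic basic opens
-/

set_option autoImplicit false

universe u

open MvPolynomial TensorProduct

namespace Groth.Agent.Synt44

theorem projective_extension_cotangent {R T : Type u} [CommRing R] [CommRing T] [Algebra R T]
    (E : Algebra.Extension.{u} R T) (h : LCI.IsKoszulRegularIdeal E.ker) : Module.Projective T E.Cotangent := by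
  haveI := QReg.projective_of_isLocallyQuasiRegular (KReg44.isLocallyQuasiRegular_of_isKoszulRegularIdeal h)
  let e : (E.Ring ⧸ E.ker) ≃+* T := RingHom.quotientKerEquivOfSurjective E.algebraMap_surjective
  letI := RingHomInvPair.of_ringEquiv e
  letI := RingHomInvPair.of_ringEquiv e.symm
  let f : E.ker.Cotangent ≃ₛₗ[(e : (E.Ring ⧸ E.ker) →+* T)] E.Cotangent :=
    { toFun := Algebra.Extension.Cotangent.of
      invFun := Algebra.Extension.Cotangent.val
      left_inv := fun _ => rfl
      right_inv := fun _ => rfl
      map_add' := fun _ _ => rfl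
      map_smul' := fun r x => by
        obtain ⟨r, rfl⟩ := Ideal.Quotient.mk_surjective r
        change _ = (algebraMap E.Ring T r) • Algebra.Extension.Cotangent.of x
        rw [algebraMap_smul]
        ext1
        rw [Algebra.Extension.Cotangent.val_smul']
        rfl }
  exact Module.Projective.of_equiv f

theorem nonempty_cotangentEquiv {R S : Type u} [CommRing R] [CommRing S] [Algebra R S]
    (E : Algebra.Extension.{u} R S) (J : Ideal E.Ring) (h : E.ker = J) :
    Nonempty (J.Cotangent ≃ₗ[E.Ring] E.Cotangent) := by
  subst h
  exact ⟨(E.cotangentEquivCotangentKer).symm⟩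

/-- A presentation with finitely many variables of a syntomic algebra has Koszul regular kernel. -/
theorem isKoszulRegularIdeal_ker_of_isSyntomic {R T : Type u} [CommRing R] [CommRing T] [Algebra R T]
    (h : Synt.IsSyntomic R T) {ι : Type} [Finite ι] (β : MvPolynomial ι R →ₐ[R] T)
    (hβ : Function.Surjective β) : LCI.IsKoszulRegularIdeal (RingHom.ker β.toRingHom) := by
  obtain ⟨-, m, α, hα, hker⟩ := isLCI_of_isSyntomic h
  obtain ⟨k, ⟨e⟩⟩ := Finite.exists_equiv_fin ι
  let E := renameEquiv R e
  have h1 := KReg44.isKoszulRegularIdeal_ker_of_presentation α hα (β.comp E.symm.toAlgHom)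
    (hβ.comp E.symm.surjective) hker
  refine KReg44.isKoszulRegularIdeal_of_equiv E.toRingEquiv ?_
  convert h1 using 1
  ext x
  rw [Ideal.mem_map_iff_of_surjective E.toRingEquiv.toRingHom E.toRingEquiv.surjective]
  constructor
  · rintro ⟨y, hy, rfl⟩
    change β (E.symm (E y)) = 0
    rw [AlgEquiv.symm_apply_apply]
    exact hy
  · intro hx
    exact ⟨E.symm x, hx, E.apply_symm_apply x⟩

theorem projective_localizedModule_cotangent {R : Type u} [CommRing R] {n : ℕ}
    (I : Ideal (MvPolynomial (Fin n) R)) (g : MvPolynomial (Fin n) R ⧸ I)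
    (hg : Synt.IsSyntomic R (Localization.Away g)) :
    Module.Projective (Localization.Away g) (LocalizedModule (Submonoid.powers g) I.Cotangent) := by
  let S := MvPolynomial (Fin n) R ⧸ I
  let T := Localization.Away g
  let val : Fin n → S := fun i => Ideal.Quotient.mk I (X i)
  have hval : (aeval val : MvPolynomial (Fin n) R →ₐ[R] S) = Ideal.Quotient.mkₐ R I :=
    MvPolynomial.algHom_ext fun i => by simp [val]; rfl
  let P : Algebra.Generators R S (Fin n) :=
    Algebra.Generators.ofSurjective val (hval ▸ Ideal.Quotient.mk_surjective)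
  have hPker : P.ker = I := by
    change RingHom.ker (algebraMap P.Ring S) = I
    rw [P.algebraMap_eq]
    change RingHom.ker (aeval val : MvPolynomial (Fin n) R →ₐ[R] S) = I
    rw [hval]
    exact Ideal.mk_ker
  let Q := (Algebra.Generators.localizationAway T g).comp P
  haveI : Module.Projective T Q.toExtension.Cotangent := by
    refine projective_extension_cotangent Q.toExtension ?_
    change LCI.IsKoszulRegularIdeal (RingHom.ker (algebraMap Q.Ring T))
    rw [Q.algebraMap_eq]
    refine isKoszulRegularIdeal_ker_of_isSyntomic hg (aeval Q.val) fun x => ⟨Q.σ x, ?_⟩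
    exact Q.aeval_val_σ x
  obtain ⟨x, hx⟩ := Algebra.Generators.Cotangent.surjective_map_ofComp (Algebra.Generators.localizationAway T g) P
    (Algebra.Generators.cMulXSubOneCotangent T g)
  let e := Algebra.Generators.cotangentCompLocalizationAwayEquiv g P hx
  haveI : Module.Projective T (T ⊗[S] P.toExtension.Cotangent) :=
    Module.Projective.of_split (e.symm.toLinearMap ∘ₗ LinearMap.inl T _ _) (LinearMap.fst T _ _ ∘ₗ e.toLinearMap)
      (LinearMap.ext fun y => by simp)
  obtain ⟨l₀⟩ := nonempty_cotangentEquiv P.toExtension I hPker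
  let l : I.Cotangent ≃ₗ[S] P.toExtension.Cotangent :=
    { l₀.toAddEquiv with
      map_smul' := fun s y => by
        obtain ⟨r, rfl⟩ := Ideal.Quotient.mk_surjective s
        have h1 : (Ideal.Quotient.mk I r : S) = algebraMap P.toExtension.Ring S r := (AlgHom.congr_fun hval r).symm
        change l₀ (r • y) = Ideal.Quotient.mk I r • l₀ y
        rw [h1, algebraMap_smul]
        exact l₀.map_smul r y }
  exact Module.Projective.of_equiv
    ((LinearEquiv.baseChange S T I.Cotangent P.toExtension.Cotangent l).symm ≪≫ₗ (LocalizedModule.equivTensorProduct (Submonoid.powers g) I.Cotangent).symm)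

end Groth.Agent.Synt44
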