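import Groth.Prelude.Def_LCI2
import Groth.Agent.Synt44.LocCotangent
import Groth.Agent.FlatMor.NLComplex
import Groth.Agent.DRing.PerfectAmp
import Mathlib.Algebra.Homology.DerivedCategory.ShortExact
import Mathlib.RingTheory.Flat.EquationalCriterion

/-!
# Amplitude of the naive cotangent complex
-/

set_option autoImplicit false

universe u

open CategoryTheory CategoryTheory.Limits CategoryTheory.Pretriangulated DerivedCategory

attribute [local instance] HasDerivedCategory.standard

namespace Groth.Agent.Synt44.NLAmp

open Groth.Agent.DRing.PC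

variable {A B : Type u} [CommRing A] [CommRing B] [Algebra A B]

/-- The naive cotangent complex can be computed with any presentation. -/
noncomputable def nlIso {P : Algebra.Extension.{u} A B}
    (f : (Algebra.Generators.self A B).toExtension.Hom P)
    (g : P.Hom (Algebra.Generators.self A B).toExtension) :
    DRing.toD (NLCx.cx P) ≅ LCI.NL A B :=
  let E := NLBC.mapHomotopyEquiv g f
  have : IsIso (Q.map E.hom) :=
    (isIso_Q_map_iff_quasiIso (C := ModuleCat.{u} B) E.hom).2 inferInstance
  @asIso _ _ _ _ (Q.map E.hom) this

noncomputable def nlIsoGen {ι : Type} (G : Algebra.Generators A B ι) :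
    DRing.toD (NLCx.cx G.toExtension) ≅ LCI.NL A B :=
  nlIso ((Algebra.Generators.self A B).defaultHom G).toExtensionHom
    (G.defaultHom (Algebra.Generators.self A B)).toExtensionHom

theorem termwise_double {M N : ModuleCat.{u} B} (φ : M ⟶ N) (h : (ComplexShape.up ℤ).Rel (-1) 0)
    (Q : ModuleCat.{u} B → Prop) (hQ : ∀ {X Y : ModuleCat.{u} B}, (X ≅ Y) → Q Y → Q X)
    (h₀ : Q M) (h₁ : Q N) (hz : ∀ X, IsZero X → Q X) (i : ℤ) :
    Q ((HomologicalComplex.double φ h).X i) := by
  by_cases hi : i = -1
  · subst hi; exact hQ (HomologicalComplex.doubleXIso₀ φ h) h₀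
  by_cases hi' : i = 0
  · subst hi'; exact hQ (HomologicalComplex.doubleXIso₁ φ h (by decide)) h₁
  exact hz _ (HomologicalComplex.isZero_double_X φ h i hi hi')

theorem vanishesOutside_double {M N : ModuleCat.{u} B} (φ : M ⟶ N)
    (h : (ComplexShape.up ℤ).Rel (-1) 0) :
    DRing.VanishesOutside (HomologicalComplex.double φ h) (-1) 0 :=
  fun i hi => HomologicalComplex.isZero_double_X φ h i (by omega) (by omega)

theorem hasTorAmp_double {M N : ModuleCat.{u} B} (φ : M ⟶ N) (h : (ComplexShape.up ℤ).Rel (-1) 0)
    (hM : Module.Flat B M) (hN : Module.Flat B N) :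
    DRing.HasTorAmplitudeIn B (-1) 0 (DRing.toD (HomologicalComplex.double φ h)) :=
  ⟨_, vanishesOutside_double φ h,
    termwise_double φ h (fun X => Module.Flat B X)
      (fun e hY => have := hY; Module.Flat.of_linearEquiv e.toLinearEquiv) hM hN
      (fun X hX => have := ModuleCat.subsingleton_of_isZero hX; inferInstance), ⟨Iso.refl _⟩⟩

theorem isPerfect_double {M N : ModuleCat.{u} B} (φ : M ⟶ N) (h : (ComplexShape.up ℤ).Rel (-1) 0)
    (hM : Module.Finite B M ∧ Module.Projective B M) (hN : Module.Finite B N ∧ Module.Projective B N) :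
    DRing.IsPerfect B (DRing.toD (HomologicalComplex.double φ h)) :=
  ⟨_, -1, 0, vanishesOutside_double φ h,
    termwise_double φ h (fun X => Module.Finite B X ∧ Module.Projective B X)
      (fun e hY => have := hY.1; have := hY.2
        ⟨Module.Finite.equiv e.toLinearEquiv.symm, Module.Projective.of_equiv e.toLinearEquiv.symm⟩)
      hM hN (fun X hX => have := ModuleCat.subsingleton_of_isZero hX; ⟨inferInstance, inferInstance⟩),
    ⟨Iso.refl _⟩⟩

/-- If a two term complex with flat top term has amplitude `[-1, 0]`, the bottom term is flat. -/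
theorem flat_of_hasTorAmp_double {M N : ModuleCat.{u} B} (φ : M ⟶ N)
    (h : (ComplexShape.up ℤ).Rel (-1) 0) (hN : Module.Flat B N)
    (hA : DRing.HasTorAmplitudeIn B (-1) 0 (DRing.toD (HomologicalComplex.double φ h))) :
    Module.Flat B M := by
  let D : DRing.Cx B := HomologicalComplex.double φ h
  have hne : (-1 : ℤ) ≠ 0 := by decide
  let i : sgl 0 N ⟶ D := HomologicalComplex.mkHomFromSingle
    (HomologicalComplex.doubleXIso₁ φ h hne).inv
    (fun k _ => by rw [HomologicalComplex.double_d_eq_zero₀ φ h 0 k (by decide), comp_zero])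
  let p : D ⟶ sgl (-1) M := HomologicalComplex.mkHomToSingle
    (HomologicalComplex.doubleXIso₀ φ h).hom
    (fun k _ => by rw [HomologicalComplex.double_d_eq_zero₁ φ h k (-1) (by decide), zero_comp])
  have hip : i ≫ p = 0 := by
    refine HomologicalComplex.hom_ext _ _ fun k => ?_
    rw [HomologicalComplex.comp_f, HomologicalComplex.zero_f]
    by_cases hk : k = 0
    · subst hk
      exact (HomologicalComplex.isZero_single_obj_X (ComplexShape.up ℤ) (-1) M 0 (by decide)).eq_of_tgt _ _
    · exact (HomologicalComplex.isZero_single_obj_X (ComplexShape.up ℤ) 0 N k hk).eq_of_src _ _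
  let S : ShortComplex (DRing.Cx B) := ShortComplex.mk i p hip
  have hS : S.ShortExact := by
    refine HomologicalComplex.shortExact_of_degreewise_shortExact S fun k => ?_
    by_cases hk : k = 0
    · subst hk
      exact (ShortComplex.Splitting.ofIsIsoOfIsZero _
        (by change IsIso (i.f 0); simp only [i, HomologicalComplex.mkHomFromSingle_f]; infer_instance)
        (HomologicalComplex.isZero_single_obj_X (ComplexShape.up ℤ) (-1) M 0 (by decide))).shortExact
    by_cases hk' : k = -1
    · subst hk'
      exact (ShortComplex.Splitting.ofIsZeroOfIsIso _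
        (HomologicalComplex.isZero_single_obj_X (ComplexShape.up ℤ) 0 N (-1) (by decide))
        (by change IsIso (p.f (-1)); simp only [p, HomologicalComplex.mkHomToSingle_f]; infer_instance)).shortExact
    exact (ShortComplex.Splitting.ofIsZeroOfIsIso _
      (HomologicalComplex.isZero_single_obj_X (ComplexShape.up ℤ) 0 N k hk)
      ((HomologicalComplex.isZero_double_X φ h k hk' hk).isIso
        (HomologicalComplex.isZero_single_obj_X (ComplexShape.up ℤ) (-1) M k hk') _)).shortExact
  have hN' : DRing.HasTorAmplitudeIn B (-1 + 1) (0 + 1) (DRing.toD (sgl 0 N)) :=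
    DRing.TorAmp.torAmp_mono (DRing.Perfect.torAmp_sgl (n := 0) (DRing.Perfect.torAmp_of_flat (A := B) (M := N))
      (a' := 0) (b' := 0) (by omega) (by omega)) (by omega) (by omega)
  have := (DRing.TorAmp.torAmp_of_triangle (triangleOfSES_distinguished hS) (-1) 0).1 hN' hA
  exact DRing.Perfect.flat_of_torAmp (b := 1)
    (DRing.Perfect.torAmp_of_sgl (n := -1) this (by omega) (by omega))

theorem projective_cotangent_ker {R T : Type u} [CommRing R] [CommRing T] [Algebra R T]
    (E : Algebra.Extension.{u} R T) [Module.Projective T E.Cotangent] :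
    Module.Projective (E.Ring ⧸ E.ker) E.ker.Cotangent := by
  let e : (E.Ring ⧸ E.ker) ≃+* T := RingHom.quotientKerEquivOfSurjective E.algebraMap_surjective
  letI := RingHomInvPair.of_ringEquiv e
  letI := RingHomInvPair.of_ringEquiv e.symm
  let f : E.ker.Cotangent ≃ₛₗ[(e : (E.Ring ⧸ E.ker) →+* T)] E.Cotangent :=
    { toFun := Algebra.Extension.Cotangent.of
      invFun := Algebra.Extension.Cotangent.val
      left_inv := fun _ => rfl
      right_inv := fun _ => rfl
      map_add' := fun _ _ => rfl
      map_smul' := fun r x => by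
        obtain ⟨r, rfl⟩ := Ideal.Quotient.mk_surjective r
        change _ = (algebraMap E.Ring T r) • Algebra.Extension.Cotangent.of x
        rw [algebraMap_smul]
        ext1
        rw [Algebra.Extension.Cotangent.val_smul']
        rfl }
  exact Module.Projective.of_equiv f.symm

open MvPolynomial in
/-- An algebra over a field with a projective conormal module is l.c.i. -/
theorem isLCIOver_of_generators {K S' : Type u} [Field K] [CommRing S'] [Algebra K S'] {n : ℕ}
    (G' : Algebra.Generators K S' (ULift.{u} (Fin n))) [Module.Projective S' G'.toExtension.Cotangent] :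
    Synt.IsLCIOver K S' := by
  let r : MvPolynomial (Fin n) K ≃ₐ[K] MvPolynomial (ULift.{u} (Fin n)) K :=
    renameEquiv K Equiv.ulift.symm
  let φ : MvPolynomial (Fin n) K →ₐ[K] S' := (aeval G'.val).comp r.toAlgHom
  have hφ : Function.Surjective φ := G'.aeval_val_surjective.comp r.surjective
  let H : Algebra.Extension.{u} K S' := Algebra.Extension.ofSurjective φ hφ
  have hG : (algebraMap G'.toExtension.Ring S') = (aeval G'.val).toRingHom := G'.algebraMap_eq
  let f : G'.toExtension.Hom H := .ofAlgHom r.symm.toAlgHom (AlgHom.ext fun x =>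
    (congrArg (aeval G'.val) (r.apply_symm_apply x)).trans (RingHom.congr_fun hG x).symm)
  let g : H.Hom G'.toExtension := .ofAlgHom r.toAlgHom (AlgHom.ext fun x =>
    RingHom.congr_fun hG (r x))
  have h1 : g.comp f = Algebra.Extension.Hom.id _ :=
    Algebra.Extension.Hom.ext (RingHom.ext fun x => r.apply_symm_apply x)
  have h2 : f.comp g = Algebra.Extension.Hom.id _ :=
    Algebra.Extension.Hom.ext (RingHom.ext fun x => r.symm_apply_apply x)
  let c : G'.toExtension.Cotangent ≃ₗ[S'] H.Cotangent :=
    LinearEquiv.ofLinear (Algebra.Extension.Cotangent.map f) (Algebra.Extension.Cotangent.map g)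
      (LinearMap.ext fun x =>
        (LinearMap.congr_fun (Algebra.Extension.Cotangent.map_comp (f := g) (g := f)) x).symm.trans
          (by rw [h2, Algebra.Extension.Cotangent.map_id]))
      (LinearMap.ext fun x =>
        (LinearMap.congr_fun (Algebra.Extension.Cotangent.map_comp (f := f) (g := g)) x).symm.trans
          (by rw [h1, Algebra.Extension.Cotangent.map_id]))
  haveI : Module.Projective S' H.Cotangent := Module.Projective.of_equiv c
  haveI : Module.Projective (MvPolynomial (Fin n) K ⧸ RingHom.ker φ.toRingHom)
      (RingHom.ker φ.toRingHom).Cotangent := projective_cotangent_ker H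
  exact GrpScheme.Syntomic.Algebra.isLCIOver_of_projective K n φ hφ

open TensorProduct in
/-- Flat conormal modules of flat algebras base change. -/
theorem projective_cotangent_of_pushout [Module.Flat A B] [Algebra.FinitePresentation A B]
    {K S' : Type u} [CommRing K] [CommRing S'] [IsNoetherianRing S'] [Algebra A K] [Algebra K S']
    [Algebra B S'] [Algebra A S'] [IsScalarTower A K S'] [IsScalarTower A B S']
    [Algebra.IsPushout A K B S'] {ι : Type u} [Finite ι] (G : Algebra.Generators A B ι)
    (G' : Algebra.Generators K S' ι) (h : ∀ i, G'.val i = algebraMap B S' (G.val i))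
    [Module.Flat B G.toExtension.Cotangent] : Module.Projective S' G'.toExtension.Cotangent := by
  have hb := NLBC.bijective_cotangent (R' := K) (S' := S') G G' h
    (NLBC.lTensor_ker_injective_of_flat_quotient G)
  let e := LinearEquiv.ofBijective _ hb
  haveI : Module.Finite B G.toExtension.Cotangent :=
    Algebra.Extension.Cotangent.finite (P := G.toExtension) G.fg_ker_of_finitePresentation
  haveI : Module.Finite S' G'.toExtension.Cotangent := Module.Finite.equiv e
  haveI : Module.Flat S' G'.toExtension.Cotangent := Module.Flat.of_linearEquiv e.symm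
  haveI : Module.FinitePresentation S' G'.toExtension.Cotangent :=
    Module.finitePresentation_of_finite S' _
  exact Module.Flat.projective_of_finitePresentation

open TensorProduct in
attribute [local instance] Algebra.TensorProduct.rightAlgebra in
/-- Fibres of a flat finitely presented algebra with flat conormal module are l.c.i. -/
theorem isLCIOver_tensor_of_flat_cotangent [Module.Flat A B] [Algebra.FinitePresentation A B]
    (K : Type u) [Field K] [Algebra A K] {n : ℕ} (G : Algebra.Generators A B (ULift.{u} (Fin n)))
    [Module.Flat B G.toExtension.Cotangent] : Synt.IsLCIOver K (K ⊗[A] B) := by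
  haveI : IsNoetherianRing (K ⊗[A] B) := Algebra.FiniteType.isNoetherianRing K (K ⊗[A] B)
  haveI := projective_cotangent_of_pushout (K := K) (S' := K ⊗[A] B) G (G.baseChange K)
    (fun i => rfl)
  exact isLCIOver_of_generators (G.baseChange K)

/-- Generators with a given kernel. -/
theorem exists_generators {n : ℕ} (f : MvPolynomial (Fin n) A →ₐ[A] B) (hf : Function.Surjective f) :
    ∃ G : Algebra.Generators A B (Fin n), G.ker = RingHom.ker f.toRingHom := by
  have hval : MvPolynomial.aeval (fun i => f (MvPolynomial.X i)) = f :=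
    MvPolynomial.algHom_ext fun i => by simp
  refine ⟨Algebra.Generators.ofSurjective (fun i => f (MvPolynomial.X i)) (hval.symm ▸ hf), ?_⟩
  rw [Algebra.Generators.ker_eq_ker_aeval_val]
  change RingHom.ker (MvPolynomial.aeval fun i => f (MvPolynomial.X i)) = _
  rw [hval]
  rfl

theorem nl_isPerfect_and_torAmp (h : LCI.IsLCI A B) :
    DRing.IsPerfect B (LCI.NL A B) ∧ DRing.HasTorAmplitudeIn B (-1) 0 (LCI.NL A B) := by
  haveI := finitePresentation_of_isLCI h
  obtain ⟨-, n, f, hf, hker⟩ := h
  obtain ⟨G, hG⟩ := exists_generators f hf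
  haveI : Module.Projective B G.toExtension.Cotangent :=
    projective_extension_cotangent G.toExtension (by change LCI.IsKoszulRegularIdeal G.ker; rw [hG]; exact hker)
  haveI : Module.Finite B G.toExtension.Cotangent :=
    Algebra.Extension.Cotangent.finite (P := G.toExtension) G.fg_ker_of_finitePresentation
  haveI := Module.Free.of_basis G.cotangentSpaceBasis
  haveI := Module.Finite.of_basis G.cotangentSpaceBasis
  exact ⟨DRing.Perfect.perfect_of_iso (nlIsoGen G)
      (isPerfect_double _ _ ⟨‹_›, ‹_›⟩ ⟨‹_›, inferInstance⟩),
    DRing.TorAmp.torAmp_of_iso (nlIsoGen G)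
      (hasTorAmp_double _ _ inferInstance inferInstance)⟩

theorem isLCI_of_torAmp [Module.Flat A B] [Algebra.FinitePresentation A B]
    (h : DRing.HasTorAmplitudeIn B (-1) 0 (LCI.NL A B)) : LCI.IsLCI A B := by
  obtain ⟨n, f, hf⟩ := Algebra.FiniteType.iff_quotient_mvPolynomial''.1
    (inferInstance : Algebra.FiniteType A B)
  have hval : Function.Surjective
      (MvPolynomial.aeval (R := A) (fun i : ULift.{u} (Fin n) => f (MvPolynomial.X i.down))) := by
    intro b
    obtain ⟨x, rfl⟩ := hf b
    refine ⟨MvPolynomial.rename ULift.up x, ?_⟩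
    rw [MvPolynomial.aeval_rename]
    exact AlgHom.congr_fun (MvPolynomial.algHom_ext fun i => by simp) x
  let G := Algebra.Generators.ofSurjective _ hval
  haveI := Module.Free.of_basis G.cotangentSpaceBasis
  haveI : Module.Flat B G.toExtension.Cotangent :=
    flat_of_hasTorAmp_double (ModuleCat.ofHom G.toExtension.cotangentComplex) (by simp)
      inferInstance (DRing.TorAmp.torAmp_of_iso (nlIso
        ((Algebra.Generators.self A B).defaultHom G).toExtensionHom
        (G.defaultHom (Algebra.Generators.self A B)).toExtensionHom).symm h)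
  exact isLCI_of_isSyntomic ⟨inferInstance, inferInstance,
    fun p => isLCIOver_tensor_of_flat_cotangent p.asIdeal.ResidueField G⟩

end Groth.Agent.Synt44.NLAmp
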