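import Groth.Agent.RelGCI.Main
import Mathlib.RingTheory.IntegralClosure.Algebra.Basic
import Mathlib.RingTheory.HopkinsLevitzki
import Mathlib.RingTheory.KrullDimension.Zero

/-!
# Extracting roots is syntomic
-/

set_option autoImplicit false

universe u

open MvPolynomial

namespace Groth.Agent.Synt44

variable {R : Type u} [CommRing R]

/-- The equations `Y_i ^ p = c_i`. -/
noncomputable def rootEq (p m : ℕ) (c : Fin m → R) : Fin m → MvPolynomial (Fin m) R := fun i => X i ^ p - C (c i)

theorem isRelGCI_rootEq {p m : ℕ} (hp : 0 < p) (c : Fin m → R) : Synt.IsRelGCI R m m (rootEq p m c) := by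
  intro q hnt
  refine ⟨le_rfl, ?_⟩
  obtain ⟨e⟩ := RelGCI.nonempty_fiberEquiv (rootEq p m c) q.asIdeal
  let K := q.asIdeal.ResidueField
  let J := Ideal.span (Set.range fun i => MvPolynomial.map (algebraMap R K) (rootEq p m c i))
  let T := MvPolynomial (Fin m) K ⧸ J
  haveI : Nontrivial T := e.symm.toEquiv.nontrivial
  have hint : ∀ x : T, IsIntegral K x := by
    intro x
    obtain ⟨x, rfl⟩ := Ideal.Quotient.mk_surjective x
    induction x using MvPolynomial.induction_on with
    | C a => exact isIntegral_algebraMap (R := K) (x := a)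
    | add x y hx hy => rw [map_add]; exact hx.add hy
    | mul_X x i hx =>
      rw [map_mul]
      refine hx.mul (IsIntegral.of_pow hp ?_)
      have h1 : Ideal.Quotient.mk J (X i) ^ p = algebraMap K T (algebraMap R K (c i)) := by
        rw [← map_pow]
        refine Ideal.Quotient.eq.2 (Ideal.subset_span ⟨i, ?_⟩)
        simp [rootEq, MvPolynomial.algebraMap_eq]
      rw [h1]
      exact isIntegral_algebraMap
  haveI : Algebra.IsIntegral K T := ⟨hint⟩
  haveI : Module.Finite K T := Algebra.IsIntegral.finite
  haveI : IsArtinianRing T := IsArtinianRing.of_finite K T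
  rw [ringKrullDim_eq_of_ringEquiv e.toRingEquiv, Nat.sub_self, Nat.cast_zero]
  exact ringKrullDimZero_iff_ringKrullDim_eq_zero.1 inferInstance

end Groth.Agent.Synt44
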