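import Mathlib.RingTheory.Ideal.Cotangent
import Mathlib.RingTheory.Nakayama
import Mathlib.Algebra.Module.SpanRank

/-!
# Generators of the conormal module in a local ring
-/

set_option autoImplicit false

universe u

namespace Groth.Agent.Synt44

theorem spanFinrank_cotangent {R : Type u} [CommRing R] [IsLocalRing R] [IsNoetherianRing R] (I : Ideal R) (hI : I ≠ ⊤) :
    (⊤ : Submodule (R ⧸ I) I.Cotangent).spanFinrank = I.spanFinrank := by
  classical
  refine le_antisymm ?_ ?_
  · obtain ⟨s, hs, hsI⟩ := Submodule.FG.exists_span_finset_card_eq_spanFinrank (IsNoetherian.noetherian I)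
    let s' : Finset I := s.attach.image fun y => ⟨y.1, hsI ▸ Submodule.subset_span y.2⟩
    have htop : Submodule.span R (s' : Set I) = ⊤ := by
      apply Submodule.map_injective_of_injective I.injective_subtype
      rw [Submodule.map_span, Submodule.map_subtype_top]
      refine Eq.trans ?_ hsI
      congr 1
      ext y
      simp [s']
      exact fun h => hsI ▸ Submodule.subset_span h
    have h2 : Submodule.span (R ⧸ I) (I.toCotangent '' (s' : Set I)) = ⊤ := by
      rw [← Submodule.restrictScalars_eq_top_iff R, Submodule.restrictScalars_span _ _ Ideal.Quotient.mk_surjective,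
        ← Submodule.map_span, htop, Submodule.map_top, LinearMap.range_eq_top]
      exact I.toCotangent_surjective
    rw [← h2, ← hs]
    refine (Submodule.spanFinrank_span_le_ncard_of_finite ((Finset.finite_toSet _).image _)).trans ?_
    refine (Set.ncard_image_le (Finset.finite_toSet _)).trans ?_
    rw [Set.ncard_coe_finset]
    exact Finset.card_image_le.trans (by rw [Finset.card_attach])
  · haveI : Module.Finite R I := Module.Finite.iff_fg.2 (IsNoetherian.noetherian I)
    haveI : Module.Finite R I.Cotangent := Module.Finite.of_surjective _ I.toCotangent_surjective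
    haveI : Module.Finite (R ⧸ I) I.Cotangent := Module.Finite.of_restrictScalars_finite R _ _
    obtain ⟨s, hs, hsI⟩ := Submodule.FG.exists_span_finset_card_eq_spanFinrank (Module.Finite.fg_top (R := R ⧸ I) (M := I.Cotangent))
    choose w hw using I.toCotangent_surjective
    let J : Ideal R := Ideal.span ((s.image fun y => (w y : R)) : Finset R)
    have hle : I ≤ J := by
      refine Submodule.le_of_le_smul_of_le_jacobson_bot (I := I) (IsNoetherian.noetherian I)
        (le_trans (IsLocalRing.le_maximalIdeal hI) (IsLocalRing.jacobson_eq_maximalIdeal ⊥ bot_ne_top).ge) ?_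
      intro x hx
      have hmem : I.toCotangent ⟨x, hx⟩ ∈ Submodule.span R (s : Set I.Cotangent) := by
        rw [← Submodule.restrictScalars_span R (R ⧸ I) Ideal.Quotient.mk_surjective, hsI]
        trivial
      have hmem' : I.toCotangent ⟨x, hx⟩ ∈ Submodule.map I.toCotangent (Submodule.span R (w '' (s : Set I.Cotangent))) := by
        rw [Submodule.map_span, ← Set.image_comp, show I.toCotangent ∘ w = id from funext hw, Set.image_id]
        exact hmem
      obtain ⟨z, hz, hzx⟩ := hmem'
      have hzJ : (z : R) ∈ J := by
        have := Submodule.mem_map_of_mem (f := I.subtype) hz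
        rw [Submodule.map_span, ← Set.image_comp] at this
        refine (Submodule.span_le.2 ?_ : _ ≤ J) this
        rintro _ ⟨y, hy, rfl⟩
        exact Submodule.subset_span (Finset.mem_coe.2 (Finset.mem_image_of_mem _ hy))
      have hsq := (Ideal.toCotangent_eq I).1 hzx.symm
      rw [pow_two] at hsq
      rw [show x = z + (x - z) by ring]
      exact Submodule.add_mem_sup hzJ (by simpa [smul_eq_mul] using hsq)
    have hJ : I = J := le_antisymm hle (Ideal.span_le.2 fun y hy => by
      obtain ⟨e, -, rfl⟩ := Finset.mem_image.1 (Finset.mem_coe.1 hy)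
      exact (w e).2)
    rw [← hs]
    conv_lhs => rw [hJ]
    exact (Submodule.spanFinrank_span_le_ncard_of_finite (Finset.finite_toSet _)).trans
      ((Set.ncard_coe_finset _).le.trans Finset.card_image_le)

end Groth.Agent.Synt44
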