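import Groth.Agent.Synt44.NLAmp
import Groth.Agent.FlatMor.PC.Stalks
import Groth.Agent.KReg44.Weakly
import Groth.Agent.LCI.RegularIdeal

/-!
# NL amplitude for algebras of finite tor dimension
-/

set_option autoImplicit false

universe u

open CategoryTheory CategoryTheory.Limits DerivedCategory

attribute [local instance] HasDerivedCategory.standard

namespace Groth.Agent.Synt44.NLAmp

open Groth.Agent.FlatMor.PC

/-- Over a Noetherian ring, tor dimension bounds projective dimension of finite modules. -/
theorem pd_le_of_torDim {P : Type u} [CommRing P] [IsNoetherianRing P] (d : ℕ) :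
    ∀ (M : Type u) [AddCommGroup M] [Module P M] [Module.Finite P M],
      DRing.HasTorDimLE P d M → HasProjectiveDimensionLE (ModuleCat.of P M) d := by
  induction d with
  | zero =>
    intro M _ _ _ h
    haveI : Module.Flat P M := (DRing.TorBalance.hasTorDimLE_zero_iff M).1 h
    haveI : Module.FinitePresentation P M := Module.finitePresentation_of_finite P M
    haveI : Module.Projective P M := Module.Flat.projective_of_finitePresentation
    exact RegLoc.PD.pd_of_projective M 0
  | succ d ih =>
    intro M _ _ _ h
    obtain ⟨r, f, hf⟩ := Module.Finite.exists_fin' P M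
    rw [RegLoc.PD.pd_shift f hf d]
    exact ih _ ((hasTorDimLE_ker_iff f hf d).2 h)

variable {A B : Type u} [CommRing A] [CommRing B] [Algebra A B]

theorem isLCI_of_torAmp_of_finiteTorDim [IsNoetherianRing A] [Algebra.FiniteType A B]
    (hB : DRing.HasFiniteTorDim A B) (h : DRing.HasTorAmplitudeIn B (-1) 0 (LCI.NL A B)) :
    LCI.IsLCI A B := by
  obtain ⟨n, f, hf⟩ := Algebra.FiniteType.iff_quotient_mvPolynomial''.1
    (inferInstance : Algebra.FiniteType A B)
  obtain ⟨G, hG⟩ := exists_generators f hf
  haveI := Module.Free.of_basis G.cotangentSpaceBasis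
  haveI : Module.Flat B G.toExtension.Cotangent :=
    flat_of_hasTorAmp_double (ModuleCat.ofHom G.toExtension.cotangentComplex) (by simp)
      inferInstance (DRing.TorAmp.torAmp_of_iso (nlIsoGen G).symm h)
  haveI : IsNoetherianRing B := Algebra.FiniteType.isNoetherianRing A B
  haveI : IsNoetherianRing G.toExtension.Ring :=
    inferInstanceAs (IsNoetherianRing (MvPolynomial (Fin n) A))
  haveI : Module.Finite B G.toExtension.Cotangent :=
    Algebra.Extension.Cotangent.finite (P := G.toExtension) (IsNoetherian.noetherian _)
  haveI : Module.FinitePresentation B G.toExtension.Cotangent :=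
    Module.finitePresentation_of_finite B _
  haveI : Module.Projective B G.toExtension.Cotangent := Module.Flat.projective_of_finitePresentation
  let I : Ideal (MvPolynomial (Fin n) A) := RingHom.ker f.toRingHom
  have hproj0 := projective_cotangent_ker G.toExtension
  change Module.Projective (MvPolynomial (Fin n) A ⧸ G.ker) (Ideal.Cotangent G.ker) at hproj0
  rw [hG] at hproj0
  haveI : Module.Projective (MvPolynomial (Fin n) A ⧸ I) I.Cotangent := hproj0
  letI : Algebra (MvPolynomial (Fin n) A) B := f.toRingHom.toAlgebra
  haveI : IsScalarTower A (MvPolynomial (Fin n) A) B :=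
    IsScalarTower.of_algebraMap_eq fun x => (f.commutes x).symm
  obtain ⟨d, hd⟩ := finTorDim_polynomial (n := n) (A := A) (C := B) hB
  have hI : DRing.HasTorDimLE (MvPolynomial (Fin n) A) d I := by
    have h1 : DRing.HasTorDimLE (MvPolynomial (Fin n) A) (d + 1) B := hasTorDimLE_mono (by omega) hd
    have h2 := (hasTorDimLE_ker_iff (Algebra.linearMap (MvPolynomial (Fin n) A) B) hf d).2 h1
    exact hasTorDimLE_congr (LinearEquiv.ofEq _ _ (by ext; rfl)) h2
  have hpd := pd_le_of_torDim d I hI
  refine ⟨inferInstance, n, f, hf, fun p hp => ?_⟩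
  obtain ⟨g, hg, rs, hrs, hspan⟩ := LCI.RegularIdeal.exists_away_regular I d hpd p.asIdeal hp
  refine ⟨g, hg, rs, KReg44.isKoszulRegularSeq_of_isWeaklyRegular _ rs rfl hrs.toIsWeaklyRegular, ?_⟩
  exact hspan.symm

end Groth.Agent.Synt44.NLAmp
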