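import Groth.Agent.Synt44.LocallyStandard
import Groth.Agent.CAlgLib.LocalDimSpec

/-!
# Relative global complete intersections near a set of fibres of small dimension
-/

set_option autoImplicit false

universe u

open MvPolynomial TensorProduct

namespace Groth.Agent.Synt44

variable {R : Type u} [CommRing R]

theorem localDim_le_ringKrullDim {F : Type u} [CommRing F] (Q : PrimeSpectrum F) :
    FlatMor.localDim (PrimeSpectrum F) Q ≤ ringKrullDim F := by
  refine (RelDim.localDim_le_of_away Q 1 Q.isPrime.one_notMem).trans (le_of_eq ?_)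
  exact (ringKrullDim_eq_of_ringEquiv (IsLocalization.atUnits F (Submonoid.powers (1 : F)) (S := Localization.Away (1 : F)) (by
    rintro _ ⟨m, rfl⟩; simp)).toRingEquiv).symm

section

variable {S : Type u} [CommRing S] [Algebra R S]

theorem localDim_fiber_le_of_mem_dimLeSet {m : ℕ} (p : Ideal R) [p.IsPrime] (q : PrimeSpectrum S)
    (hp : q.asIdeal.under R = p) (hq : q ∈ RelDim.dimLeSet R S m) (Q : PrimeSpectrum (p.Fiber S))
    (hQ : Q.asIdeal.comap (Algebra.TensorProduct.includeRight.toRingHom) = q.asIdeal) :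
    FlatMor.localDim (PrimeSpectrum (p.Fiber S)) Q ≤ (m : WithBot ℕ∞) := by
  subst hp
  exact hq Q hQ

theorem ringKrullDim_fibre_away_le_of_subset [Algebra.FiniteType R S] {m : ℕ} (g : S)
    (hg : (PrimeSpectrum.basicOpen g : Set (PrimeSpectrum S)) ⊆ RelDim.dimLeSet R S m)
    (p : Ideal R) [p.IsPrime] :
    ringKrullDim (Localization.Away ((1 : p.ResidueField) ⊗ₜ[R] g : p.Fiber S)) ≤ (m : WithBot ℕ∞) := by
  let F := p.Fiber S
  let f : F := (1 : p.ResidueField) ⊗ₜ[R] g
  let T := Localization.Away f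
  refine iSup_le fun l => ?_
  let c : PrimeSpectrum T → Ideal F := fun P => P.asIdeal.comap (algebraMap F T)
  have hc : StrictMono c := fun a b hab => lt_of_le_of_ne (Ideal.comap_mono hab.le) fun h =>
    hab.ne (PrimeSpectrum.ext (by
      rw [← IsLocalization.map_under (Submonoid.powers f) T a.asIdeal,
        ← IsLocalization.map_under (Submonoid.powers f) T b.asIdeal]
      exact congrArg (Ideal.map (algebraMap F T)) h))
  haveI : ∀ i, (c (l i)).IsPrime := fun i => Ideal.comap_isPrime _ _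
  have hcf : f ∉ c (l 0) := fun hP =>
    (l 0).2.ne_top (Ideal.eq_top_of_isUnit_mem _ hP (IsLocalization.Away.algebraMap_isUnit f))
  let q₀ : PrimeSpectrum S := ⟨(c (l 0)).comap (Algebra.TensorProduct.includeRight : S →ₐ[R] F).toRingHom, inferInstance⟩
  have hq₀ : q₀ ∈ RelDim.dimLeSet R S m := hg (show g ∉ q₀.asIdeal from hcf)
  have hu : q₀.asIdeal.under R = p := by
    have h1 : (c (l 0)).under R = p := (Ideal.over_def (c (l 0)) p).symm
    rw [← h1]
    ext a
    change (Algebra.TensorProduct.includeRight : S →ₐ[R] F) (algebraMap R S a) ∈ c (l 0) ↔ _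
    rw [AlgHom.commutes]
    rfl
  have h1 := localDim_fiber_le_of_mem_dimLeSet p q₀ hu hq₀ ⟨c (l 0), inferInstance⟩ rfl
  obtain ⟨P₀, hP₀, hle⟩ := Ideal.exists_minimalPrimes_le (bot_le : (⊥ : Ideal F) ≤ c (l 0))
  haveI : P₀.IsPrime := hP₀.1.1
  haveI : Algebra.FiniteType p.ResidueField F := inferInstance
  rw [CAlgLib.LocalDimSpec.localDim_eq p.ResidueField (c (l 0))] at h1
  refine le_trans ?_ ((le_iSup (fun q : CAlgLib.LocalDimSpec.Mins (c (l 0)) => ringKrullDim (F ⧸ q.1)) ⟨P₀, hP₀, hle⟩).trans h1)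
  have hall : ∀ i, P₀ ≤ c (l i) := fun i => hle.trans (hc.monotone (l.monotone (Fin.zero_le i)))
  have hp : ∀ i, ((c (l i)).map (Ideal.Quotient.mk P₀)).IsPrime := fun i =>
    Ideal.map_isPrime_of_surjective Ideal.Quotient.mk_surjective (by rw [Ideal.mk_ker]; exact hall i)
  have hback : ∀ i, ((c (l i)).map (Ideal.Quotient.mk P₀)).comap (Ideal.Quotient.mk P₀) = c (l i) := fun i => by
    rw [Ideal.comap_map_of_surjective' _ Ideal.Quotient.mk_surjective, Ideal.mk_ker, sup_eq_left.2 (hall i)]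
  let s : LTSeries (PrimeSpectrum (F ⧸ P₀)) := LTSeries.mk l.length (fun i => ⟨_, hp i⟩)
    (fun i j hij => lt_of_le_not_ge (Ideal.map_mono (f := Ideal.Quotient.mk P₀) (hc (l.strictMono hij)).le)
      (fun h => (hc (l.strictMono hij)).not_ge (by
        have h' : ((c (l j)).map (Ideal.Quotient.mk P₀)).comap (Ideal.Quotient.mk P₀) ≤
            ((c (l i)).map (Ideal.Quotient.mk P₀)).comap (Ideal.Quotient.mk P₀) := Ideal.comap_mono h
        rwa [hback, hback] at h')))
  exact le_iSup (fun x : LTSeries (PrimeSpectrum (F ⧸ P₀)) => (x.length : WithBot ℕ∞)) s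

/-- A closed set inside an open set has a basic neighbourhood congruent to one. -/
theorem exists_mem_sub_one {U : Set (PrimeSpectrum S)} (hU : IsOpen U) (K : Ideal S)
    (hK : PrimeSpectrum.zeroLocus (K : Set S) ⊆ U) :
    ∃ g : S, g - 1 ∈ K ∧ (PrimeSpectrum.basicOpen g : Set (PrimeSpectrum S)) ⊆ U := by
  obtain ⟨J, hJ⟩ := (PrimeSpectrum.isClosed_iff_zeroLocus_ideal _).1 hU.isClosed_compl
  have htop : J ⊔ K = ⊤ := by
    by_contra hne
    obtain ⟨M, hM, hle⟩ := Ideal.exists_le_maximal _ hne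
    have h1 : (⟨M, hM.isPrime⟩ : PrimeSpectrum S) ∈ U := hK (le_sup_right.trans hle)
    have h2 : (⟨M, hM.isPrime⟩ : PrimeSpectrum S) ∈ Uᶜ := by
      rw [hJ]; exact le_sup_left.trans hle
    exact h2 h1
  obtain ⟨a, ha, b, hb, hab⟩ := Submodule.mem_sup.1 ((Ideal.eq_top_iff_one _).1 htop)
  refine ⟨a, by rw [← hab, sub_add_cancel_left]; exact neg_mem hb, fun q hq => ?_⟩
  by_contra hqU
  have h2 : q ∈ Uᶜ := hqU
  rw [hJ] at h2
  exact hq (h2 ha)

/-- An open set containing a fibre contains a basic open whose element is a unit on the fibre. -/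
theorem exists_isUnit_fibre {U : Set (PrimeSpectrum S)} (hU : IsOpen U) (p : Ideal R) [p.IsPrime]
    (hp : ∀ q : PrimeSpectrum S, q.asIdeal.under R = p → q ∈ U) :
    ∃ g : S, IsUnit ((1 : p.ResidueField) ⊗ₜ[R] g : p.Fiber S) ∧
      (PrimeSpectrum.basicOpen g : Set (PrimeSpectrum S)) ⊆ U := by
  obtain ⟨J, hJ⟩ := (PrimeSpectrum.isClosed_iff_zeroLocus_ideal _).1 hU.isClosed_compl
  let incR : S →+* p.Fiber S := (Algebra.TensorProduct.includeRight : S →ₐ[R] p.Fiber S).toRingHom
  have htop : J.map incR = ⊤ := by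
    by_contra hne
    obtain ⟨M, hM, hle⟩ := Ideal.exists_le_maximal _ hne
    have h1 : (M.comap incR).under R = p := by
      refine (?_ : (M.comap incR).under R = M.under R).trans (Ideal.over_def M p).symm
      ext a
      change (Algebra.TensorProduct.includeRight : S →ₐ[R] p.Fiber S) (algebraMap R S a) ∈ M ↔ _
      rw [AlgHom.commutes]
      rfl
    have h2 : (⟨M.comap incR, inferInstance⟩ : PrimeSpectrum S) ∈ Uᶜ := by
      rw [hJ]; exact Ideal.map_le_iff_le_comap.1 hle
    exact h2 (hp _ h1)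
  have key : ∀ x : p.Fiber S, x ∈ J.map incR → ∃ a ∉ p, ∃ s ∈ J, a • x = 1 ⊗ₜ[R] s := by
    intro x hx
    rw [Ideal.map] at hx
    refine Submodule.span_induction (fun y hy => ?_) ⟨1, p.one_notMem, 0, J.zero_mem, by simp⟩
      (fun y z _ _ hy hz => ?_) (fun c y _ hy => ?_) hx
    · obtain ⟨s, hs, rfl⟩ := hy
      exact ⟨1, p.one_notMem, s, hs, one_smul R _⟩
    · obtain ⟨a, ha, s, hs, hy⟩ := hy
      obtain ⟨a', ha', s', hs', hz⟩ := hz
      refine ⟨a * a', Ideal.IsPrime.mul_notMem ‹_› ha ha', a' • s + a • s',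
        J.add_mem (Submodule.smul_of_tower_mem _ _ hs) (Submodule.smul_of_tower_mem _ _ hs'), ?_⟩
      rw [smul_add, tmul_add, tmul_smul, tmul_smul, ← hy, ← hz, ← mul_smul, ← mul_smul, mul_comm a' a]
    · obtain ⟨a, ha, s, hs, hy⟩ := hy
      obtain ⟨a', ha', s', hc⟩ := Ideal.Fiber.exists_smul_eq_one_tmul p c
      refine ⟨a' * a, Ideal.IsPrime.mul_notMem ‹_› ha' ha, s' * s, J.mul_mem_left _ hs, ?_⟩
      rw [smul_eq_mul, ← smul_mul_smul_comm, hc, hy, Algebra.TensorProduct.tmul_mul_tmul, one_mul]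
  obtain ⟨a, ha, s, hs, has⟩ := key 1 (htop ▸ Submodule.mem_top)
  refine ⟨s, ?_, fun q hq => ?_⟩
  · rw [← has, Algebra.smul_def, mul_one, IsScalarTower.algebraMap_apply R p.ResidueField (p.Fiber S)]
    exact (isUnit_iff_ne_zero.2 fun h0 => ha (Ideal.algebraMap_residueField_eq_zero.1 h0)).map _
  · by_contra hqU
    have h2 : q ∈ Uᶜ := hqU
    rw [hJ] at h2
    exact hq (h2 hs)

end

/-- The presentation of a basic open of a finitely presented algebra with one more variable. -/
theorem nonempty_snocEquiv {n c : ℕ} (F : Fin c → MvPolynomial (Fin n) R) (h : MvPolynomial (Fin n) R) :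
    Nonempty (Localization.Away (Ideal.Quotient.mk (Ideal.span (Set.range F)) h) ≃ₐ[R]
        Synt.RelGCIRing R (n + 1) (c + 1)
          (Fin.snoc (fun i => rename Fin.castSucc (F i)) (rename Fin.castSucc h * X (Fin.last n) - 1))) := by
  let J := Ideal.span (Set.range F)
  let g : MvPolynomial (Fin n) R ⧸ J := Ideal.Quotient.mk J h
  let Sg := Localization.Away g
  let F' : Fin (c + 1) → MvPolynomial (Fin (n + 1)) R :=
    Fin.snoc (fun i => rename Fin.castSucc (F i)) (rename Fin.castSucc h * X (Fin.last n) - 1)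
  let J' := Ideal.span (Set.range F')
  let x : Fin n → Sg := fun i => algebraMap _ Sg (Ideal.Quotient.mk J (X i))
  let φ₀ : MvPolynomial (Fin (n + 1)) R →ₐ[R] Sg := aeval (Fin.snoc x (IsLocalization.Away.invSelf g))
  have hφ₀ : ∀ P : MvPolynomial (Fin n) R, φ₀ (rename Fin.castSucc P) = algebraMap _ Sg (Ideal.Quotient.mk J P) := by
    intro P
    have : φ₀.comp (rename Fin.castSucc) = (IsScalarTower.toAlgHom R _ Sg).comp (Ideal.Quotient.mkₐ R J) :=
      MvPolynomial.algHom_ext fun i => by simp [φ₀, x]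
    exact AlgHom.congr_fun this P
  have hker : J' ≤ RingHom.ker φ₀ := Ideal.span_le.2 (by
    rintro _ ⟨i, rfl⟩
    induction i using Fin.lastCases with
    | last =>
      change φ₀ (F' (Fin.last c)) = 0
      simp only [F', Fin.snoc_last]
      rw [map_sub, map_mul, hφ₀, show φ₀ (X (Fin.last n)) = IsLocalization.Away.invSelf g by simp [φ₀],
        IsLocalization.Away.mul_invSelf, map_one, sub_self]
    | cast i =>
      change φ₀ (F' i.castSucc) = 0
      simp only [F', Fin.snoc_castSucc]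
      rw [hφ₀, (Ideal.Quotient.eq_zero_iff_mem (I := J)).2 (Ideal.subset_span (Set.mem_range_self (f := F) i)), map_zero])
  let φ : Synt.RelGCIRing R (n + 1) (c + 1) F' →ₐ[R] Sg := Ideal.Quotient.liftₐ J' φ₀ fun y hy => hker hy
  let ψ₁ : (MvPolynomial (Fin n) R ⧸ J) →ₐ[R] Synt.RelGCIRing R (n + 1) (c + 1) F' :=
    Ideal.Quotient.liftₐ J ((Ideal.Quotient.mkₐ R J').comp (rename Fin.castSucc)) (fun y hy => by
      have h0 : J ≤ RingHom.ker ((Ideal.Quotient.mkₐ R J').comp (rename Fin.castSucc)) := Ideal.span_le.2 (by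
        rintro _ ⟨i, rfl⟩
        exact (Ideal.Quotient.eq_zero_iff_mem (I := J')).2 (Ideal.subset_span (show rename Fin.castSucc (F i) ∈ Set.range F' from ⟨i.castSucc, by simp [F']⟩)))
      exact h0 hy)
  have hu : IsUnit (ψ₁ g) := by
    refine IsUnit.of_mul_eq_one (Ideal.Quotient.mk J' (X (Fin.last n))) ?_
    change Ideal.Quotient.mk J' (rename Fin.castSucc h) * _ = 1
    rw [← map_mul, ← map_one (Ideal.Quotient.mk J')]
    exact (Ideal.Quotient.eq (I := J')).2 (Ideal.subset_span (show _ ∈ Set.range F' from ⟨Fin.last c, by simp [F']⟩))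
  have hu' : ∀ y : Submonoid.powers g, IsUnit (ψ₁ y) := by
    rintro ⟨_, k, rfl⟩
    rw [map_pow]; exact hu.pow k
  let ψ : Sg →ₐ[R] Synt.RelGCIRing R (n + 1) (c + 1) F' := IsLocalization.liftAlgHom hu'
  have hψ : ∀ y, ψ (algebraMap _ Sg y) = ψ₁ y := fun y => IsLocalization.lift_eq _ y
  refine ⟨AlgEquiv.ofAlgHom ψ φ ?_ ?_⟩
  · refine Ideal.Quotient.algHom_ext R (MvPolynomial.algHom_ext fun i => ?_)
    change ψ (φ₀ (X i)) = Ideal.Quotient.mk J' (X i)
    induction i using Fin.lastCases with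
    | last =>
      rw [show φ₀ (X (Fin.last n)) = IsLocalization.Away.invSelf g by simp [φ₀]]
      refine hu.mul_left_cancel ?_
      rw [← hψ, ← map_mul, IsLocalization.Away.mul_invSelf, map_one, hψ]
      change 1 = Ideal.Quotient.mk J' (rename Fin.castSucc h) * _
      rw [← map_mul, ← map_one (Ideal.Quotient.mk J')]
      exact ((Ideal.Quotient.eq (I := J')).2 (Ideal.subset_span (show _ ∈ Set.range F' from ⟨Fin.last c, by simp [F']⟩))).symm
    | cast i =>
      rw [show φ₀ (X i.castSucc) = x i by simp [φ₀], hψ]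
      change Ideal.Quotient.mk J' (rename Fin.castSucc (X i)) = _
      rw [rename_X]
  · refine AlgHom.coe_ringHom_injective (IsLocalization.ringHom_ext (Submonoid.powers g) (RingHom.ext fun y => ?_))
    change φ (ψ (algebraMap _ Sg y)) = algebraMap _ Sg y
    rw [hψ]
    obtain ⟨P, rfl⟩ := Ideal.Quotient.mk_surjective y
    exact hφ₀ P

theorem isRelGCI_of_away_le {n c : ℕ} (hcn : c ≤ n) (F : Fin c → MvPolynomial (Fin n) R) (h : MvPolynomial (Fin n) R)
    (hd : ∀ (p : Ideal R) [p.IsPrime], ringKrullDim (Localization.Away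
      ((1 : p.ResidueField) ⊗ₜ[R] (Ideal.Quotient.mk (Ideal.span (Set.range F)) h) : p.Fiber (Synt.RelGCIRing R n c F))) ≤
        ((n - c : ℕ) : WithBot ℕ∞)) :
    Synt.IsRelGCI R (n + 1) (c + 1)
      (Fin.snoc (fun i => rename Fin.castSucc (F i)) (rename Fin.castSucc h * X (Fin.last n) - 1)) := by
  intro p hnt
  refine ⟨by omega, ?_⟩
  rw [Nat.add_sub_add_right]
  obtain ⟨e⟩ := nonempty_snocEquiv F h
  refine le_antisymm ?_ ?_
  · let K := p.asIdeal.ResidueField
    let g := Ideal.Quotient.mk (Ideal.span (Set.range F)) h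
    rw [ringKrullDim_eq_of_ringEquiv ((Algebra.TensorProduct.congr AlgEquiv.refl e.symm).trans
      (IsLocalization.Away.tensorProductEquivTMulRight R K g (Localization.Away g))).toRingEquiv]
    exact hd p.asIdeal
  · obtain ⟨e₂⟩ := RelGCI.nonempty_fiberEquiv
      (Fin.snoc (fun i => rename Fin.castSucc (F i)) (rename Fin.castSucc h * X (Fin.last n) - 1)) p.asIdeal
    rw [ringKrullDim_eq_of_ringEquiv e₂.toRingEquiv]
    have := le_ringKrullDim_quotient _ (Ideal.Quotient.nontrivial_iff.1 e₂.toEquiv.symm.nontrivial)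
    rwa [Nat.add_sub_add_right] at this

theorem isRelGCI_zero_away {n c : ℕ} (F : Fin c → MvPolynomial (Fin n) R) :
    Synt.IsRelGCI R (n + 1) (c + 1)
      (Fin.snoc (fun i => rename Fin.castSucc (F i)) (rename Fin.castSucc 0 * X (Fin.last n) - 1)) := by
  intro p hnt
  obtain ⟨e⟩ := nonempty_snocEquiv F 0
  exfalso
  haveI : Subsingleton (Localization.Away (Ideal.Quotient.mk (Ideal.span (Set.range F)) 0)) :=
    IsLocalization.subsingleton (M := Submonoid.powers (Ideal.Quotient.mk (Ideal.span (Set.range F)) 0)) ⟨1, by simp⟩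
  haveI := e.toEquiv.symm.subsingleton
  refine @not_nontrivial _ (subsingleton_of_zero_eq_one ?_) hnt
  rw [← map_one (Algebra.TensorProduct.includeRight : Synt.RelGCIRing R (n + 1) (c + 1)
      (Fin.snoc (fun i => rename Fin.castSucc (F i)) (rename Fin.castSucc 0 * X (Fin.last n) - 1)) →ₐ[R] p.asIdeal.ResidueField ⊗[R] _),
    Subsingleton.elim (1 : Synt.RelGCIRing R (n + 1) (c + 1)
      (Fin.snoc (fun i => rename Fin.castSucc (F i)) (rename Fin.castSucc 0 * X (Fin.last n) - 1))) 0]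
  exact (map_zero _).symm

end Groth.Agent.Synt44
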