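import Groth.Agent.Synt44.NLAmp
import Groth.Agent.DRing.DBasic
import Groth.Agent.DRing.PCTrunc
import Mathlib.LinearAlgebra.Matrix.Adjugate
import Mathlib.LinearAlgebra.Matrix.ToLin

/-!
# The Jacobian determinant and the naive cotangent complex
-/

set_option autoImplicit false

universe u

open CategoryTheory CategoryTheory.Limits DerivedCategory MvPolynomial

attribute [local instance] HasDerivedCategory.standard

namespace Groth.Agent.Synt44.JacobianNL

open Groth.Agent.DRing.PC Groth.Agent.DRing.DBasic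

variable {B : Type u} [CommRing B]

section Double

variable {M F : ModuleCat.{u} B} (φ : M ⟶ F) (h : (ComplexShape.up ℤ).Rel (-1) 0)

/-- Maps from a projective module in degree `0` to `N[1]` vanish. -/
theorem eq_zero_sgl (P : ModuleCat.{u} B) (hP : Module.Projective B P) (N : ModuleCat.{u} B)
    (ψ : DRing.toD (sgl 0 P) ⟶ DRing.toD (sgl (-1) N)) : ψ = 0 := by
  have hb : DRing.VanishesAbove (sgl 0 P) 0 := fun i hi => vanishesOutside_sgl 0 P i (Or.inr hi)
  have := isKProjective_of_projective (sgl 0 P) 0 hb fun i => by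
    by_cases hi : i = 0
    · subst hi
      exact Module.Projective.of_equiv
        (HomologicalComplex.singleObjXSelf (ComplexShape.up ℤ) 0 P).toLinearEquiv.symm
    · have := ModuleCat.subsingleton_of_isZero
        (HomologicalComplex.isZero_single_obj_X (ComplexShape.up ℤ) 0 P i hi)
      infer_instance
  obtain ⟨f, rfl⟩ := exists_Q_map_eq ψ
  have : f = 0 := by
    refine HomologicalComplex.hom_ext _ _ fun k => ?_
    by_cases hk : k = 0
    · subst hk
      exact (HomologicalComplex.isZero_single_obj_X (ComplexShape.up ℤ) (-1) N 0 (by decide)).eq_of_tgt _ _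
    · exact (HomologicalComplex.isZero_single_obj_X (ComplexShape.up ℤ) 0 P k hk).eq_of_src _ _
  rw [this, Functor.map_zero]

/-- A null-homotopy in the bottom degree factors multiplication through the top degree. -/
theorem exists_factor (g : B) (s : F ⟶ M) (hs : φ ≫ s = g • 𝟙 M) :
    ∃ (q : HomologicalComplex.double φ h ⟶ sgl 0 F) (i : sgl 0 F ⟶ HomologicalComplex.double φ h),
      g • 𝟙 (DRing.toD (HomologicalComplex.double φ h)) = Q.map q ≫ Q.map i ∧
        (s ≫ φ = g • 𝟙 F → q = 0) := by
  let D : DRing.Cx B := HomologicalComplex.double φ h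
  have hne : (-1 : ℤ) ≠ 0 := by decide
  let G₀ : F ⟶ F := g • 𝟙 F - s ≫ φ
  have hG : φ ≫ G₀ = 0 := by
    simp only [G₀, Preadditive.comp_sub, ← Category.assoc, hs, Linear.smul_comp, Category.id_comp,
      Linear.comp_smul, Category.comp_id, sub_self]
  let q : D ⟶ sgl 0 F := HomologicalComplex.mkHomToSingle
    ((HomologicalComplex.doubleXIso₁ φ h hne).hom ≫ G₀) (fun k hk => by
      obtain rfl : k = -1 := by simp only [ComplexShape.up_Rel] at hk; omega
      rw [HomologicalComplex.double_d φ h hne]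
      simp [hG])
  let i : sgl 0 F ⟶ D := HomologicalComplex.mkHomFromSingle
    (HomologicalComplex.doubleXIso₁ φ h hne).inv
    (fun k _ => by rw [HomologicalComplex.double_d_eq_zero₀ φ h 0 k (by decide), comp_zero])
  let H : Homotopy (g • 𝟙 D) (q ≫ i) := NLBC.homotopyDouble _ _ s
    (by
      have : (q ≫ i).f (-1) = 0 := by
        rw [HomologicalComplex.comp_f]
        exact (((HomologicalComplex.isZero_single_obj_X (ComplexShape.up ℤ) 0 F (-1) (by decide)).eq_of_tgt
          (q.f (-1)) 0).symm ▸ zero_comp)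
      rw [this, add_zero, ← Category.assoc φ, hs]
      simp [Linear.comp_smul, Linear.smul_comp, D]
      try rfl)
    (by
      rw [HomologicalComplex.comp_f]
      simp only [q, i, HomologicalComplex.mkHomToSingle_f, HomologicalComplex.mkHomFromSingle_f,
        Category.assoc, Iso.inv_hom_id_assoc, G₀]
      simp [Preadditive.sub_comp, Preadditive.comp_sub, Linear.comp_smul, Linear.smul_comp, D]
      try rfl)
  refine ⟨q, i, ?_, fun h0 => ?_⟩
  · have h1 := Q_map_eq_of_homotopy (ModuleCat.{u} B) H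
    rwa [Functor.map_smul, CategoryTheory.Functor.map_id, Functor.map_comp] at h1
  · have : G₀ = 0 := by simp [G₀, h0]
    refine HomologicalComplex.to_single_hom_ext ?_
    simp [q, this]

theorem smul_eq_zero_of_homotopy (g : B) (s : F ⟶ M) (hs : φ ≫ s = g • 𝟙 M) (hF : Module.Projective B F)
    (N : ModuleCat.{u} B) (ψ : DRing.toD (HomologicalComplex.double φ h) ⟶ DRing.toD (sgl (-1) N)) :
    g • ψ = 0 := by
  obtain ⟨q, i, hqi, -⟩ := exists_factor φ h g s hs
  rw [← Category.id_comp ψ, ← Linear.smul_comp, hqi, Category.assoc, eq_zero_sgl F hF N (Q.map i ≫ ψ),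
    comp_zero]

theorem smul_id_eq_zero_of_homotopy (g : B) (s : F ⟶ M) (hs : φ ≫ s = g • 𝟙 M) (hs' : s ≫ φ = g • 𝟙 F) :
    g • 𝟙 (DRing.toD (HomologicalComplex.double φ h)) = 0 := by
  obtain ⟨q, i, hqi, h0⟩ := exists_factor φ h g s hs
  rw [hqi, h0 hs', Functor.map_zero, zero_comp]

end Double

theorem transport_hom {X Y Z W : Dual.D B} (e : X ≅ Y) (e' : Z ≅ W) (g : B)
    (h : ∀ ψ : X ⟶ Z, g • ψ = 0) (ψ : Y ⟶ W) : g • ψ = 0 := by
  have h1 := h (e.hom ≫ ψ ≫ e'.inv)
  rw [← Linear.comp_smul, ← Linear.smul_comp] at h1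
  have h2 := congrArg (fun t => e.inv ≫ t ≫ e'.hom) h1
  simpa using h2

theorem transport_id {X Y : Dual.D B} (e : X ≅ Y) (g : B) (h : g • 𝟙 X = 0) : g • 𝟙 Y = 0 := by
  have h2 := congrArg (fun t => e.inv ≫ t ≫ e.hom) h
  simpa [Linear.comp_smul, Linear.smul_comp] using h2

variable (A : Type u) [CommRing A] (n m : ℕ) (hmn : m ≤ n) (f : Fin m → MvPolynomial (Fin n) A)

theorem jacobian_smul :
    let I := Ideal.span (Set.range f)
    let g := Ideal.Quotient.mk I (Matrix.det (Matrix.of fun i j : Fin m => pderiv (Fin.castLE hmn i) (f j)))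
    (∀ (N : Type u) [AddCommGroup N] [Module (MvPolynomial (Fin n) A ⧸ I) N]
        (φ : LCI.NL A (MvPolynomial (Fin n) A ⧸ I) ⟶ (Dual.inD (MvPolynomial (Fin n) A ⧸ I) N)⟦(1 : ℤ)⟧),
        g • φ = 0) ∧
      (n = m → g • 𝟙 (LCI.NL A (MvPolynomial (Fin n) A ⧸ I)) = 0) := by
  classical
  intro I g
  let S := MvPolynomial (Fin n) A ⧸ I
  let val : Fin n → S := fun i => Ideal.Quotient.mk I (X i)
  have hval : (aeval val : MvPolynomial (Fin n) A →ₐ[A] S) = Ideal.Quotient.mkₐ A I :=
    MvPolynomial.algHom_ext fun i => by simp [val]; rfl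
  let G : Algebra.Generators A S (Fin n) :=
    Algebra.Generators.ofSurjective val (hval ▸ Ideal.Quotient.mk_surjective)
  have hker : G.ker = I := by
    rw [Algebra.Generators.ker_eq_ker_aeval_val]
    change RingHom.ker (aeval val : MvPolynomial (Fin n) A →ₐ[A] S) = I
    rw [hval]
    exact Ideal.mk_ker
  have hf : ∀ j, f j ∈ G.toExtension.ker := fun j => hker.ge (Ideal.subset_span ⟨j, rfl⟩)
  let c : Fin m → G.toExtension.Cotangent := fun j => Algebra.Extension.Cotangent.mk ⟨f j, hf j⟩
  let b := G.cotangentSpaceBasis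
  let J : Matrix (Fin m) (Fin m) S := Matrix.of fun i j => Ideal.Quotient.mk I (pderiv (Fin.castLE hmn i) (f j))
  have hg : g = J.det := RingHom.map_det _ _
  let e : (Fin m → S) →ₗ[S] G.toExtension.Cotangent := Fintype.linearCombination S c
  let pr : G.toExtension.CotangentSpace →ₗ[S] (Fin m → S) :=
    LinearMap.funLeft S S (Fin.castLE hmn) ∘ₗ Finsupp.lcoeFun ∘ₗ b.repr.toLinearMap
  let s : G.toExtension.CotangentSpace →ₗ[S] G.toExtension.Cotangent := e ∘ₗ J.adjugate.mulVecLin ∘ₗ pr
  let d := G.toExtension.cotangentComplex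
  have hd : ∀ j i, b.repr (d (c j)) i = Ideal.Quotient.mk I (pderiv i (f j)) := fun j i => by
    change b.repr (G.toExtension.cotangentComplex (Algebra.Extension.Cotangent.mk ⟨f j, hf j⟩)) i = _
    rw [Algebra.Extension.cotangentComplex_mk]
    exact (G.cotangentSpaceBasis_repr_one_tmul _ _).trans (AlgHom.congr_fun hval _)
  have hpr : pr ∘ₗ d ∘ₗ e = J.mulVecLin := by
    refine LinearMap.pi_ext' fun j => LinearMap.ext_ring ?_
    funext i
    simp [pr, e, J, hd, Matrix.mulVec_single_one]
  have hsd : s ∘ₗ d = J.det • LinearMap.id := by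
    have hspan : Submodule.span S (Set.range c) = ⊤ :=
      Algebra.Extension.Cotangent.span_eq_top_of_span_eq_ker (P := G.toExtension) f hker.symm
    refine LinearMap.ext_on_range hspan fun j => ?_
    have hej : e (Pi.single j 1) = c j := by simp [e]
    calc s (d (c j)) = e (J.adjugate.mulVecLin ((pr ∘ₗ d ∘ₗ e) (Pi.single j 1))) := by
          simp only [s, LinearMap.comp_apply, hej]
      _ = e (J.det • Pi.single j 1) := by
          rw [hpr]
          refine congrArg e ?_
          change J.adjugate.mulVec (J.mulVec (Pi.single j 1)) = _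
          exact (Matrix.mulVec_mulVec _ _ _).trans ((congrArg (fun M => Matrix.mulVec M _) J.adjugate_mul).trans
            ((Matrix.smul_mulVec _ _ _).trans (congrArg _ (Matrix.one_mulVec _))))
      _ = _ := by rw [map_smul, hej]; rfl
  have hφs : ModuleCat.ofHom d ≫ ModuleCat.ofHom s = J.det • 𝟙 (ModuleCat.of S G.toExtension.Cotangent) :=
    ModuleCat.hom_ext hsd
  let iso := NLAmp.nlIsoGen G
  refine ⟨fun N _ _ φ => ?_, fun hnm => ?_⟩
  · rw [hg]
    refine transport_hom iso
      ((inDShiftIso (ModuleCat.of S N) (-1)).symm ≪≫ eqToIso (by rw [neg_neg])) J.det (fun ψ => ?_) φ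
    exact smul_eq_zero_of_homotopy (ModuleCat.ofHom d) _ J.det (ModuleCat.ofHom s) hφs
      (Module.Projective.of_basis b) _ ψ
  · rw [hg]
    refine transport_id iso J.det (smul_id_eq_zero_of_homotopy (ModuleCat.ofHom d) _ J.det
      (ModuleCat.ofHom s) hφs (ModuleCat.hom_ext (LinearMap.ext fun x => ?_)))
    subst hnm
    apply b.repr.injective
    ext i
    change b.repr (d (e (J.adjugate.mulVecLin (pr x)))) i = b.repr (J.det • x) i
    have h1 : b.repr (d (e (J.adjugate.mulVecLin (pr x)))) i =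
        (pr ∘ₗ d ∘ₗ e) (J.adjugate.mulVecLin (pr x)) i := by simp [pr]
    rw [h1, hpr]
    refine Eq.trans (congrFun ((Matrix.mulVec_mulVec _ _ _).trans
      ((congrArg (fun M => Matrix.mulVec M _) J.mul_adjugate).trans
        ((Matrix.smul_mulVec _ _ _).trans (congrArg _ (Matrix.one_mulVec _))))) i) ?_
    simp [pr]

end Groth.Agent.Synt44.JacobianNL
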