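import Groth.Prelude.Def_W4stkdualitygroupp2Univ
import Mathlib.RingTheory.RegularLocalRing.Polynomial
import Mathlib.RingTheory.PrincipalIdealDomain
import Mathlib.RingTheory.Int.Basic
import Mathlib.RingTheory.Polynomial.Basic

/-!
# The universal algebra of `n` equations of degree at most `d` in `n` variables is polynomial
-/

set_option autoImplicit false

open MvPolynomial

namespace Groth.Agent.Synt44.Univ

variable (n d : ℕ)

/-- The zero exponent. -/
def zeroIdx : Synt.UnivIdx n d := ⟨fun _ => 0, by simp⟩

theorem exponent_zeroIdx : (zeroIdx n d).exponent = 0 := by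
  ext i
  simp [zeroIdx, Synt.UnivIdx.exponent]

/-- The variables remaining after eliminating the constant coefficients. -/
abbrev Var : Type := (Fin n × {E : Synt.UnivIdx n d // E ≠ zeroIdx n d}) ⊕ Fin n

/-- The nonconstant part of the `i`-th universal equation. -/
noncomputable def rest (i : Fin n) : MvPolynomial (Var n d) ℤ :=
  ∑ E : {E : Synt.UnivIdx n d // E ≠ zeroIdx n d}, X (Sum.inl (i, E)) * E.1.exponent.prod fun j e => X (Sum.inr j) ^ e

/-- The elimination map on coefficients. -/
noncomputable def coeffMap : Synt.UnivBase n d →+* MvPolynomial (Var n d) ℤ :=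
  eval₂Hom (Int.castRingHom _) fun p => if h : p.2 = zeroIdx n d then -rest n d p.1 else X (Sum.inl (p.1, ⟨p.2, h⟩))

/-- The elimination map. -/
noncomputable def elim : MvPolynomial (Fin n) (Synt.UnivBase n d) →+* MvPolynomial (Var n d) ℤ :=
  eval₂Hom (coeffMap n d) fun j => X (Sum.inr j)

theorem elim_univPoly (i : Fin n) : elim n d (Synt.univPoly n d i) = 0 := by
  classical
  simp only [Synt.univPoly, elim, map_sum, eval₂Hom_monomial]
  rw [Fintype.sum_eq_add_sum_subtype_ne _ (zeroIdx n d), exponent_zeroIdx]
  simp only [coeffMap, eval₂Hom_X', dif_pos, Finsupp.prod_zero_index, mul_one]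
  rw [neg_add_eq_zero, rest]
  refine Finset.sum_congr rfl fun E _ => ?_
  rw [dif_neg E.2]

/-- The universal algebra is a polynomial ring over `ℤ`. -/
theorem nonempty_equiv : Nonempty (Synt.UnivAlg n d ≃+* MvPolynomial (Var n d) ℤ) := by
  classical
  let I := Synt.univIdeal n d
  let φ : (MvPolynomial (Fin n) (Synt.UnivBase n d) ⧸ I) →+* MvPolynomial (Var n d) ℤ :=
    Ideal.Quotient.lift I (elim n d) fun a ha => by
      have h0 : I ≤ RingHom.ker (elim n d) := Ideal.span_le.2 (by rintro _ ⟨i, rfl⟩; exact elim_univPoly n d i)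
      exact h0 ha
  let mk := Ideal.Quotient.mk I
  let ψ : MvPolynomial (Var n d) ℤ →+* (MvPolynomial (Fin n) (Synt.UnivBase n d) ⧸ I) :=
    eval₂Hom (Int.castRingHom _) (Sum.elim (fun p => mk (C (X (p.1, p.2.1)))) fun j => mk (X j))
  have h1 : φ.comp ψ = RingHom.id _ := by
    refine MvPolynomial.ringHom_ext (fun r => by simp) fun v => ?_
    rcases v with ⟨i, E, hE⟩ | j
    · simp [ψ, φ, mk, elim, coeffMap, dif_neg hE]
    · simp [ψ, φ, mk, elim]
  have h2 : ψ.comp φ = RingHom.id _ := by
    refine Ideal.Quotient.ringHom_ext (MvPolynomial.ringHom_ext (fun r => ?_) fun j => ?_)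
    · have hc : ((ψ.comp φ).comp mk).comp (C : Synt.UnivBase n d →+* _) = mk.comp C := by
        refine MvPolynomial.ringHom_ext (fun z => by simp) fun p => ?_
        obtain ⟨i, E⟩ := p
        by_cases hE : E = zeroIdx n d
        · subst hE
          have h0 : mk (Synt.univPoly n d i) = 0 := Ideal.Quotient.eq_zero_iff_mem.2 (Ideal.subset_span ⟨i, rfl⟩)
          rw [Synt.univPoly, map_sum, Fintype.sum_eq_add_sum_subtype_ne _ (zeroIdx n d), exponent_zeroIdx] at h0
          change ψ (φ (mk (C (X (i, zeroIdx n d))))) = mk (C (X (i, zeroIdx n d)))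
          rw [show φ (mk (C (X (i, zeroIdx n d)))) = -rest n d i by simp [φ, mk, elim, coeffMap]]
          rw [map_neg, neg_eq_iff_add_eq_zero, add_comm]
          refine Eq.trans ?_ h0
          refine congrArg₂ (· + ·) rfl ?_
          rw [rest, map_sum]
          refine Finset.sum_congr rfl fun E _ => ?_
          rw [monomial_eq, map_mul, map_mul]
          congr 1
          · simp [ψ]
          · rw [map_finsuppProd, map_finsuppProd]
            simp [ψ]
        · simp [ψ, φ, mk, elim, coeffMap, hE]
      exact RingHom.congr_fun hc r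
    · simp [ψ, φ, elim, mk]
  exact ⟨RingEquiv.ofRingHom φ ψ h1 h2⟩

end Groth.Agent.Synt44.Univ
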