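import Groth.Agent.Synt44.RelGCINhd

/-!
# Lifting relative global complete intersections from a quotient of the base
-/

set_option autoImplicit false

universe u

open MvPolynomial TensorProduct

namespace Groth.Agent.Synt44

variable {R : Type u} [CommRing R] {n c : ℕ} (F : Fin c → MvPolynomial (Fin n) R)

theorem ringKrullDim_fibre_le_of_quotient (I : Ideal R)
    (hI : Synt.IsRelGCI (R ⧸ I) n c (fun i => MvPolynomial.map (Ideal.Quotient.mk I) (F i)))
    (p : Ideal R) [p.IsPrime] (hIp : I ≤ p) [Nontrivial (p.Fiber (Synt.RelGCIRing R n c F))] :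
    c ≤ n ∧ ringKrullDim (p.Fiber (Synt.RelGCIRing R n c F)) = ((n - c : ℕ) : WithBot ℕ∞) := by
  let pb : Ideal (R ⧸ I) := p.map (Ideal.Quotient.mk I)
  haveI hpb : pb.IsPrime := Ideal.map_isPrime_of_surjective Ideal.Quotient.mk_surjective (by rwa [Ideal.mk_ker])
  have hmem : ∀ r : R, Ideal.Quotient.mk I r ∈ pb ↔ r ∈ p := fun r => by
    rw [← Ideal.mem_comap, Ideal.comap_map_of_surjective' _ Ideal.Quotient.mk_surjective, Ideal.mk_ker,
      sup_eq_left.2 hIp]
  let K := p.ResidueField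
  let K' := pb.ResidueField
  let θ : K →+* K' := Ideal.ResidueField.lift p ((algebraMap (R ⧸ I) K').comp (Ideal.Quotient.mk I))
    (fun r hr => Ideal.algebraMap_residueField_eq_zero.2 ((hmem r).2 hr))
    (fun r hr => isUnit_iff_ne_zero.2 fun h0 => hr ((hmem r).1 (Ideal.algebraMap_residueField_eq_zero.1 h0)))
  have hθ : ∀ r, θ (algebraMap R K r) = algebraMap (R ⧸ I) K' (Ideal.Quotient.mk I r) := fun r =>
    Ideal.ResidueField.lift_algebraMap _ _ _ _ r
  have hθb : Function.Bijective θ := by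
    refine ⟨θ.injective, fun e => ?_⟩
    obtain ⟨a, ha, b, hab⟩ := exists_residue pb e
    obtain ⟨a, rfl⟩ := Ideal.Quotient.mk_surjective a
    obtain ⟨b, rfl⟩ := Ideal.Quotient.mk_surjective b
    have ha0 : algebraMap R K a ≠ 0 := fun h0 => ha ((hmem a).2 (Ideal.algebraMap_residueField_eq_zero.1 h0))
    refine ⟨(algebraMap R K a)⁻¹ * algebraMap R K b, ?_⟩
    rw [map_mul, map_inv₀, hθ, hθ, ← hab, inv_mul_cancel_left₀ ((hθ a) ▸ (map_ne_zero θ).2 ha0)]
  let ε : MvPolynomial (Fin n) K ≃+* MvPolynomial (Fin n) K' := MvPolynomial.mapEquiv _ (RingEquiv.ofBijective θ hθb)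
  obtain ⟨e₁⟩ := RelGCI.nonempty_fiberEquiv F p
  obtain ⟨e₂⟩ := RelGCI.nonempty_fiberEquiv (fun i => MvPolynomial.map (Ideal.Quotient.mk I) (F i)) pb
  let e₃ := Ideal.quotientEquiv (Ideal.span (Set.range fun i => MvPolynomial.map (algebraMap R K) (F i)))
    (Ideal.span (Set.range fun i => MvPolynomial.map (algebraMap (R ⧸ I) K') (MvPolynomial.map (Ideal.Quotient.mk I) (F i))))
    ε (by
      refine Eq.symm ((Ideal.map_span _ _).trans ?_)
      rw [← Set.range_comp]
      congr 2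
      funext i
      change MvPolynomial.map θ (MvPolynomial.map (algebraMap R K) (F i)) = _
      rw [MvPolynomial.map_map, MvPolynomial.map_map]
      congr 2
      exact RingHom.ext hθ)
  haveI := ((e₁.toRingEquiv.trans e₃).trans e₂.symm.toRingEquiv).toEquiv.symm.nontrivial
  obtain ⟨hc, hd⟩ := hI ⟨pb, hpb⟩ inferInstance
  exact ⟨hc, (ringKrullDim_eq_of_ringEquiv ((e₁.toRingEquiv.trans e₃).trans e₂.symm.toRingEquiv)).trans hd⟩

theorem exists_relGCI_of_quotient (I : Ideal R)
    (hI : Synt.IsRelGCI (R ⧸ I) n c (fun i => MvPolynomial.map (Ideal.Quotient.mk I) (F i))) :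
    ∃ h : MvPolynomial (Fin n) R,
      Ideal.Quotient.mk (I.map (algebraMap R (Synt.RelGCIRing R n c F)))
        (Ideal.Quotient.mk (Ideal.span (Set.range F)) h) = 1 ∧
      Synt.IsRelGCI R (n + 1) (c + 1)
        (Fin.snoc (fun i => rename Fin.castSucc (F i)) (rename Fin.castSucc h * X (Fin.last n) - 1)) ∧
      Nonempty (Localization.Away (Ideal.Quotient.mk (Ideal.span (Set.range F)) h) ≃ₐ[R]
        Synt.RelGCIRing R (n + 1) (c + 1)
          (Fin.snoc (fun i => rename Fin.castSucc (F i)) (rename Fin.castSucc h * X (Fin.last n) - 1))) := by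
  let S := Synt.RelGCIRing R n c F
  let IS := I.map (algebraMap R S)
  have hfib : ∀ q : PrimeSpectrum S, IS ≤ q.asIdeal →
      I ≤ q.asIdeal.under R ∧ Nontrivial ((q.asIdeal.under R).Fiber S) := fun q hq =>
    ⟨Ideal.map_le_iff_le_comap.1 hq, RelGCI.nontrivial_fiber q.asIdeal⟩
  by_cases hcn : c ≤ n
  · obtain ⟨g, hg1, hg⟩ := exists_mem_sub_one (RelDim.isOpen_dimLeSet R S (n - c)) IS (fun q hq => by
      obtain ⟨h1, h2⟩ := hfib q hq
      haveI := h2
      intro Q _
      have hd := (ringKrullDim_fibre_le_of_quotient F I hI _ h1).2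
      exact le_trans (localDim_le_ringKrullDim (F := (q.asIdeal.under R).Fiber S) Q) hd.le)
    obtain ⟨h, rfl⟩ := Ideal.Quotient.mk_surjective g
    refine ⟨h, ?_, isRelGCI_of_away_le hcn F h
      (fun p' _ => ringKrullDim_fibre_away_le_of_subset _ hg p'), nonempty_snocEquiv F h⟩
    rw [← map_one (Ideal.Quotient.mk IS)]
    exact Ideal.Quotient.eq.2 hg1
  · refine ⟨0, ?_, isRelGCI_zero_away F, nonempty_snocEquiv F 0⟩
    have htop : IS = ⊤ := by
      by_contra hne
      obtain ⟨M, hM, hle⟩ := Ideal.exists_le_maximal _ hne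
      obtain ⟨h1, h2⟩ := hfib ⟨M, hM.isPrime⟩ hle
      exact hcn (ringKrullDim_fibre_le_of_quotient F I hI _ h1).1
    haveI : Subsingleton (S ⧸ IS) := Ideal.Quotient.subsingleton_iff.2 htop
    exact Subsingleton.elim _ _

end Groth.Agent.Synt44
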