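import Groth.Agent.Synt44.RelGCINhd
import Groth.Agent.Omega.SmoothFibreDim

/-!
# Local dimensions of the fibres of relative global complete intersections
-/

set_option autoImplicit false

universe u

open MvPolynomial TensorProduct

namespace Groth.Agent.Synt44

/-- Every local dimension of a quotient of affine `n`-space by `c` equations is at least `n - c`. -/
theorem le_localDim_quotient {K : Type u} [Field K] {n c : ℕ} (F : Fin c → MvPolynomial (Fin n) K)
    (P : PrimeSpectrum (MvPolynomial (Fin n) K ⧸ Ideal.span (Set.range F))) :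
    ((n - c : ℕ) : WithBot ℕ∞) ≤
      FlatMor.localDim (PrimeSpectrum (MvPolynomial (Fin n) K ⧸ Ideal.span (Set.range F))) P := by
  rw [CAlgLib.LocalDimSpec.localDim_eq K P.asIdeal]
  obtain ⟨q, hq, hqP⟩ := Ideal.exists_minimalPrimes_le (I := (⊥ : Ideal (MvPolynomial (Fin n) K ⧸ Ideal.span (Set.range F))))
    (J := P.asIdeal) bot_le
  refine le_trans ?_ (le_iSup (fun q : CAlgLib.LocalDimSpec.Mins P.asIdeal => ringKrullDim (_ ⧸ q.1)) ⟨q, hq, hqP⟩)
  haveI : q.IsPrime := hq.1.1
  set mk := Ideal.Quotient.mk (Ideal.span (Set.range F))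
  let Q := q.comap mk
  have hQ : Q ∈ (Ideal.span (Set.range F)).minimalPrimes := by
    rw [Ideal.minimalPrimes_eq_comap]
    exact ⟨q, hq, rfl⟩
  have hh := (Ideal.height_le_card_of_mem_minimalPrimes_span (Set.finite_range F) hQ)
  have hc : (Set.range F).ncard ≤ c := by
    rw [← Set.image_univ]
    exact (Set.ncard_image_le Set.finite_univ).trans (by simp)
  have h2 := VarDim.ringKrullDim_quotient_add_height K (MvPolynomial (Fin n) K) Q
  have hdimA : ringKrullDim (MvPolynomial (Fin n) K) = (n : WithBot ℕ∞) := by simp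
  rw [hdimA] at h2
  rw [ringKrullDim_eq_of_ringEquiv ((Ideal.quotEquivOfEq (show Q = RingHom.ker ((Ideal.Quotient.mk q).comp mk) by
      rw [← RingHom.comap_ker, Ideal.mk_ker])).trans
    (RingHom.quotientKerEquivOfSurjective (f := (Ideal.Quotient.mk q).comp mk)
      (Ideal.Quotient.mk_surjective.comp Ideal.Quotient.mk_surjective))).symm]
  haveI : Nontrivial (MvPolynomial (Fin n) K ⧸ Q) := Ideal.Quotient.nontrivial_iff.2 (Ideal.IsPrime.ne_top inferInstance)
  obtain ⟨d, hd, -⟩ := VarDim.exists_ringKrullDim_eq_trdeg K (MvPolynomial (Fin n) K ⧸ Q)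
  rw [hd] at h2 ⊢
  have h3 : ((d + Q.height : ℕ∞) : WithBot ℕ∞) = ((n : ℕ∞) : WithBot ℕ∞) := by push_cast; exact h2
  have h4 : (n : ℕ∞) ≤ d + c := (WithBot.coe_eq_coe.1 h3).symm.le.trans
    (add_le_add le_rfl (hh.trans (by exact_mod_cast hc)))
  have h5 : n ≤ d + c := by exact_mod_cast h4
  exact_mod_cast (by omega : n - c ≤ d)

/-- The fibre of a relative global complete intersection has local dimension `n - c` everywhere. -/
theorem localDim_fiber_eq {R : Type u} [CommRing R] {n c : ℕ} {F : Fin c → MvPolynomial (Fin n) R}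
    (hF : Synt.IsRelGCI R n c F) (p : Ideal R) [p.IsPrime]
    (P : PrimeSpectrum (p.Fiber (Synt.RelGCIRing R n c F))) :
    FlatMor.localDim (PrimeSpectrum (p.Fiber (Synt.RelGCIRing R n c F))) P = ((n - c : ℕ) : WithBot ℕ∞) := by
  haveI : Nontrivial (p.Fiber (Synt.RelGCIRing R n c F)) := PrimeSpectrum.nontrivial P
  refine le_antisymm (le_trans (localDim_le_ringKrullDim (F := p.Fiber (Synt.RelGCIRing R n c F)) P)
    (hF ⟨p, inferInstance⟩ inferInstance).2.le) ?_
  obtain ⟨e⟩ := RelGCI.nonempty_fiberEquiv F p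
  let H := PrimeSpectrum.homeomorphOfRingEquiv (R := p.Fiber (Synt.RelGCIRing R n c F)) e.toRingEquiv
  exact (le_localDim_quotient _ (H P)).trans (FlatMisc.FibreDimScheme.localDim_homeo H P)

end Groth.Agent.Synt44
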