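import Groth.Agent.Synt44.RelGCINhd
import Groth.Agent.RelGCI.Main
import Groth.Agent.LeftInv.Basic
import Mathlib.RingTheory.Smooth.Locus
import Mathlib.RingTheory.Smooth.StandardSmoothCotangent
import Mathlib.RingTheory.Extension.Presentation.Submersive

/-!
# The Jacobian criterion for relative global complete intersections
-/

set_option autoImplicit false

universe u

open MvPolynomial TensorProduct

namespace Groth.Agent.Synt44

variable {R : Type u} [CommRing R] {n c : ℕ}

theorem kaehler_D_eq_sum_pderiv (f : MvPolynomial (Fin n) R) :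
    KaehlerDifferential.D R (MvPolynomial (Fin n) R) f =
      ∑ i, pderiv i f • KaehlerDifferential.D R (MvPolynomial (Fin n) R) (X i) := by
  conv_lhs => rw [← (KaehlerDifferential.mvPolynomialBasis R (Fin n)).sum_repr (KaehlerDifferential.D R _ f)]
  refine Finset.sum_congr rfl fun i _ => ?_
  rw [KaehlerDifferential.mvPolynomialBasis_repr_D]
  congr 1
  · exact MvPolynomial.mkDerivation_monomial_eq_pderiv f i
  · exact (KaehlerDifferential.mvPolynomialBasis R (Fin n)).repr.injective (by
      rw [Module.Basis.repr_self, KaehlerDifferential.mvPolynomialBasis_repr_D_X])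
where
  MvPolynomial.mkDerivation_monomial_eq_pderiv (f : MvPolynomial (Fin n) R) (i : Fin n) :
      MvPolynomial.mkDerivation R (fun j => Finsupp.single j (1 : MvPolynomial (Fin n) R)) f i = pderiv i f := by
    induction f using MvPolynomial.induction_on with
    | C a => simp
    | add p q hp hq => simp [hp, hq]
    | mul_X p j hp =>
      simp [Derivation.leibniz, hp, Finsupp.single_apply, pderiv_X, Pi.single_apply, eq_comm]

/-- A formally smooth quotient by a quasi-regular sequence has a right invertible Jacobian. -/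
theorem exists_jacobian_right_inverse (F : Fin c → MvPolynomial (Fin n) R) (hF : CAlgX.IsQuasiRegular F)
    (hs : Algebra.FormallySmooth R (Synt.RelGCIRing R n c F)) :
    ∃ a : Fin n → Fin c → MvPolynomial (Fin n) R, ∀ j k,
      ∑ i, pderiv i (F j) * a i k - (if j = k then 1 else 0) ∈ Ideal.span (Set.range F) := by
  classical
  obtain ⟨l, hl⟩ := (Algebra.FormallySmooth.iff_split_injection (P := MvPolynomial (Fin n) R)
    (A := Synt.RelGCIRing R n c F) Ideal.Quotient.mk_surjective).1 hs
  let J := RingHom.ker (algebraMap (MvPolynomial (Fin n) R) (Synt.RelGCIRing R n c F))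
  have hJe : J = Ideal.span (Set.range F) := Ideal.mk_ker
  choose y hy using fun i => J.toCotangent_surjective (l ((1 : Synt.RelGCIRing R n c F) ⊗ₜ KaehlerDifferential.D R _ (X i)))
  choose a ha using fun i => Ideal.mem_span_range_iff_exists_fun.1 (show (y i : MvPolynomial (Fin n) R) ∈ Ideal.span (Set.range F) from hJe ▸ (y i).2)
  refine ⟨a, fun j k => ?_⟩
  let Fj : J := ⟨F j, hJe ▸ Ideal.subset_span (Set.mem_range_self j)⟩
  have h1 : J.toCotangent (∑ i, pderiv i (F j) • y i) = J.toCotangent Fj := by
    have h2 := LinearMap.congr_fun hl (J.toCotangent Fj)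
    rw [LinearMap.comp_apply, LinearMap.id_apply] at h2
    rw [← h2, map_sum]
    change _ = l ((1 : Synt.RelGCIRing R n c F) ⊗ₜ KaehlerDifferential.D R _ (F j))
    rw [kaehler_D_eq_sum_pderiv, TensorProduct.tmul_sum, map_sum]
    refine Finset.sum_congr rfl fun i _ => ?_
    rw [map_smul, hy, TensorProduct.tmul_smul, map_smul]
  have h3 := (Ideal.toCotangent_eq J).1 h1
  replace h3 := (congrArg (fun K : Ideal (MvPolynomial (Fin n) R) => K ^ 2) hJe).le h3
  have h4 : ∑ k, (∑ i, pderiv i (F j) * a i k - (if j = k then 1 else 0)) * F k ∈ Ideal.span (Set.range F) ^ 2 := by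
    convert h3 using 1
    simp only [sub_mul, Finset.sum_sub_distrib, ite_mul, one_mul, zero_mul, Finset.sum_ite_eq,
      Finset.mem_univ, if_true, Finset.sum_mul, Fj]
    rw [Finset.sum_comm]
    congr 1
    rw [AddSubmonoidClass.coe_finset_sum]
    refine Finset.sum_congr rfl fun i _ => ?_
    rw [SetLike.val_smul, smul_eq_mul, ← ha i, Finset.mul_sum]
    exact Finset.sum_congr rfl fun k _ => mul_assoc _ _ _
  exact KReg44.coeff_of_isQuasiRegular hF h4 k

theorem ringKrullDim_away_le {A : Type u} [CommRing A] (g : A) :
    ringKrullDim (Localization.Away g) ≤ ringKrullDim A :=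
  Order.krullDim_le_of_strictMono (PrimeSpectrum.comap (algebraMap A (Localization.Away g)))
    (Monotone.strictMono_of_injective (fun _ _ hab => Ideal.comap_mono hab)
      (PrimeSpectrum.localization_comap_injective (Localization.Away g) (Submonoid.powers g)))

theorem exists_minor_notMem (F : Fin c → MvPolynomial (Fin n) R) (hF : Synt.IsRelGCI R n c F)
    (q : Ideal (Synt.RelGCIRing R n c F)) [q.IsPrime] [Algebra.IsSmoothAt R q] :
    ∃ I : Fin c ↪ Fin n, Ideal.Quotient.mk (Ideal.span (Set.range F))
        (Matrix.det (Matrix.of fun j i => MvPolynomial.pderiv (I i) (F j))) ∉ q := by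
  classical
  let S := Synt.RelGCIRing R n c F
  haveI : Algebra.FinitePresentation R S :=
    Algebra.FinitePresentation.quotient (Submodule.fg_span (Set.finite_range F))
  obtain ⟨g, hg, hsm⟩ := Algebra.IsSmoothAt.exists_notMem_smooth (R := R) (A := S) q
  obtain ⟨h, rfl⟩ := Ideal.Quotient.mk_surjective g
  have hcn := RelGCI.le_of_prime hF q
  let F' : Fin (c + 1) → MvPolynomial (Fin (n + 1)) R :=
    Fin.snoc (fun i => rename Fin.castSucc (F i)) (rename Fin.castSucc h * X (Fin.last n) - 1)
  have hF' : Synt.IsRelGCI R (n + 1) (c + 1) F' := isRelGCI_of_away_le hcn F h fun p _ => by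
    refine (ringKrullDim_away_le (A := p.Fiber S) _).trans ?_
    rcases subsingleton_or_nontrivial (p.Fiber S) with hs | hs
    · rw [ringKrullDim_eq_bot_of_subsingleton]
      exact bot_le
    · exact (hF ⟨p, inferInstance⟩ hs).2.le
  obtain ⟨e⟩ := nonempty_snocEquiv F h
  haveI : Algebra.FormallySmooth R (Localization.Away (Ideal.Quotient.mk (Ideal.span (Set.range F)) h)) :=
    hsm.formallySmooth
  haveI hs' : Algebra.FormallySmooth R (Synt.RelGCIRing R (n + 1) (c + 1) F') := Algebra.FormallySmooth.of_equiv e
  obtain ⟨a, ha⟩ := exists_jacobian_right_inverse F' (KReg44.isQuasiRegular F' (RelGCI.isKoszulRegularSeq hF')) hs'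
  -- evaluation at `q`
  let K := q.ResidueField
  let mk := Ideal.Quotient.mk (Ideal.span (Set.range F))
  let hK : K := algebraMap S K (mk h)
  have hh : hK ≠ 0 := fun h0 => hg (Ideal.algebraMap_residueField_eq_zero.1 h0)
  let φ : MvPolynomial (Fin (n + 1)) R →ₐ[R] K :=
    aeval (Fin.snoc (fun i => algebraMap S K (mk (X i))) hK⁻¹)
  have hφ : ∀ P : MvPolynomial (Fin n) R, φ (rename Fin.castSucc P) = algebraMap S K (mk P) := by
    intro P
    have : φ.comp (rename Fin.castSucc) = (IsScalarTower.toAlgHom R S K).comp (Ideal.Quotient.mkₐ R _) :=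
      MvPolynomial.algHom_ext fun i => by simp [φ, mk]; rfl
    exact AlgHom.congr_fun this P
  have hφJ : ∀ x ∈ Ideal.span (Set.range F'), φ x = 0 := fun x hx => by
    have h0 : Ideal.span (Set.range F') ≤ RingHom.ker φ := Ideal.span_le.2 (by
      rintro _ ⟨i, rfl⟩
      induction i using Fin.lastCases with
      | last =>
        change φ (F' (Fin.last c)) = 0
        simp only [F', Fin.snoc_last]
        rw [map_sub, map_mul, hφ, map_one, show φ (X (Fin.last n)) = hK⁻¹ by simp [φ]]
        exact sub_eq_zero.2 (mul_inv_cancel₀ hh)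
      | cast i =>
        change φ (F' i.castSucc) = 0
        simp only [F', Fin.snoc_castSucc]
        rw [hφ, show mk (F i) = 0 from Ideal.Quotient.eq_zero_iff_mem.2 (Ideal.subset_span (Set.mem_range_self i)),
          map_zero])
    exact h0 hx
  let v : Fin c → (Fin n →₀ S) := fun j => Finsupp.equivFunOnFinite.symm fun i => mk (pderiv i (F j))
  have hJL : ∀ j k : Fin c, ∑ i : Fin n, algebraMap S K (mk (pderiv i (F j))) * φ (a i.castSucc k.castSucc) =
      if j = k then 1 else 0 := fun j k => by
    have h1 := hφJ _ (ha j.castSucc k.castSucc)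
    have h2 : pderiv (Fin.last n) (F' j.castSucc) = 0 := by
      simp only [F', Fin.snoc_castSucc]
      refine MvPolynomial.pderiv_eq_zero_of_notMem_vars fun hmem => ?_
      obtain ⟨i, -, hi⟩ := Finset.mem_image.1 (MvPolynomial.vars_rename _ _ hmem)
      exact (Fin.castSucc_lt_last i).ne hi
    rw [map_sub, map_sum, Fin.sum_univ_castSucc, h2, zero_mul, map_zero, add_zero, sub_eq_zero] at h1
    rw [show (if j = k then (1 : K) else 0) = φ (if j.castSucc = k.castSucc then 1 else 0) by
      rw [apply_ite φ, map_one, map_zero]; simp [Fin.castSucc_inj], ← h1]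
    refine Finset.sum_congr rfl fun i _ => ?_
    rw [map_mul]
    congr 1
    simp only [F', Fin.snoc_castSucc]
    rw [MvPolynomial.pderiv_rename (Fin.castSucc_injective n), hφ]
  have hv : LinearIndependent K fun j => (v j).mapRange (algebraMap S K) (map_zero _) := by
    rw [Fintype.linearIndependent_iff]
    intro b hb k
    have h1 : ∑ i : Fin n, (∑ j, b j * algebraMap S K (mk (pderiv i (F j)))) * φ (a i.castSucc k.castSucc) = 0 :=
      Finset.sum_eq_zero fun i _ => by
        have h := DFunLike.congr_fun hb i
        simp [v] at h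
        rw [h, zero_mul]
    have h2 : ∑ j, b j * ∑ i : Fin n, algebraMap S K (mk (pderiv i (F j))) * φ (a i.castSucc k.castSucc) = 0 := by
      refine Eq.trans ?_ h1
      rw [Finset.sum_congr rfl fun j _ => Finset.mul_sum _ _ _, Finset.sum_comm]
      refine Finset.sum_congr rfl fun i _ => ?_
      refine (Finset.sum_congr rfl fun j _ => (mul_assoc _ _ _).symm).trans (Finset.sum_mul _ _ _).symm
    rw [Finset.sum_congr rfl fun j _ => congrArg (b j * ·) (hJL j k)] at h2
    simpa using h2
  obtain ⟨I, hI⟩ := LeftInv.Basic.exists_minor v hv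
  have hinj : Function.Injective I := fun i i' hii => by
    by_contra hne
    exact hI (by rw [Matrix.det_zero_of_row_eq hne (funext fun r => by simp [hii]), map_zero])
  refine ⟨⟨I, hinj⟩, fun hmem => hI (Ideal.algebraMap_residueField_eq_zero.2 ?_)⟩
  rw [RingHom.map_det, ← Matrix.det_transpose] at hmem
  convert hmem using 3
  ext i j
  simp [v, mk]

theorem isSmoothAt_of_minor (F : Fin c → MvPolynomial (Fin n) R)
    (q : Ideal (Synt.RelGCIRing R n c F)) [q.IsPrime] (I : Fin c ↪ Fin n)
    (hI : Ideal.Quotient.mk (Ideal.span (Set.range F))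
        (Matrix.det (Matrix.of fun j i => MvPolynomial.pderiv (I i) (F j))) ∉ q) :
    Algebra.IsSmoothAt R q := by
  classical
  haveI : Algebra.FinitePresentation R (Synt.RelGCIRing R n c F) :=
    Algebra.FinitePresentation.quotient (Submodule.fg_span (Set.finite_range F))
  let P : Algebra.PreSubmersivePresentation R (Synt.RelGCIRing R n c F) (Fin n) (Fin c) :=
    Algebra.PreSubmersivePresentation.naive (v := F) I I.injective
  have hP : P.jacobian = Ideal.Quotient.mk (Ideal.span (Set.range F))
        (Matrix.det (Matrix.of fun j i => MvPolynomial.pderiv (I i) (F j))) := by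
    rw [P.jacobian_eq_jacobiMatrix_det]
    have : P.jacobiMatrix = (Matrix.of fun j i => MvPolynomial.pderiv (I i) (F j)).transpose := by
      ext i j
      rw [P.jacobiMatrix_apply]
      rfl
    rw [this, Matrix.det_transpose]
    rfl
  rw [← hP] at hI
  let Q := Algebra.SubmersivePresentation.localizationAway (Localization.Away P.jacobian) P.jacobian
  let T : Algebra.SubmersivePresentation R (Localization.Away P.jacobian) (Unit ⊕ Fin n) (Unit ⊕ Fin c) :=
    { Q.toPreSubmersivePresentation.comp P with
      jacobian_isUnit := by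
        rw [Algebra.PreSubmersivePresentation.comp_jacobian_eq_jacobian_smul_jacobian, Algebra.smul_def]
        exact (IsLocalization.map_units (Localization.Away P.jacobian)
          (⟨P.jacobian, 1, by simp⟩ : Submonoid.powers P.jacobian)).mul Q.jacobian_isUnit }
  haveI := T.isStandardSmooth
  exact Algebra.basicOpen_subset_smoothLocus_iff.2 (inferInstance : Algebra.FormallySmooth R (Localization.Away P.jacobian))
    (show (⟨q, inferInstance⟩ : PrimeSpectrum _) ∈ PrimeSpectrum.basicOpen P.jacobian from hI)

end Groth.Agent.Synt44
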