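import Groth.Agent.Synt44.NLTorDim
import Groth.Agent.DRing.TorAmpGE
import Groth.Agent.RegLoc.PD
import Groth.Agent.RegLoc.Homological
import Mathlib.RingTheory.IsTensorProduct

/-!
# Finite tor dimension of the diagonal gives regular geometric points
-/

set_option autoImplicit false

universe u

open TensorProduct CategoryTheory

attribute [local instance] HasDerivedCategory.standard

namespace Groth.Agent.Synt44.DiagTor

open Groth.Agent.FlatMor.PC Groth.Agent.DRing.TorAmpGE

theorem baseChange_injective {B R K R' X F M : Type u} [CommRing B] [CommRing R]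
    [CommRing K] [CommRing R'] [Algebra B R] [Algebra B K] [Algebra R R'] [Algebra K R']
    [Algebra B R'] [IsScalarTower B R R'] [IsScalarTower B K R'] [Algebra.IsPushout B K R R']
    [AddCommGroup X] [Module R X] [Module B X] [IsScalarTower B R X]
    [AddCommGroup F] [Module R F] [Module B F] [IsScalarTower B R F]
    [AddCommGroup M] [Module R M] [Module B M] [IsScalarTower B R M] [Module.Flat B M]
    (i : X →ₗ[R] F) (f : F →ₗ[R] M) (hi : Function.Injective i) (hf : Function.Surjective f)
    (hex : Function.Exact i f) : Function.Injective (i.baseChange R') := by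
  have hinjK : Function.Injective ((i.restrictScalars B).lTensor K) :=
    LinearMap.lTensor_injective_of_exact_of_flat (f.restrictScalars B) hf (i.restrictScalars B) hi hex K
  let eX := Algebra.IsPushout.cancelBaseChange B K R R' X
  let eF := Algebra.IsPushout.cancelBaseChange B K R R' F
  have key : ∀ y : K ⊗[B] X, i.baseChange R' (eX.symm y) =
      eF.symm ((i.restrictScalars B).lTensor K y) := by
    intro y
    induction y using TensorProduct.induction_on with
    | zero => simp
    | tmul s m => simp [eX, eF]
    | add x y hx hy => simp only [map_add, hx, hy]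
  intro x y hxy
  obtain ⟨x, rfl⟩ := eX.symm.surjective x
  obtain ⟨y, rfl⟩ := eX.symm.surjective y
  rw [key, key] at hxy
  exact congrArg eX.symm (hinjK (eF.symm.injective hxy))

theorem hasTorDimLE_baseChange_of_flat_base {B R K R' : Type u} [CommRing B] [CommRing R]
    [CommRing K] [CommRing R'] [Algebra B R] [Algebra B K] [Algebra R R'] [Algebra K R']
    [Algebra B R'] [IsScalarTower B R R'] [IsScalarTower B K R'] [Algebra.IsPushout B K R R']
    [Module.Flat B R] (d : ℕ) :
    ∀ (M : Type u) [AddCommGroup M] [Module R M] [Module B M] [IsScalarTower B R M]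
      [Module.Flat B M], DRing.HasTorDimLE R d M → DRing.HasTorDimLE R' d (R' ⊗[R] M) := by
  induction d with
  | zero =>
    intro M _ _ _ _ _ h
    haveI : Module.Flat R M := (DRing.TorBalance.hasTorDimLE_zero_iff M).1 h
    exact (DRing.TorBalance.hasTorDimLE_zero_iff _).2 inferInstance
  | succ d ih =>
    intro M _ _ _ _ _ h
    obtain ⟨f, hf⟩ : ∃ f : (M →₀ R) →ₗ[R] M, Function.Surjective f :=
      ⟨_, Finsupp.linearCombination_id_surjective R M⟩
    haveI : Module.Flat B (M →₀ R) := Module.Flat.trans B R (M →₀ R)
    haveI : Module.Flat B (LinearMap.ker f) := by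
      haveI : Module.Flat B ((M →₀ R) ⧸ LinearMap.ker (f.restrictScalars B)) :=
        Module.Flat.of_linearEquiv ((f.restrictScalars B).quotKerEquivOfSurjective hf)
      haveI := flat_sub (LinearMap.ker (f.restrictScalars B))
      exact Module.Flat.of_linearEquiv (M := LinearMap.ker (f.restrictScalars B))
        ({ toFun := fun x => ⟨x.1, x.2⟩
           invFun := fun x => ⟨x.1, x.2⟩
           left_inv := fun _ => rfl
           right_inv := fun _ => rfl
           map_add' := fun _ _ => rfl
           map_smul' := fun _ _ => rfl } :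
          (LinearMap.ker f) ≃ₗ[B] LinearMap.ker (f.restrictScalars B))
    have hinj : Function.Injective ((LinearMap.ker f).subtype.baseChange R') := by
      let gX : AddCommGroup (LinearMap.ker f) := Submodule.addCommGroup _
      let gF : AddCommGroup (M →₀ R) := inferInstance
      have t1 := @baseChange_injective B R K R' (LinearMap.ker f) (M →₀ R) M _ _ _ _ _ _ _ _ _ _ _ _ gX
      have t2 := @t1 _ _ _ gF
      have t3 := @t2 _ _ _ _ _ _ _ _
      exact t3 (LinearMap.ker f).subtype f (LinearMap.ker f).injective_subtype hf
        (LinearMap.exact_subtype_ker_map f)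
    have h1 := (hasTorDimLE_ker_iff f hf d).2 h
    have h2 := ih (LinearMap.ker f) h1
    have h3 := RegLoc.PD.kerBaseChangeEquiv R' f hf hinj
    have h4 := hasTorDimLE_congr (N := (LinearMap.baseChange R' f).ker) h3 h2
    have h5 := hasTorDimLE_ker_iff (f.baseChange R') (RegLoc.PD.baseChange_surjective R' f hf) d
    exact h5.1 h4

theorem hasTorDimLE_point {B R K R' : Type u} [CommRing B] [CommRing R]
    [CommRing K] [CommRing R'] [Algebra B R] [Algebra B K] [Algebra R R'] [Algebra K R']
    [Algebra B R'] [IsScalarTower B R R'] [IsScalarTower B K R'] [Algebra.IsPushout B K R R']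
    [Module.Flat B R] [Algebra R B] [IsScalarTower B R B] [Algebra R' K]
    (hsec : ∀ s : K, algebraMap R' K (algebraMap K R' s) = s)
    (hcomm : ∀ r : R, algebraMap B K (algebraMap R B r) = algebraMap R' K (algebraMap R R' r))
    (d : ℕ) (hd : DRing.HasTorDimLE R d B) : DRing.HasTorDimLE R' d K := by
  have h1 := hasTorDimLE_baseChange_of_flat_base (B := B) (R := R) (K := K) (R' := R') d B hd
  letI : Algebra R K := ((algebraMap R' K).comp (algebraMap R R')).toAlgebra
  haveI : IsScalarTower R R' K := IsScalarTower.of_algebraMap_eq fun _ => rfl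
  let g : B →ₗ[R] K :=
    { toFun := algebraMap B K
      map_add' := map_add _
      map_smul' := fun r b => by
        simp only [Algebra.smul_def, map_mul, RingHom.id_apply, hcomm]
        rfl }
  let Λ : R' ⊗[R] B →ₗ[R'] K := LinearMap.liftBaseChange R' g
  let eX := Algebra.IsPushout.cancelBaseChange B K R R' B
  have hΛ : ∀ y : K ⊗[B] B, Λ (eX.symm y) = TensorProduct.rid B K y := by
    intro y
    induction y using TensorProduct.induction_on with
    | zero => simp
    | tmul s b =>
      rw [Algebra.IsPushout.cancelBaseChange_symm_tmul, LinearMap.liftBaseChange_tmul,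
        TensorProduct.rid_tmul, Algebra.smul_def, Algebra.smul_def, hsec, mul_comm]
      rfl
    | add x y hx hy => simp only [map_add, hx, hy]
  have hbij : Function.Bijective Λ := by
    have : (fun y => Λ (eX.symm y)) = TensorProduct.rid B K := funext hΛ
    have h2 : Function.Bijective (Λ ∘ eX.symm) := by
      rw [show (Λ ∘ eX.symm : K ⊗[B] B → K) = TensorProduct.rid B K from this]
      exact (TensorProduct.rid B K).bijective
    exact (Function.Bijective.of_comp_iff Λ eX.symm.bijective).1 h2
  exact hasTorDimLE_congr (LinearEquiv.ofBijective Λ hbij) h1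

variable {A B : Type u} [CommRing A] [CommRing B] [Algebra A B]

/-- A point of a flat algebra with perfect diagonal has finite tor dimension. -/
theorem finTorDim_point [Module.Flat A B] [Algebra (B ⊗[A] B) B]
    (hmul : ∀ x y : B, algebraMap (B ⊗[A] B) B (x ⊗ₜ[A] y) = x * y)
    (h : DRing.HasFiniteTorDim (B ⊗[A] B) B) (K : Type u) [CommRing K] [Algebra A K]
    (φ : B →ₐ[A] K) [Algebra (K ⊗[A] B) K]
    (hπ : ∀ k b, algebraMap (K ⊗[A] B) K (k ⊗ₜ[A] b) = k * φ b) :
    DRing.HasFiniteTorDim (K ⊗[A] B) K := by
  obtain ⟨d, hd⟩ := h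
  refine ⟨d, ?_⟩
  letI : Algebra B K := φ.toRingHom.toAlgebra
  haveI : IsScalarTower A B K := IsScalarTower.of_algebraMap_eq fun a => (φ.commutes a).symm
  let R := B ⊗[A] B
  let R' := K ⊗[A] B
  haveI : IsScalarTower B R B := IsScalarTower.of_algebraMap_eq fun b => by
    rw [Algebra.TensorProduct.algebraMap_apply, hmul]
    simp
  letI : Algebra R R' := (Algebra.TensorProduct.map φ (AlgHom.id A B)).toRingHom.toAlgebra
  haveI : IsScalarTower B R R' := IsScalarTower.of_algebraMap_eq fun b => by
    change φ b ⊗ₜ[A] (1 : B) = Algebra.TensorProduct.map φ (AlgHom.id A B) (b ⊗ₜ[A] 1)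
    simp
  haveI : Algebra.IsPushout B K R R' := by
    refine ⟨IsBaseChange.of_equiv (TensorProduct.AlgebraTensorModule.cancelBaseChange A B K K B) ?_⟩
    intro x
    induction x using TensorProduct.induction_on with
    | zero => simp
    | tmul x y =>
      change _ = φ x ⊗ₜ[A] y
      rw [TensorProduct.AlgebraTensorModule.cancelBaseChange_tmul, Algebra.smul_def, mul_one]
      rfl
    | add x y hx hy => simp only [TensorProduct.tmul_add, map_add, hx, hy]
  refine hasTorDimLE_point (B := B) (R := R) (K := K) (R' := R') (fun s => ?_) (fun r => ?_) d hd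
  · rw [Algebra.TensorProduct.algebraMap_apply, hπ, map_one, mul_one]
    rfl
  · induction r using TensorProduct.induction_on with
    | zero => simp only [map_zero]
    | tmul x y =>
      change φ (algebraMap (B ⊗[A] B) B (x ⊗ₜ[A] y)) =
        algebraMap (K ⊗[A] B) K (Algebra.TensorProduct.map φ (AlgHom.id A B) (x ⊗ₜ[A] y))
      rw [Algebra.TensorProduct.map_tmul, AlgHom.id_apply, hπ, hmul, map_mul]
    | add x y hx hy => simp only [map_add, hx, hy]

end Groth.Agent.Synt44.DiagTor
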