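import Mathlib.RingTheory.Flat.EquationalCriterion
import Mathlib.RingTheory.LocalRing.ResidueField.Fiber
import Mathlib.RingTheory.MvPolynomial.Localization
import Mathlib.RingTheory.TensorProduct.MvPolynomial
import Mathlib.RingTheory.Ideal.Quotient.Operations
import Mathlib.RingTheory.Localization.Away.AdjoinRoot
import Mathlib.RingTheory.Polynomial.Basic
import Mathlib.Algebra.MvPolynomial.Equiv

/-!
# Lifting generators of the ideal of a flat algebra from a fibre
-/

set_option autoImplicit false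

universe u

open MvPolynomial TensorProduct

namespace Groth.Agent.Synt44

variable {R : Type u} [CommRing R]

theorem mem_map_mul_of_flat {P S : Type u} [CommRing P] [CommRing S] [Algebra R P] [Algebra R S] [Module.Flat R S]
    (f : P →ₐ[R] S) (hf : Function.Surjective f) (p : Ideal R) {x : P}
    (hI : x ∈ RingHom.ker f.toRingHom) (hp : x ∈ p.map (algebraMap R P)) :
    x ∈ p.map (algebraMap R P) * RingHom.ker f.toRingHom := by
  rw [Ideal.map, Submodule.mem_span_set'] at hp
  obtain ⟨l, m, g, hx⟩ := hp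
  choose a ha hag using fun i => (g i).2
  have hrel : ∑ i, a i • f (m i) = 0 := by
    have h1 : f x = 0 := hI
    rw [← hx, map_sum] at h1
    rw [← h1]
    refine Finset.sum_congr rfl fun i _ => ?_
    rw [← hag i, smul_eq_mul, map_mul, AlgHom.commutes, Algebra.smul_def, mul_comm]
  obtain ⟨k, b, t, ht, hb⟩ := Module.Flat.isTrivialRelation_of_sum_smul_eq_zero hrel
  choose v hv using fun j => hf (t j)
  have hi : ∀ i, m i - ∑ j, algebraMap R P (b i j) * v j ∈ RingHom.ker f.toRingHom := fun i => by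
    change f _ = 0
    rw [map_sub, map_sum, show f (m i) = _ from ht i, sub_eq_zero]
    refine Finset.sum_congr rfl fun j _ => ?_
    rw [map_mul, AlgHom.commutes, hv, Algebra.smul_def]
  have h0 : ∑ i, algebraMap R P (a i) * ∑ j, algebraMap R P (b i j) * v j = 0 := by
    simp_rw [Finset.mul_sum, ← mul_assoc, ← map_mul]
    rw [Finset.sum_comm]
    refine Finset.sum_eq_zero fun j _ => ?_
    rw [← Finset.sum_mul, ← map_sum, hb j, map_zero, zero_mul]
  have hx' : x = ∑ i, algebraMap R P (a i) * (m i - ∑ j, algebraMap R P (b i j) * v j) := by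
    simp_rw [mul_sub]
    rw [Finset.sum_sub_distrib, h0, sub_zero, ← hx]
    exact Finset.sum_congr rfl fun i _ => by rw [← hag i, smul_eq_mul, mul_comm]
  rw [hx']
  exact Ideal.sum_mem _ fun i _ => Ideal.mul_mem_mul (Ideal.mem_map_of_mem _ (ha i)) (hi i)

variable (p : Ideal R) [p.IsPrime] {n : ℕ}

/-- Reduction of polynomials to the residue field. -/
noncomputable abbrev red : MvPolynomial (Fin n) R →+* MvPolynomial (Fin n) p.ResidueField :=
  MvPolynomial.map (algebraMap R p.ResidueField)

theorem exists_residue (e : p.ResidueField) : ∃ a ∉ p, ∃ b : R, algebraMap R p.ResidueField a * e = algebraMap R p.ResidueField b := by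
  obtain ⟨a, ha, s, hs⟩ := Ideal.Fiber.exists_smul_eq_one_tmul p (S := R) (e ⊗ₜ[R] (1 : R))
  refine ⟨a, ha, s, ?_⟩
  have h := congrArg (Algebra.TensorProduct.rid R R p.ResidueField) hs
  simp only [map_smul, Algebra.TensorProduct.rid_tmul, one_smul] at h
  rw [← Algebra.smul_def, h, Algebra.algebraMap_eq_smul_one]

theorem exists_C_mul_red (z : MvPolynomial (Fin n) p.ResidueField) :
    ∃ a ∉ p, ∃ w : MvPolynomial (Fin n) R, C (algebraMap R p.ResidueField a) * z = red p w := by
  induction z using MvPolynomial.induction_on with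
  | C e =>
    obtain ⟨a, ha, b, hb⟩ := exists_residue p e
    exact ⟨a, ha, C b, by rw [← C_mul, hb, MvPolynomial.map_C]⟩
  | add z z' hz hz' =>
    obtain ⟨a, ha, w, hw⟩ := hz
    obtain ⟨a', ha', w', hw'⟩ := hz'
    refine ⟨a * a', Ideal.IsPrime.mul_notMem ‹_› ha ha', C a' * w + C a * w', ?_⟩
    rw [map_mul, C_mul, map_add, map_mul (red p), map_mul (red p), MvPolynomial.map_C, MvPolynomial.map_C, ← hw, ← hw']
    ring
  | mul_X z i hz =>
    obtain ⟨a, ha, w, hw⟩ := hz
    exact ⟨a, ha, w * X i, by rw [← mul_assoc, hw, map_mul, MvPolynomial.map_X]⟩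

theorem exists_C_mul_mem {I : Ideal (MvPolynomial (Fin n) R)} {z : MvPolynomial (Fin n) p.ResidueField}
    (hz : z ∈ I.map (red p)) : ∃ a ∉ p, ∃ w ∈ I, C (algebraMap R p.ResidueField a) * z = red p w := by
  rw [Ideal.map] at hz
  refine Submodule.span_induction (fun x hx => ?_) ⟨1, p.one_notMem, 0, I.zero_mem, by simp⟩ (fun x y _ _ hx hy => ?_)
    (fun c x _ hx => ?_) hz
  · obtain ⟨w, hw, rfl⟩ := hx
    exact ⟨1, p.one_notMem, w, hw, by simp⟩
  · obtain ⟨a, ha, w, hwI, hw⟩ := hx
    obtain ⟨a', ha', w', hwI', hw'⟩ := hy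
    refine ⟨a * a', Ideal.IsPrime.mul_notMem ‹_› ha ha', C a' * w + C a * w',
      I.add_mem (I.mul_mem_left _ hwI) (I.mul_mem_left _ hwI'), ?_⟩
    rw [map_mul, C_mul, map_add, map_mul (red p), map_mul (red p), MvPolynomial.map_C, MvPolynomial.map_C, ← hw, ← hw']
    ring
  · obtain ⟨a, ha, w, hwI, hw⟩ := hx
    obtain ⟨a', ha', w', hw'⟩ := exists_C_mul_red p c
    refine ⟨a * a', Ideal.IsPrime.mul_notMem ‹_› ha ha', w' * w, I.mul_mem_left _ hwI, ?_⟩
    rw [map_mul, C_mul, map_mul (red p), ← hw, ← hw', smul_eq_mul]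
    ring

theorem ker_red : RingHom.ker (red p (n := n)) = p.map (C (R := R)) := by
  rw [MvPolynomial.ker_map, Ideal.ker_algebraMap_residueField]

variable {S : Type u} [CommRing S] [Algebra R S]

/-- The presentation of a fibre. -/
theorem exists_fibre_presentation (f : MvPolynomial (Fin n) R →ₐ[R] S) (hf : Function.Surjective f) :
    ∃ g : MvPolynomial (Fin n) p.ResidueField →ₐ[p.ResidueField] p.Fiber S, Function.Surjective g ∧
      RingHom.ker g.toRingHom = (RingHom.ker f.toRingHom).map (red p) ∧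
      ∀ x, g (red p x) = 1 ⊗ₜ f x := by
  let K := p.ResidueField
  let e := algebraTensorAlgEquiv (σ := Fin n) R K
  let g₀ : K ⊗[R] MvPolynomial (Fin n) R →ₐ[K] K ⊗[R] S := Algebra.TensorProduct.map (AlgHom.id K K) f
  have hg₀ : Function.Surjective g₀ := Algebra.TensorProduct.map_surjective _ _ Function.surjective_id hf
  have hval : ∀ x, e.symm (red p x) = 1 ⊗ₜ x := fun x => algebraTensorAlgEquiv_symm_map R K x
  refine ⟨g₀.comp e.symm.toAlgHom, hg₀.comp e.symm.surjective, ?_, fun x => ?_⟩
  · have hk : RingHom.ker g₀.toRingHom = (RingHom.ker f.toRingHom).map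
        (Algebra.TensorProduct.includeRight : MvPolynomial (Fin n) R →ₐ[R] K ⊗[R] MvPolynomial (Fin n) R).toRingHom :=
      Algebra.TensorProduct.lTensor_ker (A := K) f hf
    change RingHom.ker (g₀.toRingHom.comp e.toRingEquiv.symm.toRingHom) = _
    rw [← RingHom.comap_ker, hk]
    rw [show red p = e.toRingEquiv.toRingHom.comp
        (Algebra.TensorProduct.includeRight : MvPolynomial (Fin n) R →ₐ[R] K ⊗[R] MvPolynomial (Fin n) R).toRingHom from
      RingHom.ext fun x => by
        change _ = e (1 ⊗ₜ x)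
        rw [← hval, AlgEquiv.apply_symm_apply], ← Ideal.map_map]
    exact (Ideal.map_comap_of_equiv e.toRingEquiv).symm
  · change g₀ (e.symm (red p x)) = _
    rw [hval]
    rfl

/-- A presentation of a basic open of affine space. -/
theorem exists_psi_ring (G : MvPolynomial (Fin n) R) :
    ∃ (ψ : MvPolynomial (Fin (n + 1)) R →ₐ[R] Localization.Away G) (h : MvPolynomial (Fin (n + 1)) R),
      Function.Surjective ψ ∧ RingHom.ker ψ.toRingHom = Ideal.span {h} := by
  let pol : Polynomial (MvPolynomial (Fin n) R) := Polynomial.C G * Polynomial.X - 1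
  let e := MvPolynomial.finSuccEquiv R n
  let a : AdjoinRoot pol ≃ₐ[R] Localization.Away G := ((Localization.awayEquivAdjoin G).restrictScalars R).symm
  let m : Polynomial (MvPolynomial (Fin n) R) →ₐ[R] AdjoinRoot pol := (Ideal.Quotient.mkₐ R (Ideal.span {pol}))
  refine ⟨(a.toAlgHom.comp m).comp e.toAlgHom, e.symm pol,
    (a.surjective.comp Ideal.Quotient.mk_surjective).comp e.surjective, ?_⟩
  ext z
  rw [RingHom.mem_ker, Ideal.mem_span_singleton]
  change a (m (e z)) = 0 ↔ _
  rw [EmbeddingLike.map_eq_zero_iff]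
  change Ideal.Quotient.mk (Ideal.span {pol}) (e z) = 0 ↔ _
  rw [Ideal.Quotient.eq_zero_iff_mem, Ideal.mem_span_singleton]
  exact ⟨fun hd => by simpa using map_dvd e.symm hd, fun hd => by simpa using map_dvd e hd⟩

end Groth.Agent.Synt44
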