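import Groth.Agent.Synt44.LocallyStandard

/-!
# Relative global complete intersection neighbourhoods from conditions at one prime
-/

set_option autoImplicit false

universe u

open MvPolynomial TensorProduct IsLocalRing

namespace Groth.Agent.Synt44

variable {R : Type u} [CommRing R] {S : Type u} [CommRing S] [Algebra R S]

theorem mem_map_mul_of_flat_atPrime {P : Type u} [CommRing P] [Algebra R P]
    (f : P →ₐ[R] S) (hf : Function.Surjective f) (p : Ideal R) (q : Ideal S) [q.IsPrime]
    (hflat : Module.Flat R (Localization.AtPrime q)) {x : P}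
    (hI : x ∈ RingHom.ker f.toRingHom) (hp : x ∈ p.map (algebraMap R P)) :
    ∃ σ : P, σ ∉ q.comap f.toRingHom ∧ σ * x ∈ p.map (algebraMap R P) * RingHom.ker f.toRingHom := by
  classical
  let L := Localization.AtPrime q
  let g : P →ₐ[R] L := (IsScalarTower.toAlgHom R S L).comp f
  rw [Ideal.map, Submodule.mem_span_set'] at hp
  obtain ⟨l, m, e, hx⟩ := hp
  choose a ha hag using fun i => (e i).2
  have hrel : ∑ i, algebraMap R L (a i) * g (m i) = 0 := by
    have h1 : g x = 0 := by
      change algebraMap S L (f x) = 0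
      rw [show f x = 0 from hI, map_zero]
    rw [← hx, map_sum] at h1
    rw [← h1]
    refine Finset.sum_congr rfl fun i _ => ?_
    rw [← hag i, smul_eq_mul, map_mul, AlgHom.commutes, mul_comm]
  obtain ⟨k, b, t, ht, hb⟩ := Module.Flat.isTrivialRelation_of_sum_smul_eq_zero (R := R) (M := L) (f := a)
    (x := fun i => g (m i)) (by simpa only [Algebra.smul_def] using hrel)
  -- a common denominator
  obtain ⟨u, hu⟩ := IsLocalization.exist_integer_multiples q.primeCompl (Finset.univ : Finset (Fin k)) t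
  choose v hv using fun j => hu j (Finset.mem_univ j)
  choose w hw using fun j => hf (v j)
  obtain ⟨σ₀, hσ₀⟩ := hf u
  have hi : ∀ i, ∃ τ : q.primeCompl, (τ : S) * f (σ₀ * m i - ∑ j, algebraMap R P (b i j) * w j) = 0 := fun i => by
    refine (IsLocalization.map_eq_zero_iff q.primeCompl L _).1 ?_
    change g _ = 0
    rw [map_sub, map_sum, map_mul, show g (m i) = _ from ht i, Finset.mul_sum, sub_eq_zero]
    refine Finset.sum_congr rfl fun j _ => ?_
    rw [map_mul, AlgHom.commutes, Algebra.smul_def, mul_left_comm]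
    change _ * (algebraMap S L (f σ₀) * t j) = _ * algebraMap S L (f (w j))
    rw [hσ₀, hw, hv]
    congr 1
    exact (Algebra.smul_def (u : S) (t j)).symm
  choose τ hτ using hi
  choose τ' hτ' using fun i => hf (τ i : S)
  refine ⟨(∏ i, τ' i) * σ₀, fun h2 => ?_, ?_⟩
  · rcases Ideal.IsPrime.mem_or_mem inferInstance h2 with h2 | h2
    · obtain ⟨i, -, hiQ⟩ := Ideal.IsPrime.prod_mem_iff.1 h2
      exact (τ i).2 (hτ' i ▸ hiQ)
    · exact u.2 (hσ₀ ▸ h2)
  have h0 : ∑ i, algebraMap R P (a i) * ∑ j, algebraMap R P (b i j) * w j = 0 := by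
    simp_rw [Finset.mul_sum, ← mul_assoc, ← map_mul]
    rw [Finset.sum_comm]
    refine Finset.sum_eq_zero fun j _ => ?_
    rw [← Finset.sum_mul, ← map_sum, hb j, map_zero, zero_mul]
  have hx' : σ₀ * x = ∑ i, algebraMap R P (a i) * (σ₀ * m i - ∑ j, algebraMap R P (b i j) * w j) := by
    simp_rw [mul_sub]
    rw [Finset.sum_sub_distrib, h0, sub_zero, ← hx, Finset.mul_sum]
    exact Finset.sum_congr rfl fun i _ => by rw [← hag i, smul_eq_mul]; ring
  rw [mul_assoc, hx', Finset.mul_sum]
  refine Ideal.sum_mem _ fun i _ => ?_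
  rw [mul_left_comm]
  refine Ideal.mul_mem_mul (Ideal.mem_map_of_mem _ (ha i)) ?_
  obtain ⟨e, he⟩ := Finset.dvd_prod_of_mem τ' (Finset.mem_univ i)
  change f _ = 0
  rw [he, map_mul, map_mul, hτ', mul_comm (τ i : S), mul_assoc, hτ, mul_zero]

set_option maxHeartbeats 1000000 in
/-- A syntomic algebra is a relative global complete intersection near each prime. -/
theorem exists_relGCI_of_local [hfp : Algebra.FinitePresentation R S] (q : Ideal S) [q.IsPrime]
    (hflat : Module.Flat R (Localization.AtPrime q)) (Qf : PrimeSpectrum ((q.under R).Fiber S))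
    (hQf : Qf.asIdeal.comap Algebra.TensorProduct.includeRight.toRingHom = q)
    (hci : Synt.IsCIOver (q.under R).ResidueField (Localization.AtPrime Qf.asIdeal)) :
    ∃ g ∉ q, ∃ (n c : ℕ) (F : Fin c → MvPolynomial (Fin n) R), Synt.IsRelGCI R n c F ∧
      Nonempty (Synt.RelGCIRing R n c F ≃ₐ[R] Localization.Away g) := by
  classical
  obtain ⟨n, f, hf, hIfg⟩ := hfp.out
  let P := MvPolynomial (Fin n) R
  let I : Ideal P := RingHom.ker f.toRingHom
  let p : Ideal R := q.under R
  let K := p.ResidueField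
  obtain ⟨gK, hgK, hkgK, hgK'⟩ := exists_fibre_presentation p f hf
  let Qb : Ideal (MvPolynomial (Fin n) K) := Qf.asIdeal.comap gK.toRingHom
  let W := Localization.AtPrime Qb
  let Q : Ideal P := q.comap f.toRingHom
  have hQ : ∀ x : P, red p x ∈ Qb ↔ x ∈ Q := fun x => by
    change gK (red p x) ∈ Qf.asIdeal ↔ f x ∈ q
    rw [hgK']
    exact SetLike.ext_iff.1 hQf (f x)
  have hIQ : I ≤ Q := fun x hx => by
    change f x ∈ q
    rw [show f x = 0 from hx]; exact zero_mem _
  -- the regular sequence in the fibre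
  haveI : Algebra.FiniteType R S := inferInstance
  obtain ⟨π, hπ, hkπ⟩ := exists_presentation_atPrime gK hgK Qf.asIdeal
  haveI := isRegularLocalRing_atPrime Qb
  obtain ⟨ys, hys, hspan⟩ := isRegularIdeal_ker_of_isCIOver hci π hπ
  rw [hkπ] at hspan
  obtain ⟨hcn, hdim⟩ := localDim_le gK hgK Qf ys hys hspan
  set c := ys.length with hc
  rw [hkgK] at hspan
  choose w hwI v hv hwv using fun j : Fin c => exists_unit_mul_red p I Qb (ys.get j)
    (hspan ▸ Ideal.subset_span (List.get_mem ys j))
  let J : Ideal P := Ideal.span (Set.range w)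
  have hJI : J ≤ I := Ideal.span_le.2 (by rintro _ ⟨j, rfl⟩; exact hwI j)
  have hgen : (I.map (red p)).map (algebraMap _ W) ≤ (J.map (red p)).map (algebraMap _ W) := by
    rw [← hspan, Ideal.ofList, Ideal.span_le]
    intro y (hy : y ∈ ys)
    obtain ⟨j, rfl⟩ := List.get_of_mem hy
    have h1 := Ideal.mem_map_of_mem (algebraMap _ W)
      (Ideal.mem_map_of_mem (red p) (show w j ∈ J from Ideal.subset_span ⟨j, rfl⟩))
    rw [hwv] at h1
    exact (Ideal.unit_mul_mem_iff_mem _ (hv j)).1 h1
  -- Nakayama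
  let L := Localization.AtPrime Q
  have hsm : ∀ x ∈ I, ∃ s : P, s ∉ Q ∧ s * x ∈ J ⊔ p.map (algebraMap R P) * I := fun x hx => by
    obtain ⟨t, ht, htx⟩ := (IsLocalization.algebraMap_mem_map_algebraMap_iff Qb.primeCompl W _ _).1
      (hgen (Ideal.mem_map_of_mem _ (Ideal.mem_map_of_mem (red p) hx)))
    obtain ⟨a, ha, s, hs⟩ := exists_C_mul_red p t
    have h1 : red p (s * x) ∈ J.map (red p) := by
      rw [map_mul, ← hs, mul_assoc]; exact Ideal.mul_mem_left _ _ htx
    obtain ⟨a', ha', j, hj, hj'⟩ := exists_C_mul_mem p h1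
    have hsQ : s ∉ Q := fun h2 => by
      have h3 := (hQ s).2 h2
      rw [← hs] at h3
      exact ht ((Ideal.unit_mul_mem_iff_mem _ ((isUnit_iff_ne_zero.2 fun h0 => ha (Ideal.algebraMap_residueField_eq_zero.1 h0)).map C)).1 h3)
    have ha'Q : C a' ∉ Q := fun h2 => ha' (by
      have h3 : f (C a') ∈ q := h2
      rw [← MvPolynomial.algebraMap_eq, AlgHom.commutes] at h3
      exact h3)
    suffices h' : ∃ σ : P, σ ∉ Q ∧ σ * (C a' * (s * x) - j) ∈ p.map (algebraMap R P) * I by
      obtain ⟨σ, hσ, hσk⟩ := h'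
      refine ⟨σ * (C a' * s), fun h2 => (Ideal.IsPrime.mem_or_mem inferInstance h2).elim hσ
        fun h3 => (Ideal.IsPrime.mem_or_mem inferInstance h3).elim ha'Q hsQ, ?_⟩
      rw [show σ * (C a' * s) * x = σ * j + σ * (C a' * (s * x) - j) by ring]
      exact Submodule.add_mem_sup (J.mul_mem_left σ hj) hσk
    have hk : C a' * (s * x) - j ∈ p.map (algebraMap R P) := by
      rw [MvPolynomial.algebraMap_eq, ← ker_red]
      change red p _ = 0
      rw [map_sub, map_mul, MvPolynomial.map_C, hj', sub_self]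
    have hI' : C a' * (s * x) - j ∈ I := sub_mem (I.mul_mem_left _ (I.mul_mem_left _ hx)) (hJI hj)
    exact mem_map_mul_of_flat_atPrime f hf p q hflat hI' hk
  have hpQ : (p.map (algebraMap R P)).map (algebraMap P L) ≤ Ring.jacobson L := by
    rw [IsLocalRing.ringJacobson_eq_maximalIdeal, ← Localization.AtPrime.map_eq_maximalIdeal]
    refine Ideal.map_mono (Ideal.map_le_iff_le_comap.2 fun a ha => ?_)
    change f (algebraMap R P a) ∈ q
    rw [AlgHom.commutes]; exact ha
  have hnak : I.map (algebraMap P L) ≤ J.map (algebraMap P L) := by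
    refine Submodule.le_of_le_smul_of_le_jacobson_bot (I := (p.map (algebraMap R P)).map (algebraMap P L))
      (Ideal.FG.map hIfg _) (by rwa [← Ideal.jacobson_bot] at hpQ) ?_
    rw [Ideal.map_le_iff_le_comap]
    intro x hx
    obtain ⟨s, hs, hsx⟩ := hsm x hx
    have h1 := Ideal.mem_map_of_mem (algebraMap P L) hsx
    rw [Ideal.map_sup, Ideal.map_mul, map_mul] at h1
    exact (Ideal.unit_mul_mem_iff_mem _ (IsLocalization.map_units L (⟨s, hs⟩ : Q.primeCompl))).1 h1
  -- spreading out
  obtain ⟨t, ht⟩ := hIfg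
  have hm : ∀ i ∈ t, ∃ m ∉ Q, m * i ∈ J := fun i hi => by
    obtain ⟨m, hm, hmi⟩ := (IsLocalization.algebraMap_mem_map_algebraMap_iff Q.primeCompl L _ i).1
      (hnak (Ideal.mem_map_of_mem _ (show i ∈ I from ht.le (Ideal.subset_span hi))))
    exact ⟨m, hm, hmi⟩
  choose! m hmQ hmJ using hm
  -- the dimension bound
  haveI : q.LiesOver p := ⟨rfl⟩
  obtain ⟨g₀, hg₀, φ, -, hφ⟩ := RelDim.exists_quasiFinite_away R S p q Qf hQf (n - c) hdim
  obtain ⟨G₀, hG₀⟩ := hf g₀
  let G : P := G₀ * ∏ i ∈ t, m i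
  have hGQ : G ∉ Q := fun h2 => by
    rcases Ideal.IsPrime.mem_or_mem inferInstance h2 with h2 | h2
    · exact hg₀ (hG₀ ▸ h2)
    · obtain ⟨i, hi, hiQ⟩ := (Ideal.IsPrime.prod_mem_iff).1 h2
      exact hmQ i hi hiQ
  let PG := Localization.Away G
  have hu : IsUnit (algebraMap P PG (∏ i ∈ t, m i)) := by
    have := IsLocalization.Away.algebraMap_isUnit (S := PG) G
    rw [map_mul] at this
    exact isUnit_of_mul_isUnit_right this
  have hIG : I.map (algebraMap P PG) = J.map (algebraMap P PG) := by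
    refine le_antisymm ?_ (Ideal.map_mono hJI)
    rw [show I = Ideal.span (t : Set P) from ht.symm, Ideal.map_span, Ideal.span_le]
    rintro _ ⟨i, hi, rfl⟩
    have h1 := Ideal.mem_map_of_mem (algebraMap P PG) (hmJ i hi)
    rw [map_mul] at h1
    obtain ⟨e, he⟩ := Finset.dvd_prod_of_mem m hi
    rw [he, map_mul] at hu
    exact (Ideal.unit_mul_mem_iff_mem _ (isUnit_of_mul_isUnit_left hu)).1 h1
  -- the presentation
  obtain ⟨ψ, h₁, hψ, hkψ⟩ := exists_psi_ring G
  haveI : IsLocalization ((Submonoid.powers G).map f.toRingHom) (Localization.Away (f G)) := by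
    rw [Submonoid.map_powers]; exact inferInstanceAs (IsLocalization (Submonoid.powers (f G)) _)
  have hu' : ∀ y : Submonoid.powers G,
      IsUnit (((IsScalarTower.toAlgHom R S (Localization.Away (f G))).comp f) y) := by
    rintro ⟨_, k, rfl⟩
    simpa using (IsLocalization.Away.algebraMap_isUnit (S := Localization.Away (f G)) (f G)).pow k
  let χ : PG →ₐ[R] Localization.Away (f G) := IsLocalization.liftAlgHom hu'
  have hχe : χ.toRingHom = IsLocalization.map (S := PG) (T := (Submonoid.powers G).map f.toRingHom)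
      (Localization.Away (f G)) f.toRingHom (Submonoid.powers G).le_comap_map := by
    refine IsLocalization.ringHom_ext (Submonoid.powers G) ?_
    rw [IsLocalization.map_comp]
    exact IsLocalization.lift_comp hu'
  have hχ : Function.Surjective χ := by
    change Function.Surjective χ.toRingHom
    rw [hχe]
    exact IsLocalization.map_surjective_of_surjective (M := Submonoid.powers G) (S := PG)
      (Q := Localization.Away (f G)) (g := f.toRingHom) (h := hf)
  have hkχ : RingHom.ker χ.toRingHom = I.map (algebraMap P PG) := by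
    rw [hχe]
    exact IsLocalization.ker_map (Q := Localization.Away (f G)) (S := PG) (g := f.toRingHom) rfl
  choose F₀ hF₀ using fun j : Fin c => hψ (algebraMap P PG (w j))
  let F : Fin (c + 1) → MvPolynomial (Fin (n + 1)) R := Fin.cons h₁ F₀
  have hkF : RingHom.ker (χ.comp ψ).toRingHom = Ideal.span (Set.range F) := by
    change RingHom.ker (χ.toRingHom.comp ψ.toRingHom) = _
    rw [← RingHom.comap_ker, hkχ, hIG, Ideal.map_span, ← Set.range_comp,
      show (algebraMap P PG) ∘ w = ψ.toRingHom ∘ F₀ from funext fun j => (hF₀ j).symm,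
      Set.range_comp, ← Ideal.map_span, Fin.range_cons, Ideal.span_insert, sup_comm, ← hkψ]
    exact Ideal.comap_map_of_surjective' _ hψ _
  let e : Synt.RelGCIRing R (n + 1) (c + 1) F ≃ₐ[R] Localization.Away (f G) :=
    (Ideal.quotientEquivAlgOfEq R hkF.symm).trans
      (Ideal.quotientKerAlgEquivOfSurjective (f := χ.comp ψ) (hχ.comp hψ))
  refine ⟨f G, hGQ, n + 1, c + 1, F, fun p' hnt => ⟨by omega, ?_⟩, ⟨e⟩⟩
  rw [Nat.add_sub_add_right]
  refine le_antisymm ?_ ?_
  · let K' := p'.asIdeal.ResidueField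
    let e₁ : p'.asIdeal.Fiber (Synt.RelGCIRing R (n + 1) (c + 1) F) ≃ₐ[K']
        Localization.Away ((1 : K') ⊗ₜ[R] f G : p'.asIdeal.Fiber S) :=
      (Algebra.TensorProduct.congr AlgEquiv.refl e).trans
        (IsLocalization.Away.tensorProductEquivTMulRight R K' (f G) (Localization.Away (f G)))
    rw [ringKrullDim_eq_of_ringEquiv e₁.toRingEquiv]
    have hG : f G = f (∏ i ∈ t, m i) * g₀ := by rw [map_mul, hG₀, mul_comm]
    let T₀ := Localization.Away ((1 : K') ⊗ₜ[R] g₀ : p'.asIdeal.Fiber S)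
    refine le_trans ?_ (RelDim.ringKrullDim_fibre_away_le R S (n - c) g₀ φ hφ p'.asIdeal)
    let z : T₀ := algebraMap _ T₀ ((1 : K') ⊗ₜ[R] f (∏ i ∈ t, m i) : p'.asIdeal.Fiber S)
    haveI : IsLocalization.Away ((1 : K') ⊗ₜ[R] f G : p'.asIdeal.Fiber S) (Localization.Away z) := by
      rw [show ((1 : K') ⊗ₜ[R] f G : p'.asIdeal.Fiber S) = ((1 : K') ⊗ₜ[R] g₀) * ((1 : K') ⊗ₜ[R] f (∏ i ∈ t, m i)) by
        rw [Algebra.TensorProduct.tmul_mul_tmul, mul_one, hG, mul_comm]]
      exact IsLocalization.Away.mul' T₀ (Localization.Away z) _ _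
    rw [ringKrullDim_eq_of_ringEquiv (IsLocalization.algEquiv (Submonoid.powers ((1 : K') ⊗ₜ[R] f G : p'.asIdeal.Fiber S))
      (Localization.Away ((1 : K') ⊗ₜ[R] f G : p'.asIdeal.Fiber S)) (Localization.Away z)).toRingEquiv]
    exact Order.krullDim_le_of_strictMono (PrimeSpectrum.comap (algebraMap T₀ (Localization.Away z)))
      (Monotone.strictMono_of_injective (fun a b hab => Ideal.comap_mono hab)
        (PrimeSpectrum.localization_comap_injective (Localization.Away z) (Submonoid.powers z)))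
  · obtain ⟨e₂⟩ := RelGCI.nonempty_fiberEquiv F p'.asIdeal
    rw [ringKrullDim_eq_of_ringEquiv e₂.toRingEquiv]
    have hne : Ideal.span (Set.range fun i => MvPolynomial.map (algebraMap R p'.asIdeal.ResidueField) (F i)) ≠ ⊤ :=
      Ideal.Quotient.nontrivial_iff.1 e₂.toEquiv.symm.nontrivial
    have := le_ringKrullDim_quotient _ hne
    rwa [Nat.add_sub_add_right] at this

end Groth.Agent.Synt44
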